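import Cfsg.Agent.H914.Sub
import Cfsg.Agent.H919.AschDefs

/-!
# Subfield part, continued (helper914): main theorem (D), extra unitary forms (D3), quadratic forms (D4)
-/

set_option autoImplicit false
set_option linter.unusedSectionVars false

namespace Cfsg.Agent.H914

open Cfsg Cfsg.Geo
open Cfsg.Agent.H919 (HermForm)
open scoped MatrixGroups Matrix

variable {ι : Type} [Fintype ι] [DecidableEq ι] {F : Type*} [Field F]

theorem IsSesq.of_herm {σ : F ≃+* F} {ε : F} {f : (ι → F) → (ι → F) → F} (hf : HermForm σ ε f) :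
    IsSesq σ f :=
  ⟨hf.add_left, hf.smul_left, hf.add_right, fun c v x => hf.smul_right v c x⟩

/-- The main theorem of part (D), form-free: `P` absolutely irreducible, normalised by `H`, realisable over a proper
subfield `F₀` of the finite field `F`. -/
theorem exists_le_subfieldSubgroup [Finite F] {H P : Subgroup (GL ι F)}
    (hn : ∀ h ∈ H, ∀ x ∈ P, h * x * h⁻¹ ∈ P) (hirr : ActsAbsolutelyIrreducibly (matrixSet P))
    {F₀ : Subfield F} (h0 : F₀ ≠ ⊤) (hreal : RealisableOver F₀ (matrixSet P)) :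
    ∃ (F₁ : Subfield F) (r : ℕ) (B : GL ι F), F₀ ≤ F₁ ∧ F₁ ≠ ⊤ ∧ r.Prime ∧ Nat.card F = Nat.card F₁ ^ r ∧
      (∀ s ∈ matrixSet P, ∀ i j, (((B⁻¹ : GL ι F) : Matrix ι ι F) * s * (B : Matrix ι ι F)) i j ∈ F₁) ∧
      H ≤ subfieldSubgroup F₁ B := by
  obtain ⟨F₁, h01, h1, r, hr, hcard⟩ := exists_prime_index_subfield F₀ h0
  obtain ⟨B, hB⟩ := hreal
  refine ⟨F₁, r, B⁻¹, h01, h1, hr, hcard, ?_, ?_⟩
  · intro s hs i j
    rw [inv_inv]
    exact h01 (hB s hs i j)
  · exact le_subfieldSubgroup hn hirr (fun s hs i j => h01 (hB s hs i j))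

/-- The main theorem of part (D) with a nondegenerate sesquilinear form fixed by `P`. -/
theorem exists_le_subfieldSubgroup_form [Finite F] {H P : Subgroup (GL ι F)}
    (hn : ∀ h ∈ H, ∀ x ∈ P, h * x * h⁻¹ ∈ P) (hirr : ActsAbsolutelyIrreducibly (matrixSet P))
    {F₀ : Subfield F} (h0 : F₀ ≠ ⊤) (hreal : RealisableOver F₀ (matrixSet P))
    {σ : F ≃+* F} {f : (ι → F) → (ι → F) → F} (hf : IsSesq σ f) (hfn : IsNondegenerateForm f)
    (hfP : FixesForm (matrixSet P) f) :
    ∃ (F₁ : Subfield F) (r : ℕ) (B : GL ι F) (ζ : F), F₀ ≤ F₁ ∧ F₁ ≠ ⊤ ∧ r.Prime ∧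
      Nat.card F = Nat.card F₁ ^ r ∧ ζ ≠ 0 ∧ IsFormRationalStructure f F₁ ζ B ∧
      (∀ s ∈ matrixSet P, ∀ i j, (((B⁻¹ : GL ι F) : Matrix ι ι F) * s * (B : Matrix ι ι F)) i j ∈ F₁) ∧
      H ≤ subfieldSubgroup F₁ B := by
  obtain ⟨F₁, r, B, h01, h1, hr, hcard, hB, hH⟩ := exists_le_subfieldSubgroup hn hirr h0 hreal
  obtain ⟨ζ, hζ, hrat⟩ := exists_isFormRationalStructure hirr (F₀ := F₁) (B := B⁻¹)
    (fun s hs i j => by rw [inv_inv]; exact hB s hs i j) (fun x hx => map_mem_subfield σ F₁ hx) hf hfn hfP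
  rw [inv_inv] at hrat
  exact ⟨F₁, r, B, ζ, h01, h1, hr, hcard, hζ, hrat, hB, hH⟩

/-! ### (D3) fixing a bilinear and a unitary form -/

/-- `(D3)` An absolutely irreducible group over a finite field fixing two nondegenerate sesquilinear forms, one bilinear
and one `σ`-sesquilinear, is realisable over the fixed field of `σ`. -/
theorem realisableOver_of_two_forms [Finite F] {P : Subgroup (GL ι F)}
    (hirr : ActsAbsolutelyIrreducibly (matrixSet P)) {σ : F ≃+* F}
    {f g : (ι → F) → (ι → F) → F} (hf : IsSesq (RingEquiv.refl F) f) (hfn : IsNondegenerateForm f)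
    (hfP : FixesForm (matrixSet P) f) (hg : IsSesq σ g) (hgn : IsNondegenerateForm g)
    (hgP : FixesForm (matrixSet P) g) : RealisableOver (fixedBy σ) (matrixSet P) := by
  set G := gramMatrix f with hG
  set A := gramMatrix g with hA
  have hGu : IsUnit G.det := isUnit_iff_ne_zero.mpr (det_gram_ne_zero hf hfn)
  have hAu : IsUnit A.det := isUnit_iff_ne_zero.mpr (det_gram_ne_zero hg hgn)
  refine realisableOver_of_twist hirr σ (X := A⁻¹ * G) ?_ ?_
  · rw [Matrix.isUnit_iff_isUnit_det, Matrix.det_mul]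
    exact ((Matrix.isUnit_nonsing_inv_det_iff).mpr hAu).mul hGu
  · intro s hs
    have h1 := fixes_gram hf (hfP s hs)
    have h2 := fixes_gram hg (hgP s hs)
    have hs1 : s.map (RingEquiv.refl F) = s := by ext i j; rfl
    rw [← hG, hs1] at h1
    rw [← hA] at h2
    -- `sᵀ G s = G`, `sᵀ A σ(s) = A`
    have hst : IsUnit (sᵀ).det := by
      have h3 := congrArg Matrix.det h1
      rw [Matrix.det_mul, Matrix.det_mul] at h3
      rw [isUnit_iff_ne_zero]
      intro h4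
      rw [h4, zero_mul, zero_mul] at h3
      exact hGu.ne_zero h3.symm
    have e1 : A * s.map σ = (sᵀ)⁻¹ * A := by
      calc A * s.map σ = ((sᵀ)⁻¹ * sᵀ) * (A * s.map σ) := by rw [Matrix.nonsing_inv_mul _ hst, Matrix.one_mul]
        _ = (sᵀ)⁻¹ * (sᵀ * A * s.map σ) := by simp only [mul_assoc]
        _ = (sᵀ)⁻¹ * A := by rw [h2]
    have e2 : G * s = (sᵀ)⁻¹ * G := by
      calc G * s = ((sᵀ)⁻¹ * sᵀ) * (G * s) := by rw [Matrix.nonsing_inv_mul _ hst, Matrix.one_mul]
        _ = (sᵀ)⁻¹ * (sᵀ * G * s) := by simp only [mul_assoc]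
        _ = (sᵀ)⁻¹ * G := by rw [h1]
    calc s.map σ * (A⁻¹ * G) = (A⁻¹ * A) * s.map σ * (A⁻¹ * G) := by
          rw [Matrix.nonsing_inv_mul _ hAu, Matrix.one_mul]
      _ = A⁻¹ * (A * s.map σ) * (A⁻¹ * G) := by simp only [mul_assoc]
      _ = A⁻¹ * ((sᵀ)⁻¹ * A) * (A⁻¹ * G) := by rw [e1]
      _ = A⁻¹ * (sᵀ)⁻¹ * (A * A⁻¹) * G := by simp only [mul_assoc]
      _ = A⁻¹ * ((sᵀ)⁻¹ * G) := by rw [Matrix.mul_nonsing_inv _ hAu, Matrix.mul_one, mul_assoc]
      _ = (A⁻¹ * G) * s := by rw [← e2, mul_assoc]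

/-- `(D3')` In the residual-class definitions: under `no_subfield`, an absolutely irreducible group which fixes a
nondegenerate bilinear form fixes no nondegenerate unitary form. -/
theorem not_fixes_unitary_of_bilinear [Finite F] {P : Subgroup (GL ι F)}
    (hirr : ActsAbsolutelyIrreducibly (matrixSet P))
    (hns : ∀ F₀ : Subfield F, F₀ ≠ ⊤ → ¬ RealisableOver F₀ (matrixSet P))
    {f : (ι → F) → (ι → F) → F} (hf : IsSesq (RingEquiv.refl F) f) (hfn : IsNondegenerateForm f)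
    (hfP : FixesForm (matrixSet P) f) :
    ¬ ∃ (σ : F ≃+* F) (g : (ι → F) → (ι → F) → F), IsUnitaryForm σ g ∧ FixesForm (matrixSet P) g := by
  rintro ⟨σ, g, hg, hgP⟩
  exact hns _ (fixedBy_ne_top hg.ne_refl)
    (realisableOver_of_two_forms hirr hf hfn hfP (IsSesq.of_unitary hg) hg.nondegenerate hgP)

/-- `(D3'')` The same with the roles exchanged: under `no_subfield`, an absolutely irreducible group which fixes a
nondegenerate unitary form fixes no nondegenerate bilinear form. -/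
theorem not_fixes_bilinear_of_unitary [Finite F] {P : Subgroup (GL ι F)}
    (hirr : ActsAbsolutelyIrreducibly (matrixSet P))
    (hns : ∀ F₀ : Subfield F, F₀ ≠ ⊤ → ¬ RealisableOver F₀ (matrixSet P))
    {σ : F ≃+* F} (hσ : σ ≠ RingEquiv.refl F) {g : (ι → F) → (ι → F) → F} (hg : IsSesq σ g)
    (hgn : IsNondegenerateForm g) (hgP : FixesForm (matrixSet P) g) :
    ¬ ∃ f : (ι → F) → (ι → F) → F, IsSesq (RingEquiv.refl F) f ∧ IsNondegenerateForm f ∧
      FixesForm (matrixSet P) f := by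
  rintro ⟨f, hf, hfn, hfP⟩
  exact hns _ (fixedBy_ne_top hσ) (realisableOver_of_two_forms hirr hf hfn hfP hg hgn hgP)

end Cfsg.Agent.H914
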