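import Cfsg.Agent.H914.Rat
import Cfsg.Agent.S0752

/-!
# Unitary normal form of rational structures (helper914)
-/

set_option autoImplicit false
set_option linter.unusedSectionVars false

namespace Cfsg.Agent.H914

open Cfsg Cfsg.Geo
open Cfsg.Agent.H919 (HermForm)
open scoped MatrixGroups Matrix

variable {ι : Type} [Fintype ι] [DecidableEq ι] {F : Type*} [Field F]

/-! ### Alternating nondegenerate forms live in even dimension -/

theorem even_card_of_alternating_gram (M : Matrix ι ι F) (h1 : ∀ i, M i i = 0)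
    (h2 : ∀ i j, M i j = - M j i) (hdet : M.det ≠ 0) : Even (Fintype.card ι) := by
  let b : LinearMap.BilinForm F (ι → F) := Matrix.toBilin' M
  have hb : ∀ u v, b u v = u ⬝ᵥ (M *ᵥ v) := fun u v => Matrix.toBilin'_apply' M u v
  have halt : b.IsAlt := by
    intro v
    rw [hb]
    unfold dotProduct Matrix.mulVec dotProduct
    have e1 : ∑ i, v i * ∑ j, M i j * v j = ∑ i, ∑ j, v i * M i j * v j := by
      refine Finset.sum_congr rfl fun i _ => ?_
      rw [Finset.mul_sum]
      exact Finset.sum_congr rfl fun j _ => by ring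
    rw [e1]
    have e2 : ∑ i, ∑ j, v i * M i j * v j =
        ∑ p ∈ (Finset.univ : Finset ι) ×ˢ (Finset.univ : Finset ι), v p.1 * M p.1 p.2 * v p.2 :=
      (Finset.sum_product' _ _ (fun i j => v i * M i j * v j)).symm
    rw [e2]
    refine Finset.sum_involution (fun p _ => (p.2, p.1)) ?_ ?_ ?_ ?_
    · rintro ⟨i, j⟩ _
      simp only
      rw [h2 i j]; ring
    · rintro ⟨i, j⟩ _ hne heq
      apply hne
      have : i = j := (Prod.mk.inj heq).1.symm
      subst this
      simp [h1]
    · intro p _; simp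
    · rintro ⟨i, j⟩ _; rfl
  obtain ⟨m, k, bb, -, -, -, hrad⟩ := S0752.aux (Module.finrank F (ι → F)) (ι → F) b halt rfl
  have hk : k = 0 := by
    rcases Nat.eq_zero_or_pos k with h | h
    · exact h
    · exfalso
      have hz : bb (Sum.inr ⟨0, h⟩) ≠ 0 := bb.ne_zero _
      apply hz
      -- `w ⬝ M v = 0` for all v, so `Mᵀ w = 0`
      have h3 : ∀ v, bb (Sum.inr ⟨0, h⟩) ⬝ᵥ (M *ᵥ v) = 0 := fun v => by rw [← hb]; exact hrad _ v
      have h4 : Mᵀ *ᵥ bb (Sum.inr ⟨0, h⟩) = 0 := by
        rw [Matrix.mulVec_transpose]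
        funext j
        have := h3 (Pi.single j 1)
        rw [Matrix.dotProduct_mulVec] at this
        simpa using this
      by_contra hne
      exact (Matrix.exists_mulVec_eq_zero_iff.mp ⟨_, hz, h4⟩ |> fun h5 => hdet (by rwa [Matrix.det_transpose] at h5))
  subst hk
  have h5 : Fintype.card ι = m + m := by
    rw [← Module.finrank_fintype_fun_eq_card F, Module.finrank_eq_card_basis bb]
    simp
  exact ⟨m, h5⟩

theorem even_card_of_symplectic {f : (ι → F) → (ι → F) → F} (hf : IsSymplecticForm f) :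
    Even (Fintype.card ι) := by
  have hs := IsSesq.of_bilinear hf.bilinear
  exact even_card_of_alternating_gram (gramMatrix f) (fun i => hf.alternating _)
    (fun i j => hf.skew _ _) (det_gram_ne_zero hs hf.nondegenerate)

/-! ### Involutory field automorphisms -/

theorem orderOf_autOver [Finite F] {σ : F ≃+* F} (hσ : σ ≠ RingEquiv.refl F) (hσ2 : ∀ a, σ (σ a) = a) :
    orderOf (autOver σ) = 2 := by
  have : Fact (Nat.Prime 2) := ⟨Nat.prime_two⟩
  refine orderOf_eq_prime ?_ ?_
  · ext x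
    rw [pow_two]
    exact hσ2 x
  · intro h
    apply hσ
    ext x
    exact AlgEquiv.congr_fun h x

theorem card_eq_card_fixedBy_sq [Finite F] {σ : F ≃+* F} (hσ : σ ≠ RingEquiv.refl F)
    (hσ2 : ∀ a, σ (σ a) = a) : Nat.card F = Nat.card (fixedBy σ) ^ 2 := by
  have h1 : Nat.card (F ≃ₐ[fixedBy σ] F) = 2 := by
    rw [← orderOf_autOver hσ hσ2, ← Nat.card_zpowers, zpowers_autOver]
    exact (Nat.card_congr (Equiv.Set.univ _)).symm
  have h2 : Module.finrank (fixedBy σ) F = 2 := by
    rw [← IsGalois.card_aut_eq_finrank, h1]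
  rw [← h2]
  exact Module.natCard_eq_pow_finrank (K := fixedBy σ) (V := F)

theorem exists_mul_sigma_eq [Finite F] {σ : F ≃+* F} (hσ : σ ≠ RingEquiv.refl F)
    (hσ2 : ∀ a, σ (σ a) = a) {c : F} (hc : σ c = c) : ∃ μ : F, μ * σ μ = c := by
  obtain ⟨μ, hμ⟩ := exists_prod_eq σ hc
  refine ⟨μ, ?_⟩
  rw [orderOf_autOver hσ hσ2, Finset.prod_range_succ, Finset.prod_range_one, pow_zero, pow_one] at hμ
  exact hμ

/-! ### Scaling a change of basis -/

/-- `c • B` as an invertible matrix. -/
def scaleGL (c : F) (hc : c ≠ 0) (B : GL ι F) : GL ι F :=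
  Units.map (Matrix.scalar ι : F →+* Matrix ι ι F).toMonoidHom (Units.mk0 c hc) * B

theorem scaleGL_val (c : F) (hc : c ≠ 0) (B : GL ι F) :
    ((scaleGL c hc B : GL ι F) : Matrix ι ι F) = c • (B : Matrix ι ι F) := by
  unfold scaleGL
  rw [Units.val_mul]
  simp [Matrix.smul_eq_diagonal_mul]

theorem subfieldSubgroup_scaleGL (F₀ : Subfield F) (c : F) (hc : c ≠ 0) (B : GL ι F) :
    subfieldSubgroup F₀ (scaleGL c hc B) = subfieldSubgroup F₀ B := by
  ext g
  rw [mem_subfieldSubgroup_iff, mem_subfieldSubgroup_iff]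
  have h : (scaleGL c hc B)⁻¹ * g * scaleGL c hc B = B⁻¹ * g * B := by
    apply Units.ext
    have h1 : ((scaleGL c hc B)⁻¹ : GL ι F) = scaleGL c⁻¹ (inv_ne_zero hc) (B⁻¹) := by
      rw [inv_eq_iff_mul_eq_one]
      apply Units.ext
      rw [Units.val_mul, scaleGL_val, scaleGL_val, Matrix.smul_mul, Matrix.mul_smul, smul_smul,
        mul_inv_cancel₀ hc, one_smul, ← Units.val_mul, mul_inv_cancel, Units.val_one]
    rw [h1, Units.val_mul, Units.val_mul, scaleGL_val, scaleGL_val, Matrix.smul_mul, Matrix.smul_mul,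
      Matrix.mul_smul, smul_smul, inv_mul_cancel₀ hc, one_smul, Units.val_mul, Units.val_mul]
  rw [h]

/-! ### The normal form -/

theorem nondegenerate_comp {f : (ι → F) → (ι → F) → F} (hf : IsNondegenerateForm f) (B : GL ι F) :
    IsNondegenerateForm (fun u v => f ((B : Matrix ι ι F) *ᵥ u) ((B : Matrix ι ι F) *ᵥ v)) := by
  have hBB : (B : Matrix ι ι F) * ((B⁻¹ : GL ι F) : Matrix ι ι F) = 1 := by
    rw [← Units.val_mul, mul_inv_cancel, Units.val_one]
  have hBB' : ((B⁻¹ : GL ι F) : Matrix ι ι F) * (B : Matrix ι ι F) = 1 := by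
    rw [← Units.val_mul, inv_mul_cancel, Units.val_one]
  intro v hv
  have h1 : (B : Matrix ι ι F) *ᵥ v ≠ 0 := by
    intro h
    apply hv
    have h1 := congrArg (fun w => ((B⁻¹ : GL ι F) : Matrix ι ι F) *ᵥ w) h
    simpa only [Matrix.mulVec_mulVec, hBB', Matrix.one_mulVec, Matrix.mulVec_zero] using h1
  obtain ⟨⟨x, hx⟩, ⟨y, hy⟩⟩ := hf _ h1
  refine ⟨⟨((B⁻¹ : GL ι F) : Matrix ι ι F) *ᵥ x, ?_⟩, ⟨((B⁻¹ : GL ι F) : Matrix ι ι F) *ᵥ y, ?_⟩⟩
  · simpa only [Matrix.mulVec_mulVec, hBB, Matrix.one_mulVec] using hx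
  · simpa only [Matrix.mulVec_mulVec, hBB, Matrix.one_mulVec] using hy

/-- An involutory automorphism acts non-trivially on every subfield of odd prime index. -/
theorem exists_moved [Finite F] {σ : F ≃+* F} (hσ : σ ≠ RingEquiv.refl F) (hσ2 : ∀ a, σ (σ a) = a)
    {F₁ : Subfield F} {r : ℕ} (hodd : Odd r) (hcard : Nat.card F = Nat.card F₁ ^ r) :
    ∃ a ∈ F₁, σ a ≠ a := by
  by_contra hcon
  push Not at hcon
  let τ : F ≃ₐ[F₁] F := AlgEquiv.ofRingEquiv (f := σ) (fun x => hcon x.1 x.2)
  have hτ : orderOf τ = 2 := by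
    have : Fact (Nat.Prime 2) := ⟨Nat.prime_two⟩
    refine orderOf_eq_prime ?_ ?_
    · ext x
      rw [pow_two]
      exact hσ2 x
    · intro h
      apply hσ
      ext x
      exact AlgEquiv.congr_fun h x
  have h1 : orderOf τ ∣ Nat.card (F ≃ₐ[F₁] F) := orderOf_dvd_natCard τ
  have h2 : Module.finrank F₁ F = r := by
    have h3 := Module.natCard_eq_pow_finrank (K := F₁) (V := F)
    rw [hcard] at h3
    exact (Nat.pow_right_injective (Finite.one_lt_card (α := F₁)) h3).symm
  rw [IsGalois.card_aut_eq_finrank, h2, hτ] at h1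
  exact (Nat.not_even_iff_odd.mpr hodd) (even_iff_two_dvd.mpr h1)

/-- Normal form of a rational structure on a unitary form. `P` is absolutely irreducible, `B⁻¹ P B` has entries in the
subfield `F₁` of prime index `r`, and `P` fixes the nondegenerate unitary form `f`. Then, with `B' = c • B`:
`r` odd and `f` is `F₁`-valued on the `F₁`-span of the columns of `B'`; or `r = 2`, odd characteristic, and the same; or
`r = 2`, the dimension is even and `ζ f` is an `F₁`-valued alternating form with `ζ + σ ζ = 0`. -/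
theorem unitary_normal_form [Finite F] (hn : 2 ≤ Fintype.card ι) {P : Subgroup (GL ι F)}
    (hirr : ActsAbsolutelyIrreducibly (matrixSet P)) {σ : F ≃+* F} {f : (ι → F) → (ι → F) → F}
    (hf : IsUnitaryForm σ f) (hfP : FixesForm (matrixSet P) f) {F₁ : Subfield F} {r : ℕ} (hr : r.Prime)
    (hcard : Nat.card F = Nat.card F₁ ^ r) {B : GL ι F}
    (hB : ∀ s ∈ matrixSet P, ∀ i j, (((B⁻¹ : GL ι F) : Matrix ι ι F) * s * (B : Matrix ι ι F)) i j ∈ F₁) :
    (Odd r ∧ ∃ B' : GL ι F, IsFormRationalStructure f F₁ 1 B' ∧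
      subfieldSubgroup F₁ B' = subfieldSubgroup F₁ B) ∨
    (r = 2 ∧ (2 : F) ≠ 0 ∧ ∃ B' : GL ι F, IsFormRationalStructure f F₁ 1 B' ∧
      subfieldSubgroup F₁ B' = subfieldSubgroup F₁ B) ∨
    (r = 2 ∧ Even (Fintype.card ι) ∧ ∃ ζ : F, ζ ≠ 0 ∧ ζ + σ ζ = 0 ∧ IsFormRationalStructure f F₁ ζ B ∧
      ∀ u : ι → F, (∀ i, u i ∈ F₁) → f ((B : Matrix ι ι F) *ᵥ u) ((B : Matrix ι ι F) *ᵥ u) = 0) := by
  classical
  have hσ := hf.ne_refl
  have hσ2 := hf.involutive
  have hs := IsSesq.of_unitary hf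
  obtain ⟨ζ, hζ, hrat⟩ := exists_isFormRationalStructure hirr (F₀ := F₁) (B := B⁻¹)
    (fun s hs i j => by rw [inv_inv]; exact hB s hs i j) (fun x hx => map_mem_subfield σ F₁ hx) hs
    hf.nondegenerate hfP
  rw [inv_inv] at hrat
  set Bm : Matrix ι ι F := (B : Matrix ι ι F) with hBm
  have hBB : Bm * ((B⁻¹ : GL ι F) : Matrix ι ι F) = 1 := by
    rw [hBm, ← Units.val_mul, mul_inv_cancel, Units.val_one]
  have hσζ : σ ζ ≠ 0 := by simpa using hζ
  -- a non-zero value on the rational structure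
  obtain ⟨i₀, j₀, hg0⟩ : ∃ i j, f (Bm *ᵥ Pi.single i 1) (Bm *ᵥ Pi.single j 1) ≠ 0 := by
    by_contra hcon
    push Not at hcon
    obtain ⟨i⟩ : Nonempty ι := Fintype.card_pos_iff.mp (by omega)
    have he : Bm *ᵥ (Pi.single i 1 : ι → F) ≠ 0 := by
      intro h
      have h1 := congrArg (fun w => ((B⁻¹ : GL ι F) : Matrix ι ι F) *ᵥ w) h
      simp only [Matrix.mulVec_mulVec, hBm, ← Units.val_mul, inv_mul_cancel, Units.val_one,
        Matrix.one_mulVec, Matrix.mulVec_zero] at h1
      have := congrFun h1 i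
      simp at this
    obtain ⟨⟨x, hx⟩, -⟩ := hf.nondegenerate _ he
    apply hx
    have hx' : x = Bm *ᵥ (((B⁻¹ : GL ι F) : Matrix ι ι F) *ᵥ x) := by
      rw [Matrix.mulVec_mulVec, hBB, Matrix.one_mulVec]
    rw [hx', vec_eq_sum (((B⁻¹ : GL ι F) : Matrix ι ι F) *ᵥ x), Matrix.mulVec_sum, hs.sum_left]
    refine Finset.sum_eq_zero fun k _ => ?_
    rw [Matrix.mulVec_smul, hs.smul_left, hcon, mul_zero]
  have hsingle : ∀ i j, (Pi.single i 1 : ι → F) j ∈ F₁ := by
    intro i j
    by_cases h : j = i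
    · subst h; simp [F₁.one_mem]
    · simp [h, F₁.zero_mem]
  -- `η = ζ / σ ζ ∈ F₁`
  have hη : ζ / σ ζ ∈ F₁ := by
    have h1 := hrat _ _ (hsingle i₀) (hsingle j₀)
    have h2 := hrat _ _ (hsingle j₀) (hsingle i₀)
    rw [hf.herm] at h2
    have h3 := map_mem_subfield σ F₁ h1
    rw [map_mul] at h3
    have h4 : σ (f (Bm *ᵥ Pi.single i₀ 1) (Bm *ᵥ Pi.single j₀ 1)) ≠ 0 := by simpa using hg0
    have h5 : ζ / σ ζ = (ζ * σ (f (Bm *ᵥ Pi.single i₀ 1) (Bm *ᵥ Pi.single j₀ 1))) /
        (σ ζ * σ (f (Bm *ᵥ Pi.single i₀ 1) (Bm *ᵥ Pi.single j₀ 1))) := by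
      field_simp
    rw [h5]
    exact F₁.div_mem h2 h3
  have hcardσ := card_eq_card_fixedBy_sq hσ hσ2
  -- scaling when a multiple `ζ'` of `ζ` by an element of `F₁` is fixed by `σ`
  have hscale : ∀ w ∈ F₁, w ≠ 0 → σ (ζ * w) = ζ * w →
      ∃ B' : GL ι F, IsFormRationalStructure f F₁ 1 B' ∧ subfieldSubgroup F₁ B' = subfieldSubgroup F₁ B := by
    intro w hw hw0 hfix
    obtain ⟨μ, hμ⟩ := exists_mul_sigma_eq hσ hσ2 hfix
    have hμ0 : μ ≠ 0 := by
      rintro rfl
      rw [zero_mul] at hμ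
      exact mul_ne_zero hζ hw0 hμ.symm
    refine ⟨scaleGL μ hμ0 B, ?_, subfieldSubgroup_scaleGL F₁ μ hμ0 B⟩
    intro u v hu hv
    rw [scaleGL_val, Matrix.smul_mulVec, Matrix.smul_mulVec, hs.smul_left, hs.smul_right, one_mul,
      ← mul_assoc, hμ]
    have := F₁.mul_mem hw (hrat u v hu hv)
    rw [← mul_assoc, mul_comm w ζ] at this
    exact this
  rcases hr.eq_two_or_odd' with rfl | hodd
  · -- index two
    have hF₁ : F₁ = fixedBy σ := by
      apply subfield_eq_of_card_eq
      have : Nat.card F₁ ^ 2 = Nat.card (fixedBy σ) ^ 2 := by rw [← hcard, hcardσ]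
      exact Nat.pow_left_injective (by norm_num : (2 : ℕ) ≠ 0) this
    have hηη : (ζ / σ ζ) * (ζ / σ ζ) = 1 := by
      have h1 : σ (ζ / σ ζ) = ζ / σ ζ := by
        have := hη
        rw [hF₁] at this
        exact this
      rw [map_div₀, hσ2] at h1
      calc (ζ / σ ζ) * (ζ / σ ζ) = (σ ζ / ζ) * (ζ / σ ζ) := by rw [h1]
        _ = 1 := by field_simp
    -- the alternating alternative
    have halt : σ ζ = -ζ → Even (Fintype.card ι) ∧ ∃ ζ : F, ζ ≠ 0 ∧ ζ + σ ζ = 0 ∧
        IsFormRationalStructure f F₁ ζ B ∧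
        ∀ u : ι → F, (∀ i, u i ∈ F₁) → f (Bm *ᵥ u) (Bm *ᵥ u) = 0 := by
      intro hneg
      have hzero : ∀ u : ι → F, (∀ i, u i ∈ F₁) → f (Bm *ᵥ u) (Bm *ᵥ u) = 0 := by
        by_cases h2 : (2 : F) = 0
        swap
        · intro u hu
          have e1 : σ (ζ * f (Bm *ᵥ u) (Bm *ᵥ u)) = ζ * f (Bm *ᵥ u) (Bm *ᵥ u) := by
            have := hrat u u hu hu
            rw [hF₁] at this
            exact this
          rw [map_mul, hneg, ← hf.herm] at e1
          have e2 : (2 * ζ) * f (Bm *ᵥ u) (Bm *ᵥ u) = 0 := by linear_combination -e1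
          exact (mul_eq_zero.mp e2).resolve_left (mul_ne_zero h2 hζ)
        · -- characteristic two
          have hsymm : ∀ u v : ι → F, (∀ i, u i ∈ F₁) → (∀ i, v i ∈ F₁) →
              f (Bm *ᵥ u) (Bm *ᵥ v) + f (Bm *ᵥ v) (Bm *ᵥ u) = 0 := by
            intro u v hu hv
            have e1 : σ (ζ * f (Bm *ᵥ u) (Bm *ᵥ v)) = ζ * f (Bm *ᵥ u) (Bm *ᵥ v) := by
              have := hrat u v hu hv
              rw [hF₁] at this
              exact this
            rw [map_mul, hneg, ← hf.herm] at e1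
            have e2 : ζ * (f (Bm *ᵥ u) (Bm *ᵥ v) + f (Bm *ᵥ v) (Bm *ᵥ u)) = 0 := by
              linear_combination -e1
            exact (mul_eq_zero.mp e2).resolve_left hζ
          have hsum : ∀ u : ι → F, (∀ i, u i ∈ F₁) → ∀ s : Finset ι,
              f (Bm *ᵥ (∑ i ∈ s, u i • (Pi.single i 1 : ι → F))) (Bm *ᵥ (∑ i ∈ s, u i • (Pi.single i 1 : ι → F))) =
              ∑ i ∈ s, (u i) ^ 2 * f (Bm *ᵥ Pi.single i 1) (Bm *ᵥ Pi.single i 1) := by
            intro u hu s
            induction s using Finset.induction_on with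
            | empty => simp [hs.zero_left]
            | insert a s ha ih =>
              rw [Finset.sum_insert ha, Finset.sum_insert ha, Matrix.mulVec_add, hs.add_left, hs.add_right,
                hs.add_right, ih]
              have e3 := hsymm (u a • (Pi.single a 1 : ι → F)) (∑ i ∈ s, u i • (Pi.single i 1 : ι → F))
                (fun j => by rw [Pi.smul_apply, smul_eq_mul]; exact F₁.mul_mem (hu a) (hsingle a j))
                (fun j => by
                  rw [Finset.sum_apply]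
                  exact F₁.sum_mem fun k _ => by
                    rw [Pi.smul_apply, smul_eq_mul]; exact F₁.mul_mem (hu k) (hsingle k j))
              have e4 : f (Bm *ᵥ (u a • (Pi.single a 1 : ι → F))) (Bm *ᵥ (u a • (Pi.single a 1 : ι → F))) =
                  (u a) ^ 2 * f (Bm *ᵥ Pi.single a 1) (Bm *ᵥ Pi.single a 1) := by
                rw [Matrix.mulVec_smul, hs.smul_left, hs.smul_right]
                have : σ (u a) = u a := by
                  have := hu a
                  rw [hF₁] at this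
                  exact this
                rw [this]; ring
              rw [e4]
              linear_combination e3
          have hd := diag_eq_zero h2 hn (irr_conj hirr.1 B)
            (fun i => f (Bm *ᵥ Pi.single i 1) (Bm *ᵥ Pi.single i 1)) (by
            rintro _ ⟨s, hs', rfl⟩ j
            set t : Matrix ι ι F := ((B⁻¹ : GL ι F) : Matrix ι ι F) * s * (B : Matrix ι ι F) with ht
            have htF : ∀ i j, t i j ∈ F₁ := hB s hs'
            have e5 := hsum (fun i => t i j) (fun i => htF i j) Finset.univ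
            have e6 : (∑ i, t i j • (Pi.single i 1 : ι → F)) = t *ᵥ (Pi.single j 1) := by
              rw [← vec_eq_sum (fun i => t i j)]
              funext i
              simp
            rw [e6] at e5
            have e7 : Bm *ᵥ (t *ᵥ (Pi.single j 1)) = s *ᵥ (Bm *ᵥ (Pi.single j 1)) := by
              rw [Matrix.mulVec_mulVec, Matrix.mulVec_mulVec, ht, ← mul_assoc, ← mul_assoc, hBB,
                Matrix.one_mul]
            rw [e7, hfP s hs'] at e5
            rw [e5]
            exact Finset.sum_congr rfl fun i _ => mul_comm _ _)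
          intro u hu
          have e8 := hsum u hu Finset.univ
          rw [← vec_eq_sum] at e8
          rw [e8]
          exact Finset.sum_eq_zero fun i _ => by rw [hd i, mul_zero]
      refine ⟨?_, ζ, hζ, by rw [hneg]; ring, hrat, hzero⟩
      have hdet := det_gram_ne_zero (hs.comp Bm) (nondegenerate_comp hf.nondegenerate B)
      refine even_card_of_alternating_gram
        (ζ • gramMatrix (fun u v => f (Bm *ᵥ u) (Bm *ᵥ v))) ?_ ?_ ?_
      · intro i
        rw [Matrix.smul_apply, gramMatrix, hzero _ (hsingle i), smul_zero]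
      · intro i j
        rw [Matrix.smul_apply, Matrix.smul_apply, gramMatrix, gramMatrix, smul_eq_mul, smul_eq_mul]
        have e1 : σ (ζ * f (Bm *ᵥ Pi.single j 1) (Bm *ᵥ Pi.single i 1)) =
            ζ * f (Bm *ᵥ Pi.single j 1) (Bm *ᵥ Pi.single i 1) := by
          have := hrat _ _ (hsingle j) (hsingle i)
          rw [hF₁] at this
          exact this
        rw [map_mul, hneg, ← hf.herm] at e1
        linear_combination -e1
      · rw [Matrix.det_smul]
        exact mul_ne_zero (pow_ne_zero _ hζ) hdet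
    rcases mul_self_eq_one_iff.mp hηη with h1 | h1
    · -- `σ ζ = ζ`
      have hσζ' : σ ζ = ζ := by
        rw [div_eq_one_iff_eq hσζ] at h1
        exact h1.symm
      by_cases h2 : (2 : F) = 0
      · right; right
        refine ⟨rfl, halt ?_⟩
        rw [hσζ']
        linear_combination ζ * h2
      · right; left
        exact ⟨rfl, h2, hscale 1 F₁.one_mem one_ne_zero (by rw [mul_one]; exact hσζ')⟩
    · right; right
      refine ⟨rfl, halt ?_⟩
      rw [div_eq_iff hσζ] at h1
      linear_combination h1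
  · left
    refine ⟨hodd, ?_⟩
    set η : F := ζ / σ ζ with hηd
    have hη0 : η ≠ 0 := div_ne_zero hζ hσζ
    have hησ : η * σ η = 1 := by
      rw [hηd, map_div₀, hσ2]; field_simp
    obtain ⟨w, hw, hw0, hww⟩ : ∃ w ∈ F₁, w ≠ 0 ∧ σ w = η * w := by
      obtain ⟨a, ha, ha'⟩ := exists_moved hσ hσ2 hodd hcard
      have hw1 : ∀ b ∈ F₁, b + σ η * σ b ∈ F₁ := fun b hb =>
        F₁.add_mem hb (F₁.mul_mem (map_mem_subfield σ F₁ hη) (map_mem_subfield σ F₁ hb))
      have hw2 : ∀ b, σ (b + σ η * σ b) = η * (b + σ η * σ b) := by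
        intro b
        rw [map_add, map_mul, hσ2, hσ2]
        linear_combination (- σ b) * hησ
      by_cases h0 : a + σ η * σ a = 0
      · refine ⟨1 + σ η * σ 1, hw1 1 F₁.one_mem, ?_, hw2 1⟩
        intro h1
        rw [map_one, mul_one] at h1
        apply ha'
        linear_combination -h0 + σ a * h1
      · exact ⟨_, hw1 a ha, h0, hw2 a⟩
    refine hscale w hw hw0 ?_
    rw [map_mul, hww, hηd]
    field_simp

end Cfsg.Agent.H914
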