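import Cfsg.Agent.H915.LD
import Cfsg.Agent.H914.Sub
import Cfsg.Agent.H931.SpProper
import Cfsg.Agent.H924.SympForm

/-!
# Residual maximal subgroups of `Sp_{2m}(F)` (helper914)

`Hyp m H P` : `H` maximal in `spGL m F`, `P` the residual core of `H`, `P` fixes no quadratic and no unitary form.

* `tr_inv`, `scalar_sq` : real traces, scalars `±1` in `spGL m F`
* `Hyp.toCore`, `Hyp.sd`, `Hyp.scalar_cases`, `Hyp.neg_one_mem_H`
* `Hyp.eq_of_le`, `Hyp.false_of_lt` : nothing between `H` and `spGL m F`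
* `le_spGL_of_fixes`, `le_spGL_of_real` : an overgroup of `P` with a bilinear form / real traces is in `spGL m F`
* `Hyp.inner` : `h ∈ H` acting on `P` as `y ∈ P` modulo scalars is `± y`
-/

set_option autoImplicit false
set_option linter.unusedSectionVars false

namespace Cfsg.Agent.H914.S6

open Cfsg Cfsg.Geo Matrix Cfsg.Agent.H915.LD
open scoped MatrixGroups

universe u

variable {m : ℕ} {F : Type u} [Field F]

/-- the hypotheses of the symplectic residual rows -/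
structure Hyp (m : ℕ) (H P : Subgroup (GL (Fin m ⊕ Fin m) F)) : Prop where
  max : IsMaximalIn (spGL m F) H
  core : IsResidualCore H P
  noQ : ¬ ∃ Q : (Fin m ⊕ Fin m → F) → F, IsNondegenerateQuadraticForm Q ∧ FixesQuadForm (matrixSet P) Q
  noU : ¬ ∃ (σ : F ≃+* F) (f : (Fin m ⊕ Fin m → F) → (Fin m ⊕ Fin m → F) → F),
    IsUnitaryForm σ f ∧ FixesForm (matrixSet P) f

theorem exists_hyp {H : Subgroup (GL (Fin m ⊕ Fin m) F)} (hH : IsMaximalIn (spGL m F) H)
    (hS : InSymplecticResidualClass H) : ∃ P, Hyp m H P := by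
  obtain ⟨P, h1, h2, h3⟩ := hS
  exact ⟨P, hH, h1, h2, h3⟩

/-! ### `spGL m F` -/

theorem fixes_of_le {L : Subgroup (GL (Fin m ⊕ Fin m) F)} (h : L ≤ spGL m F) :
    FixesForm (matrixSet L) (sympForm m F) := by
  rintro _ ⟨g, hg, rfl⟩ u v
  exact H931.mem_spGL_iff.1 (h hg) u v

theorem transpose_J {g : GL (Fin m ⊕ Fin m) F} (hg : g ∈ spGL m F) :
    (g : Matrix (Fin m ⊕ Fin m) (Fin m ⊕ Fin m) F)ᵀ * Matrix.J (Fin m) F * (g : Matrix (Fin m ⊕ Fin m) (Fin m ⊕ Fin m) F) =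
      Matrix.J (Fin m) F := by
  have h := H931.mem_spGL_iff.1 hg
  ext i j
  have h1 := h (Pi.single i 1) (Pi.single j 1)
  unfold sympForm at h1
  rw [Matrix.mulVec_single_one, Matrix.mulVec_single_one, Matrix.mulVec_single_one, single_one_dotProduct] at h1
  have h2 : (Matrix.J (Fin m) F).col j i = Matrix.J (Fin m) F i j := rfl
  rw [h2] at h1
  rw [← h1, Matrix.mul_apply]
  simp only [dotProduct, Matrix.mulVec, Matrix.mul_apply, Matrix.transpose_apply, Matrix.col_apply]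
  simp only [Finset.sum_mul, Finset.mul_sum]
  rw [Finset.sum_comm]
  refine Finset.sum_congr rfl fun x _ => Finset.sum_congr rfl fun y _ => ?_
  ring

theorem tr_inv {g : GL (Fin m ⊕ Fin m) F} (hg : g ∈ spGL m F) : tr g⁻¹ = tr g := by
  have h1 := transpose_J hg
  have hJ : Matrix.J (Fin m) F * Matrix.J (Fin m) F = -1 := Matrix.J_squared _ _
  have h2 : (-(Matrix.J (Fin m) F * (g : Matrix (Fin m ⊕ Fin m) (Fin m ⊕ Fin m) F)ᵀ * Matrix.J (Fin m) F)) *
      (g : Matrix (Fin m ⊕ Fin m) (Fin m ⊕ Fin m) F) = 1 := by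
    rw [Matrix.neg_mul, Matrix.mul_assoc, Matrix.mul_assoc, ← Matrix.mul_assoc _ (Matrix.J (Fin m) F), h1, hJ, neg_neg]
  have h3 : ((g⁻¹ : GL (Fin m ⊕ Fin m) F) : Matrix (Fin m ⊕ Fin m) (Fin m ⊕ Fin m) F) =
      -(Matrix.J (Fin m) F * (g : Matrix (Fin m ⊕ Fin m) (Fin m ⊕ Fin m) F)ᵀ * Matrix.J (Fin m) F) := by
    have h4 : (g : Matrix (Fin m ⊕ Fin m) (Fin m ⊕ Fin m) F) *
        ((g⁻¹ : GL (Fin m ⊕ Fin m) F) : Matrix (Fin m ⊕ Fin m) (Fin m ⊕ Fin m) F) = 1 := by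
      rw [← Units.val_mul, mul_inv_cancel, Units.val_one]
    calc _ = 1 * ((g⁻¹ : GL (Fin m ⊕ Fin m) F) : Matrix (Fin m ⊕ Fin m) (Fin m ⊕ Fin m) F) := (Matrix.one_mul _).symm
      _ = _ := by rw [← h2, Matrix.mul_assoc, h4, Matrix.mul_one]
  unfold tr
  rw [h3, Matrix.trace_neg, Matrix.trace_mul_comm, ← Matrix.mul_assoc, hJ, Matrix.neg_mul, Matrix.one_mul,
    Matrix.trace_neg, neg_neg, Matrix.trace_transpose]

theorem scalar_sq (hm : 1 ≤ m) {g : GL (Fin m ⊕ Fin m) F} (hg : g ∈ spGL m F) {c : F}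
    (hc : (g : Matrix (Fin m ⊕ Fin m) (Fin m ⊕ Fin m) F) = c • (1 : Matrix _ _ F)) : c * c = 1 := by
  have h1 := transpose_J hg
  rw [hc, Matrix.transpose_smul, Matrix.transpose_one, Matrix.smul_mul, Matrix.one_mul, Matrix.mul_smul,
    Matrix.mul_one, smul_smul] at h1
  have h2 := congrFun (congrFun h1 (Sum.inr ⟨0, hm⟩)) (Sum.inl ⟨0, hm⟩)
  simpa [Matrix.J] using h2

/-- a scalar matrix in `Sp` is `±1` -/
theorem scalar_cases (hm : 1 ≤ m) {g : GL (Fin m ⊕ Fin m) F} (hg : g ∈ spGL m F) (hs : g ∈ scalars (Fin m ⊕ Fin m) F) :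
    g = 1 ∨ g = -1 := by
  rw [mem_scalars_iff] at hs
  obtain ⟨c, hc⟩ := hs
  have h1 := scalar_sq hm hg hc
  rcases mul_self_eq_one_iff.1 h1 with h | h
  · left
    apply Units.ext
    rw [hc, h, one_smul, Units.val_one]
  · right
    apply Units.ext
    rw [hc, h, Units.val_neg, Units.val_one, neg_smul, one_smul]

theorem neg_mem {g : GL (Fin m ⊕ Fin m) F} (hg : g ∈ spGL m F) : -g ∈ spGL m F := by
  rw [H931.mem_spGL_iff] at hg ⊢
  intro u v
  rw [Units.val_neg, Matrix.neg_mulVec, Matrix.neg_mulVec]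
  have := H924.isSymplecticForm_sympForm (m := m) (F := F)
  have e1 : ∀ x : Fin m ⊕ Fin m → F, -x = (-1 : F) • x := fun x => by simp
  rw [e1, e1 ((g : Matrix _ _ F) *ᵥ v), this.bilinear.smul_left, this.bilinear.smul_right, hg]
  ring

theorem neg_one_mem : (-1 : GL (Fin m ⊕ Fin m) F) ∈ spGL m F := neg_mem (one_mem _)

/-! ### overgroups of a core -/

/-- `L ≥ P` fixing a non-zero bilinear form lies in `spGL` -/
theorem le_spGL_of_fixes {P L : Subgroup (GL (Fin m ⊕ Fin m) F)} (hP : ActsAbsolutelyIrreducibly (matrixSet P))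
    (hPs : P ≤ spGL m F) (hPL : P ≤ L) {f : (Fin m ⊕ Fin m → F) → (Fin m ⊕ Fin m → F) → F} (hf : IsBilinearForm f)
    (hf0 : ∃ u v, f u v ≠ 0) (hL : FixesForm (matrixSet L) f) : L ≤ spGL m F := by
  have hs := H924.isSymplecticForm_sympForm (m := m) (F := F)
  obtain ⟨c, hc⟩ := sesq_unique hP (IsSesq.of_bilinear hs.bilinear) hs.nondegenerate (fixes_of_le hPs)
    (IsSesq.of_bilinear hf) (fun s hs => by
      obtain ⟨g, hg, rfl⟩ := hs
      exact hL _ ⟨g, hPL hg, rfl⟩)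
  have hc0 : c ≠ 0 := by
    rintro rfl
    obtain ⟨u, v, h⟩ := hf0
    exact h (by rw [hc, zero_mul])
  intro g hg
  rw [H931.mem_spGL_iff]
  intro u v
  have h1 := hL _ ⟨g, hg, rfl⟩ u v
  dsimp only at h1
  rw [hc, hc] at h1
  exact mul_left_cancel₀ hc0 h1

theorem absIrr_mono {ι : Type} [Fintype ι] [DecidableEq ι] {P L : Subgroup (GL ι F)}
    (hP : ActsAbsolutelyIrreducibly (matrixSet P)) (hPL : P ≤ L) : ActsAbsolutelyIrreducibly (matrixSet L) := by
  have hsub : matrixSet P ⊆ matrixSet L := Set.image_mono hPL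
  refine ⟨fun W hW => hP.1 W fun s hs => hW s (hsub hs), fun M hM => hP.2 M fun s hs => hM s (hsub hs)⟩

/-- `L ≥ P` with real traces lies in `spGL` -/
theorem le_spGL_of_real (hm : 1 ≤ m) {P L : Subgroup (GL (Fin m ⊕ Fin m) F)}
    (hP : ActsAbsolutelyIrreducibly (matrixSet P))
    (hPs : P ≤ spGL m F) (hPL : P ≤ L) (hL : ∀ g ∈ L, tr g⁻¹ = tr g) : L ≤ spGL m F := by
  have : Nonempty (Fin m ⊕ Fin m) := ⟨Sum.inl ⟨0, hm⟩⟩
  obtain ⟨f, hf, hn, hfix, -⟩ := H906.exists_bilinear_of_trace (absIrr_mono hP hPL) hL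
  refine le_spGL_of_fixes hP hPs hPL hf ?_ hfix
  have h1 : (Pi.single (Sum.inl ⟨0, hm⟩) 1 : Fin m ⊕ Fin m → F) ≠ 0 := by
    intro h
    have := congrFun h (Sum.inl ⟨0, hm⟩)
    simp at this
  obtain ⟨⟨x, hx⟩, -⟩ := hn _ h1
  exact ⟨x, _, hx⟩

namespace Hyp

variable {H P : Subgroup (GL (Fin m ⊕ Fin m) F)} (S : Hyp m H P)
include S

theorem toCore : Core P := core_of_residual S.core

theorem H_le : H ≤ spGL m F := S.max.1.le

theorem P_le : P ≤ spGL m F := S.core.le.trans S.H_le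

theorem sd : SD P := fun _ hg => tr_inv (S.P_le hg)

theorem m_pos : 1 ≤ m := by
  have h := S.toCore.two_le
  rw [Fintype.card_sum, Fintype.card_fin] at h
  omega

/-- `h ∈ H` acts on `P` and keeps traces -/
theorem tr_norm {h x : GL (Fin m ⊕ Fin m) F} : tr (h * x * h⁻¹) = tr x := tr_conj h x

/-- an overgroup of `H` in `Sp` different from `Sp` is `H` -/
theorem eq_of_le {L : Subgroup (GL (Fin m ⊕ Fin m) F)} (h : H ≤ L) (hL : L ≤ spGL m F) (hne : L ≠ spGL m F) : L = H :=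
  (S.max.2 L h hL).resolve_right hne

theorem false_of_lt {L : Subgroup (GL (Fin m ⊕ Fin m) F)} (h : H < L) (hL : L < spGL m F) : False :=
  h.ne' (S.eq_of_le h.le hL.le hL.ne)

/-- `h ∈ H` acting on `P` as `y ∈ P` modulo scalars is `± y` -/
theorem inner {h y : GL (Fin m ⊕ Fin m) F} (hh : h ∈ H) (hy : y ∈ P)
    (hi : ∀ x ∈ P, (y⁻¹ * h) * x * (y⁻¹ * h)⁻¹ * x⁻¹ ∈ scalars (Fin m ⊕ Fin m) F) : h = y ∨ h = -y := by
  have h1 := S.core.centralizer_scalar (y⁻¹ * h) (H.mul_mem (H.inv_mem (S.core.le hy)) hh) hi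
  rcases scalar_cases S.m_pos (S.H_le (H.mul_mem (H.inv_mem (S.core.le hy)) hh)) h1 with h2 | h2
  · left
    rw [inv_mul_eq_one] at h2
    exact h2.symm
  · right
    rw [inv_mul_eq_iff_eq_mul] at h2
    rw [h2, mul_neg, mul_one]

end Hyp

end Cfsg.Agent.H914.S6
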