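import Cfsg.Agent.H914.SpExc

/-!
# Small exclusions for maximal subgroups of symplectic groups, III (helper914)

`two_mul_dvd_of_selfAdjoint`: if the elements of the field subalgebra `K` of degree `r` are self-adjoint for the
symplectic form `f` and satisfy `f (k v) v = 0`, then `2 r` divides the dimension.
-/

set_option autoImplicit false
set_option linter.unusedSectionVars false

namespace Cfsg.Agent.H914

open Cfsg Cfsg.Geo
open scoped MatrixGroups Matrix

variable {ι : Type} [Fintype ι] [DecidableEq ι] {F : Type*} [Field F]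

/-- `k ↦ k v` as a linear map on the subalgebra `K`. -/
noncomputable def actL (K : Subalgebra F (Matrix ι ι F)) (v : ι → F) : K →ₗ[F] (ι → F) where
  toFun k := (k : Matrix ι ι F) *ᵥ v
  map_add' a b := by
    rw [Subalgebra.coe_add, Matrix.add_mulVec]
  map_smul' c a := by
    rw [Subalgebra.coe_smul, Matrix.smul_mulVec, RingHom.id_apply]

theorem actL_apply (K : Subalgebra F (Matrix ι ι F)) (v : ι → F) (k : K) :
    actL K v k = (k : Matrix ι ι F) *ᵥ v := rfl

/-- Invariant non-degenerate subspaces have dimension divisible by `2 r`. -/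
theorem two_mul_dvd_finrank {f : (ι → F) → (ι → F) → F} (hf : IsSymplecticForm f) {r : ℕ}
    {K : Subalgebra F (Matrix ι ι F)} (hK : IsFieldSubalgebra r K) (hs : IsSelfAdjointFor f K)
    (ha : ∀ k ∈ K, ∀ v, f (k *ᵥ v) v = 0) (n : ℕ) :
    ∀ W : Submodule F (ι → F), Module.finrank F W = n → IsNondegenerateOn f W →
      (∀ k ∈ K, ∀ v ∈ W, k *ᵥ v ∈ W) → 2 * r ∣ Module.finrank F W := by
  induction n using Nat.strong_induction_on with
  | _ n ih =>
  intro W hn hW hKW
  by_cases hW0 : W = ⊥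
  · rw [hW0, finrank_bot]
    exact dvd_zero _
  obtain ⟨v, hv, hv0⟩ := Submodule.exists_mem_ne_zero_of_ne_bot hW0
  obtain ⟨-, w, hw, hvw⟩ := hW v hv hv0
  have hb := hf.bilinear
  have hsq := IsSesq.of_bilinear hb
  have hw0 : w ≠ 0 := fun h => hvw (by rw [h, hsq.zero_right])
  have hwv : f w v ≠ 0 := fun h => hvw (by rw [hf.skew, h, neg_zero])
  have hfadd : ∀ x y z, f (x + y) z = f x z + f y z := hb.add_left
  have hmm : ∀ (a b : Matrix ι ι F) (x : ι → F), a *ᵥ (b *ᵥ x) = (a * b) *ᵥ x := fun a b x =>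
    Matrix.mulVec_mulVec x a b
  -- `K x` is totally isotropic
  have hti : ∀ x, ∀ k ∈ K, ∀ k' ∈ K, f (k *ᵥ x) (k' *ᵥ x) = 0 := by
    intro x k hk k' hk'
    rw [← hs k' hk', hmm]
    exact ha _ (K.mul_mem hk' hk) x
  let Φ : (K × K) →ₗ[F] (ι → F) := (actL K v).coprod (actL K w)
  have hΦ : ∀ p : K × K, Φ p = (p.1 : Matrix ι ι F) *ᵥ v + (p.2 : Matrix ι ι F) *ᵥ w := by
    intro p
    rw [LinearMap.coprod_apply, actL_apply, actL_apply]
  -- non-degeneracy on the range
  have hnd : ∀ p : K × K, p ≠ 0 → ∃ q : K × K, f (Φ p) (Φ q) ≠ 0 := by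
    rintro ⟨k, k'⟩ hp
    by_cases hk : k = 0
    · have hk' : (k' : Matrix ι ι F) ≠ 0 := by
        intro h
        apply hp
        rw [hk, Prod.mk_eq_zero]
        exact ⟨rfl, Subtype.ext h⟩
      obtain ⟨y, hy, hky⟩ := hK.inv _ k'.2 hk'
      refine ⟨(⟨y, hy⟩, 0), ?_⟩
      rw [hΦ, hΦ, hk]
      simp only [ZeroMemClass.coe_zero, Matrix.zero_mulVec, zero_add, add_zero]
      rw [← hs y hy, hmm, hK.comm y hy _ k'.2, hky, Matrix.one_mulVec]
      exact hwv
    · have hk' : (k : Matrix ι ι F) ≠ 0 := fun h => hk (Subtype.ext h)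
      obtain ⟨y, hy, hky⟩ := hK.inv _ k.2 hk'
      refine ⟨(0, ⟨y, hy⟩), ?_⟩
      rw [hΦ, hΦ]
      simp only [ZeroMemClass.coe_zero, Matrix.zero_mulVec, zero_add]
      rw [hfadd, hti w _ k'.2 _ hy, add_zero, ← hs y hy, hmm, hK.comm y hy _ k.2, hky, Matrix.one_mulVec]
      exact hvw
  have hinj : Function.Injective Φ := by
    rw [← LinearMap.ker_eq_bot, LinearMap.ker_eq_bot']
    intro p hp
    by_contra hp0
    obtain ⟨q, hq⟩ := hnd p hp0
    rw [hp, hsq.zero_left] at hq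
    exact hq rfl
  let U : Submodule F (ι → F) := LinearMap.range Φ
  have hUfin : Module.finrank F U = 2 * r := by
    rw [LinearMap.finrank_range_of_inj hinj, Module.finrank_prod, hK.finrank_eq]
    ring
  have hUW : U ≤ W := by
    rintro _ ⟨p, rfl⟩
    rw [hΦ]
    exact W.add_mem (hKW _ p.1.2 _ hv) (hKW _ p.2.2 _ hw)
  have hUK : ∀ k ∈ K, ∀ u ∈ U, k *ᵥ u ∈ U := by
    rintro k hk _ ⟨p, rfl⟩
    refine ⟨(⟨k, hk⟩ * p.1, ⟨k, hk⟩ * p.2), ?_⟩
    rw [hΦ, hΦ, Matrix.mulVec_add, hmm, hmm]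
    rfl
  -- the orthogonal complement
  let b : LinearMap.BilinForm F (ι → F) := LinearMap.mk₂ F f hb.add_left
    (fun c x v => by rw [hb.smul_left, smul_eq_mul]) hb.add_right
    (fun c v x => by rw [hb.smul_right, smul_eq_mul])
  have hbf : ∀ u v, b u v = f u v := fun u v => rfl
  have hrefl : LinearMap.IsRefl b := by
    intro x y hxy
    rw [hbf] at hxy ⊢
    rw [hf.skew, hxy, neg_zero]
  have hdisj : Disjoint U (b.orthogonal U) := by
    rw [Submodule.disjoint_def]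
    rintro _ ⟨p, rfl⟩ hx
    by_contra hx0
    have hp : p ≠ 0 := fun h => hx0 (by rw [h, map_zero])
    obtain ⟨q, hq⟩ := hnd p hp
    apply hq
    have h1 := LinearMap.BilinForm.mem_orthogonal_iff.mp hx (Φ q) ⟨q, rfl⟩
    have h2 : f (Φ q) (Φ p) = 0 := h1
    rw [hf.skew, h2, neg_zero]
  have hcompl : IsCompl U (b.orthogonal U) := (LinearMap.BilinForm.isCompl_orthogonal_iff_disjoint hrefl).mpr hdisj
  let W' : Submodule F (ι → F) := b.orthogonal U ⊓ W
  have hWeq : U ⊔ W' = W := by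
    rw [← sup_inf_assoc_of_le _ hUW, hcompl.sup_eq_top, top_inf_eq]
  have hinf : U ⊓ W' = ⊥ := by
    rw [eq_bot_iff]
    intro x hx
    exact hcompl.inf_eq_bot.le ⟨hx.1, hx.2.1⟩
  have hfinW : Module.finrank F W = 2 * r + Module.finrank F W' := by
    have h1 := Submodule.finrank_sup_add_finrank_inf_eq U W'
    rw [hWeq, hinf, finrank_bot, add_zero, hUfin] at h1
    exact h1
  have hmem : ∀ x, x ∈ W' ↔ (∀ u ∈ U, f u x = 0) ∧ x ∈ W := by
    intro x
    rw [Submodule.mem_inf, LinearMap.BilinForm.mem_orthogonal_iff]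
    exact Iff.rfl
  have hrpos : 0 < r := by
    rw [← hK.finrank_eq]
    have : Nontrivial K := by
      refine ⟨⟨0, 1, fun h => hv0 ?_⟩⟩
      have h1 : (0 : Matrix ι ι F) = 1 := congrArg Subtype.val h
      calc v = (1 : Matrix ι ι F) *ᵥ v := (Matrix.one_mulVec v).symm
        _ = 0 := by rw [← h1, Matrix.zero_mulVec]
    exact Module.finrank_pos
  have hlt : Module.finrank F W' < n := by omega
  have hK' : ∀ k ∈ K, ∀ x ∈ W', k *ᵥ x ∈ W' := by
    intro k hk x hx
    rw [hmem] at hx ⊢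
    refine ⟨fun u hu => ?_, hKW k hk x hx.2⟩
    rw [← hs k hk]
    exact hx.1 _ (hUK k hk u hu)
  have hnd' : IsNondegenerateOn f W' := by
    intro x hx hx0
    have hx' := (hmem x).mp hx
    obtain ⟨-, y, hy, hxy⟩ := hW x hx'.2 hx0
    rw [← hWeq] at hy
    obtain ⟨u, hu, y', hy', rfl⟩ := Submodule.mem_sup.mp hy
    have h1 : f x u = 0 := by rw [hf.skew, hx'.1 u hu, neg_zero]
    have h2 : f x y' ≠ 0 := by
      rw [hb.add_right, h1, zero_add] at hxy
      exact hxy
    exact ⟨⟨y', hy', fun h => h2 (by rw [hf.skew, h, neg_zero])⟩, ⟨y', hy', h2⟩⟩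
  have hdvd := ih _ hlt W' rfl hnd' hK'
  rw [hfinW]
  exact dvd_add dvd_rfl hdvd

/-- `(E3)` If the elements of the field subalgebra `K` of degree `r` are self-adjoint for the symplectic form `f` and
satisfy `f (k v) v = 0`, then `2 r` divides the dimension. -/
theorem two_mul_dvd_of_selfAdjoint {f : (ι → F) → (ι → F) → F} (hf : IsSymplecticForm f) {r : ℕ}
    {K : Subalgebra F (Matrix ι ι F)} (hK : IsFieldSubalgebra r K) (hs : IsSelfAdjointFor f K)
    (ha : ∀ k ∈ K, ∀ v, f (k *ᵥ v) v = 0) : 2 * r ∣ Fintype.card ι := by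
  have h := two_mul_dvd_finrank hf hK hs ha _ ⊤ rfl (fun w _ hw => by
    obtain ⟨⟨x, hx⟩, ⟨y, hy⟩⟩ := hf.nondegenerate w hw
    exact ⟨⟨x, Submodule.mem_top, hx⟩, ⟨y, Submodule.mem_top, hy⟩⟩) (fun _ _ _ _ => Submodule.mem_top)
  rwa [finrank_top, Module.finrank_fintype_fun_eq_card] at h

end Cfsg.Agent.H914
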