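import Cfsg.Agent.H914.SpExc2
import Cfsg.Agent.H914.SpExc3
import Cfsg.Agent.H931.SpWrap

/-!
# Maximal subgroups of `Sp_2m(q)`: the list with the exclusions for small `q` (helper914)

`symplectic_maximal_fine` refines `Cfsg.Agent.H931.symplectic_maximal_cases`: the decompositions into non-degenerate
2-spaces for `q = 2` and the tensor decompositions with second factor of dimension three for `q = 3` do not occur, and
the degree of the self-adjoint field divides `m`.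
-/

set_option autoImplicit false

namespace Cfsg.Agent.H914

open Cfsg Cfsg.Agent.H918 Cfsg.Agent.H931
open scoped Matrix MatrixGroups

variable {F : Type*} [Field F] [Fintype F] {m : ℕ}

theorem odd_card_of_card_two_ne (h : Fintype.card F = 2) : ¬ Odd (Fintype.card F) := by
  rw [h]; decide

/-- The list of types of maximal subgroups of `Sp_2m(q)`, with the exclusions for small `q`. -/
theorem symplectic_maximal_fine (hm : 2 ≤ m) (hex : ¬ (m = 2 ∧ Fintype.card F = 2))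
    {H : Subgroup (Matrix.GeneralLinearGroup (Fin m ⊕ Fin m) F)}
    (hH : Geo.IsMaximalIn (spGL m F) H)
    (hwr : ∀ (k t : ℕ) (e : Fin m ⊕ Fin m ≃ (Fin t → Fin k))
      (P : Matrix.GeneralLinearGroup (Fin m ⊕ Fin m) F), k = 2 → Odd t → 3 ≤ t → k ^ t = 2 * m →
      ¬ spGL m F ≤ Geo.tensorWreathSubgroup k t e P)
    (h : (∃ M : Subgroup (Matrix.GeneralLinearGroup (Fin m ⊕ Fin m) F),
      Geo.InSymplecticClass m F M ∧ H ≤ M) ∨ Geo.InSymplecticResidualClass H) :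
    (∃ W : Submodule F (Fin m ⊕ Fin m → F), W ≠ ⊥ ∧
      Geo.IsTotallySingularFor (sympForm m F) W ∧ H = Geo.subspaceStabilizer W ⊓ spGL m F) ∨
    (∃ W : Submodule F (Fin m ⊕ Fin m → F), W ≠ ⊥ ∧ Geo.IsNondegenerateOn (sympForm m F) W ∧
      Even (Module.finrank F W) ∧ Module.finrank F W < m ∧
      H = Geo.subspaceStabilizer W ⊓ spGL m F) ∨
    (∃ (t k : ℕ) (D : Fin t → Submodule F (Fin m ⊕ Fin m → F)), t * k = 2 * m ∧ Even k ∧ 2 ≤ t ∧
      ¬ (Fintype.card F = 2 ∧ k = 2) ∧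
      Geo.IsNondegenerateMDecomposition (sympForm m F) k D ∧
      H = Geo.decompositionStabilizer D ⊓ spGL m F) ∨
    (∃ (D : Fin 2 → Submodule F (Fin m ⊕ Fin m → F)), Odd (Fintype.card F) ∧
      Geo.IsMDecomposition m D ∧ (∀ i, Geo.IsTotallySingularFor (sympForm m F) (D i)) ∧
      H = Geo.decompositionStabilizer D ⊓ spGL m F) ∨
    (∃ (F₀ : Subfield F) (r : ℕ) (P : Matrix.GeneralLinearGroup (Fin m ⊕ Fin m) F) (ζ : F),
      r.Prime ∧ Fintype.card F = Nat.card F₀ ^ r ∧ ζ ≠ 0 ∧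
      Geo.IsFormRationalStructure (sympForm m F) F₀ ζ P ∧ H = Geo.subfieldSubgroup F₀ P ⊓ spGL m F) ∨
    (∃ (R : Subgroup (Matrix.GeneralLinearGroup (Fin m ⊕ Fin m) F)) (p k : ℕ),
      Geo.IsSymplecticTypeGroup 2 R ∧ Geo.ActsAbsolutelyIrreducibly (Geo.matrixSet R) ∧
      R ≤ Geo.similarityGroup (sympForm m F) ∧ p.Prime ∧ Odd p ∧ Fintype.card F = p ∧
      Nat.card R = 2 ^ (1 + 2 * k) ∧ Nat.card (Subgroup.center R) = 2 ∧ Geo.IsOfMinusType k R ∧
      2 * m = 2 ^ k ∧ H = Geo.subgroupNormalizer R ⊓ spGL m F) ∨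
    (∃ Q : (Fin m ⊕ Fin m → F) → F, ¬ Odd (Fintype.card F) ∧ Geo.IsNondegenerateQuadraticForm Q ∧
      (∀ u v, QuadraticMap.polar Q u v = sympForm m F u v) ∧
      H = Geo.quadSimilarityGroup Q ⊓ spGL m F) ∨
    (∃ (r : ℕ) (K : Subalgebra F (Matrix (Fin m ⊕ Fin m) (Fin m ⊕ Fin m) F)), r.Prime ∧ r ∣ m ∧
      Geo.IsFieldSubalgebra r K ∧ Geo.IsSelfAdjointFor (sympForm m F) K ∧
      (∀ k ∈ K, ∀ v, sympForm m F (k *ᵥ v) v = 0) ∧ H = Geo.subalgebraNormalizer K ⊓ spGL m F) ∨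
    (∃ K : Subalgebra F (Matrix (Fin m ⊕ Fin m) (Fin m ⊕ Fin m) F), Odd (Fintype.card F) ∧
      Geo.IsFieldSubalgebra 2 K ∧ Geo.IsAdjointClosedFor (sympForm m F) K ∧
      ¬ Geo.IsSelfAdjointFor (sympForm m F) K ∧ H = Geo.subalgebraNormalizer K ⊓ spGL m F) ∨
    (∃ (n₁ n₂ : ℕ) (e : (Fin m ⊕ Fin m) ≃ Fin n₁ × Fin n₂)
      (P : Matrix.GeneralLinearGroup (Fin m ⊕ Fin m) F)
      (f₁ : (Fin n₁ → F) → (Fin n₁ → F) → F) (f₂ : (Fin n₂ → F) → (Fin n₂ → F) → F),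
      Odd (Fintype.card F) ∧ n₁ * n₂ = 2 * m ∧ Even n₁ ∧ 2 ≤ n₁ ∧ 3 ≤ n₂ ∧
      ¬ (Fintype.card F = 3 ∧ n₂ = 3) ∧
      Geo.IsSymplecticForm f₁ ∧ Geo.IsSymmetricForm f₂ ∧
      Geo.IsTensorFormStructure id (sympForm m F) f₁ f₂ e P ∧
      H = Geo.tensorProductSubgroup n₁ n₂ e P ⊓ spGL m F) ∨
    (∃ (k t : ℕ) (e : (Fin m ⊕ Fin m) ≃ (Fin t → Fin k))
      (P : Matrix.GeneralLinearGroup (Fin m ⊕ Fin m) F) (f₁ : (Fin k → F) → (Fin k → F) → F),
      Odd (Fintype.card F) ∧ k ^ t = 2 * m ∧ Even k ∧ 2 ≤ k ∧ Odd t ∧ 3 ≤ t ∧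
      ¬ (Fintype.card F = 3 ∧ k = 2) ∧ Geo.IsSymplecticForm f₁ ∧
      Geo.IsTensorPowerFormStructure id (sympForm m F) f₁ e P ∧
      H = Geo.tensorWreathSubgroup k t e P ⊓ spGL m F) ∨
    Geo.InSymplecticResidualClass H := by
  have hc := exc_cases hm hex
  have hcard : Fintype.card (Fin m ⊕ Fin m) = 2 * m := card_sum_fin
  have hf : Geo.IsSymplecticForm (sympForm m F) := H924.isSymplecticForm_sympForm
  rcases symplectic_maximal_cases hm hex hH hwr h with h | h | h | h | h | h | h | h | h | h | h | h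
  · exact Or.inl h
  · exact Or.inr (Or.inl h)
  · obtain ⟨t, k, D, htk, hk, ht, hD, hHD⟩ := h
    by_cases hq : Fintype.card F = 2 ∧ k = 2
    · -- an orthogonal group
      obtain ⟨hq, rfl⟩ := hq
      obtain ⟨Q, hQ, hpol, hle⟩ := quad_of_frame_two hq hf hD
      iterate 6 right
      left
      refine ⟨Q, odd_card_of_card_two_ne hq, hQ, hpol, ?_⟩
      refine eq_inf_of_maximal hH (?_ : H ≤ _) (spGL_not_le_quadSimilarityGroup hm hpol hQ.smul)
      exact hHD.le.trans (inf_le_left.trans hle)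
    · exact Or.inr (Or.inr (Or.inl ⟨t, k, D, htk, hk, ht, hq, hD, hHD⟩))
  · exact Or.inr (Or.inr (Or.inr (Or.inl h)))
  · exact Or.inr (Or.inr (Or.inr (Or.inr (Or.inl h))))
  · exact Or.inr (Or.inr (Or.inr (Or.inr (Or.inr (Or.inl h)))))
  · exact Or.inr (Or.inr (Or.inr (Or.inr (Or.inr (Or.inr (Or.inl h))))))
  · obtain ⟨r, K, hr, hrm, hK, hs, ha, hHK⟩ := h
    iterate 7 right
    left
    refine ⟨r, K, hr, ?_, hK, hs, ha, hHK⟩
    have h1 := two_mul_dvd_of_selfAdjoint hf hK hs ha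
    rw [hcard] at h1
    exact Nat.dvd_of_mul_dvd_mul_left (by norm_num) h1
  · iterate 8 right
    left
    exact h
  · obtain ⟨n₁, n₂, e, P, f₁, f₂, hodd, hn, hev, hn1, hn2, hf₁, hf₂, hst, hHt⟩ := h
    by_cases hq : Fintype.card F = 3 ∧ n₂ = 3
    · obtain ⟨hq, rfl⟩ := hq
      have h1 : Cfsg.Agent.H919.HermForm (RingEquiv.refl F) (-1) f₁ :=
        ⟨hf₁.bilinear.add_left, hf₁.bilinear.smul_left, fun a => rfl, by simp,
          fun x y => by rw [hf₁.skew]; simp, hf₁.nondegenerate⟩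
      obtain ⟨D, hD, hle⟩ := frame_of_tensor_three hq hf.bilinear (by omega) h1 hf₂ hst
      iterate 2 right
      left
      refine ⟨3, n₁, D, by rw [← hn]; ring, hev, by norm_num, fun h => by omega, hD, ?_⟩
      refine eq_inf_of_maximal hH (?_ : H ≤ _) (spGL_not_le_decompositionStabilizer hc hD.decomp)
      rw [hHt]
      rintro g ⟨hg, hg'⟩
      exact hle g hg (Cfsg.Agent.H924.mem_spGL.mp hg')
    · iterate 9 right
      left
      exact ⟨n₁, n₂, e, P, f₁, f₂, hodd, hn, hev, hn1, hn2, hq, hf₁, hf₂, hst, hHt⟩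
  · iterate 10 right
    left
    exact h
  · iterate 11 right
    exact h

end Cfsg.Agent.H914
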