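import Cfsg.Agent.H914.Sub2

/-!
# Quadratic forms fixed by an absolutely irreducible group (helper914): (D4) and rational structures
-/

set_option autoImplicit false
set_option linter.unusedSectionVars false

namespace Cfsg.Agent.H914

open Cfsg Cfsg.Geo
open Cfsg.Agent.H919 (HermForm)
open scoped MatrixGroups Matrix

variable {ι : Type} [Fintype ι] [DecidableEq ι] {F : Type*} [Field F]

theorem polar_eq_zero_add {D : (ι → F) → F} (h : ∀ u v, QuadraticMap.polar D u v = 0) (u v : ι → F) :
    D (u + v) = D u + D v := by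
  have := h u v
  unfold QuadraticMap.polar at this
  linear_combination this

/-- Two homogeneous functions of degree two with the same polar form which agree on the standard basis are equal. -/
theorem quad_ext {Q Q' : (ι → F) → F} (hQ : ∀ (c : F) v, Q (c • v) = c ^ 2 * Q v)
    (hQ' : ∀ (c : F) v, Q' (c • v) = c ^ 2 * Q' v)
    (hp : ∀ u v, QuadraticMap.polar Q u v = QuadraticMap.polar Q' u v)
    (hb : ∀ i, Q (Pi.single i 1) = Q' (Pi.single i 1)) (v : ι → F) : Q v = Q' v := by
  have hadd : ∀ u v, Q (u + v) - Q' (u + v) = (Q u - Q' u) + (Q v - Q' v) := by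
    intro u v
    have := hp u v
    unfold QuadraticMap.polar at this
    linear_combination this
  have h0 : Q 0 - Q' 0 = 0 := by
    have := hadd 0 0
    rw [add_zero] at this
    linear_combination -this
  have hsum : ∀ s : Finset ι, Q (∑ i ∈ s, v i • (Pi.single i 1 : ι → F)) -
      Q' (∑ i ∈ s, v i • (Pi.single i 1 : ι → F)) = 0 := by
    intro s
    induction s using Finset.induction_on with
    | empty => simpa using h0
    | insert a s ha ih => rw [Finset.sum_insert ha, hadd, ih, hQ, hQ', hb]; ring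
  have hv : v = ∑ i, v i • (Pi.single i 1 : ι → F) := by
    ext j; simp [Finset.sum_apply, Pi.single_apply]
  have := hsum Finset.univ
  rw [← hv] at this
  exact sub_eq_zero.mp this

/-- Uniqueness: an irreducible group (over a finite field) fixes at most one quadratic form with a given nondegenerate
polar form. -/
theorem quad_unique [Finite F] {S : Set (Matrix ι ι F)} (hirr : ActsIrreducibly S)
    {Q Q' : (ι → F) → F} (hQ : ∀ (c : F) v, Q (c • v) = c ^ 2 * Q v)
    (hQ' : ∀ (c : F) v, Q' (c • v) = c ^ 2 * Q' v)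
    (hp : ∀ u v, QuadraticMap.polar Q u v = QuadraticMap.polar Q' u v)
    (hnd : ∀ v : ι → F, v ≠ 0 → ∃ x, QuadraticMap.polar Q x v ≠ 0)
    (hQS : FixesQuadForm S Q) (hQS' : FixesQuadForm S Q') (v : ι → F) : Q v = Q' v := by
  have hadd : ∀ u v, Q (u + v) - Q' (u + v) = (Q u - Q' u) + (Q v - Q' v) := by
    intro u v
    have := hp u v
    unfold QuadraticMap.polar at this
    linear_combination this
  let W : Submodule F (ι → F) :=
    { carrier := {v | Q v - Q' v = 0}
      add_mem' := by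
        intro a b ha hb
        show Q (a + b) - Q' (a + b) = 0
        have ha' : Q a - Q' a = 0 := ha
        have hb' : Q b - Q' b = 0 := hb
        rw [hadd, ha', hb', add_zero]
      zero_mem' := by
        have := hadd 0 0
        rw [add_zero] at this
        show Q 0 - Q' 0 = 0
        linear_combination -this
      smul_mem' := by
        intro c x hx
        show Q (c • x) - Q' (c • x) = 0
        have hx' : Q x - Q' x = 0 := hx
        rw [hQ, hQ', ← mul_sub, hx', mul_zero] }
  have hW : ∀ x, x ∈ W ↔ Q x - Q' x = 0 := fun x => Iff.rfl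
  rcases hirr W (by
    intro s hs
    rw [Submodule.map_le_iff_le_comap]
    intro x hx
    rw [Submodule.mem_comap, Matrix.toLin'_apply, hW, hQS s hs, hQS' s hs]
    exact hx) with h | h
  swap
  · have : v ∈ W := by rw [h]; trivial
    exact sub_eq_zero.mp this
  -- `W = 0`
  have hW0 : ∀ x, Q x - Q' x = 0 → x = 0 := by
    intro x hx
    have : x ∈ W := hx
    rw [h] at this
    simpa using this
  by_contra hne
  have hv0 : v ≠ 0 := by
    rintro rfl
    exact hne (sub_eq_zero.mp ((hW 0).mp W.zero_mem))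
  by_cases h2 : (2 : F) = 0
  · -- characteristic two
    obtain ⟨x, hx⟩ := hnd v hv0
    have hchar : CharP F 2 := CharTwo.of_one_ne_zero_of_two_eq_zero one_ne_zero h2
    have hneg : ∀ a : F, -a = a := fun a => CharTwo.neg_eq a
    have hring : ringChar F = 2 := ringChar.eq F 2 ▸ rfl
    have hx0 : x ≠ 0 := by
      rintro rfl
      apply hx
      have h00 : Q 0 = 0 := by simpa using hQ 0 0
      simp [QuadraticMap.polar, h00]
    have hDv : Q v - Q' v ≠ 0 := fun h' => hv0 (hW0 v h')
    have hDx : Q x - Q' x ≠ 0 := fun h' => hx0 (hW0 x h')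
    have : Fintype F := Fintype.ofFinite F
    obtain ⟨a, ha⟩ := FiniteField.isSquare_of_char_two (ringChar.eq F 2).symm.symm ((Q x - Q' x) / (Q v - Q' v))
    have hcomb : Q (x + a • v) - Q' (x + a • v) = 0 := by
      rw [hadd, hQ, hQ', ← mul_sub, pow_two, ← ha, div_mul_cancel₀ _ hDv]
      have : (Q x - Q' x) + (Q x - Q' x) = 2 * (Q x - Q' x) := by ring
      rw [this, h2, zero_mul]
    have hxa : x = a • v := by
      have h3 := hW0 _ hcomb
      have h4 : x = -(a • v) := eq_neg_of_add_eq_zero_left h3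
      rw [h4, ← neg_smul, hneg]
    apply hx
    rw [hxa]
    unfold QuadraticMap.polar
    have h5 : a • v + v = (a + 1) • v := by rw [add_smul, one_smul]
    rw [h5, hQ, hQ]
    linear_combination a * Q v * h2
  · -- odd characteristic
    apply hne
    have e1 : ∀ (R : (ι → F) → F), (∀ (c : F) v, R (c • v) = c ^ 2 * R v) →
        QuadraticMap.polar R v v = 2 * R v := by
      intro R hR
      unfold QuadraticMap.polar
      have : v + v = (2 : F) • v := by rw [two_smul]
      rw [this, hR]; ring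
    have h3 := hp v v
    rw [e1 Q hQ, e1 Q' hQ'] at h3
    exact mul_left_cancel₀ h2 h3

theorem polar_comp (Q : (ι → F) → F) (M : Matrix ι ι F) (u v : ι → F) :
    QuadraticMap.polar (fun w => Q (M *ᵥ w)) u v = QuadraticMap.polar Q (M *ᵥ u) (M *ᵥ v) := by
  simp only [QuadraticMap.polar, Matrix.mulVec_add]

theorem fixesForm_polar {S : Set (Matrix ι ι F)} {Q : (ι → F) → F} (hQ : FixesQuadForm S Q) :
    FixesForm S (QuadraticMap.polar Q) := by
  intro s hs u v
  simp only [QuadraticMap.polar, ← Matrix.mulVec_add, hQ s hs]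

theorem fixesQuadForm_comp {H P : Subgroup (GL ι F)} (hn : ∀ h ∈ H, ∀ x ∈ P, h * x * h⁻¹ ∈ P)
    {Q : (ι → F) → F} (hQP : FixesQuadForm (matrixSet P) Q) {h : GL ι F} (hh : h ∈ H) :
    FixesQuadForm (matrixSet P) (fun u => Q ((h : Matrix ι ι F) *ᵥ u)) := by
  rintro s ⟨x, hx, rfl⟩ u
  have hx' : h * x * h⁻¹ ∈ P := hn h hh x hx
  have key : ∀ w : ι → F, (h : Matrix ι ι F) *ᵥ ((x : Matrix ι ι F) *ᵥ w) =
      ((h * x * h⁻¹ : GL ι F) : Matrix ι ι F) *ᵥ ((h : Matrix ι ι F) *ᵥ w) := by
    intro w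
    rw [Matrix.mulVec_mulVec, Matrix.mulVec_mulVec, ← Units.val_mul, ← Units.val_mul,
      inv_mul_cancel_right]
  show Q ((h : Matrix ι ι F) *ᵥ ((x : Matrix ι ι F) *ᵥ u)) = _
  rw [key]
  exact hQP _ ⟨_, hx', rfl⟩ _

/-- `P` absolutely irreducible fixing the nondegenerate quadratic form `Q`, normalised by `H`: `H` consists of
similarities of `Q`. -/
theorem le_quadSimilarityGroup_of_fixes [Finite F] {H P : Subgroup (GL ι F)}
    (hn : ∀ h ∈ H, ∀ x ∈ P, h * x * h⁻¹ ∈ P) (hirr : ActsAbsolutelyIrreducibly (matrixSet P))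
    {Q : (ι → F) → F} (hQ : IsNondegenerateQuadraticForm Q) (hQP : FixesQuadForm (matrixSet P) Q) :
    H ≤ quadSimilarityGroup Q := by
  intro h hh
  have hsim := le_similarityGroup_of_fixes hn hirr (IsSesq.of_bilinear hQ.polar_bilinear) hQ.nondegenerate
    (fixesForm_polar hQP) hh
  obtain ⟨c, hc⟩ := hsim
  refine ⟨c, ?_⟩
  intro v
  refine quad_unique hirr.1 (Q := fun v => Q ((h : Matrix ι ι F) *ᵥ v)) (Q' := fun v => (c : F) * Q v)
    (fun a v => by simp only [Matrix.mulVec_smul, hQ.smul]) (fun a v => by simp only [hQ.smul]; ring)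
    ?_ ?_ (fixesQuadForm_comp hn hQP hh) ?_ v
  · intro u v
    rw [polar_comp, hc]
    simp only [QuadraticMap.polar]; ring
  · intro v hv
    obtain ⟨⟨x, hx⟩, -⟩ := hQ.nondegenerate v hv
    refine ⟨x, ?_⟩
    rw [polar_comp, hc]
    exact mul_ne_zero c.ne_zero hx
  · intro s hs v
    simp only [hQP s hs]

/-- `(D4)` If `P ≤ H` is absolutely irreducible, normalised by `H`, fixes some nondegenerate quadratic form `Q`, and `H`
consists of isometries of the nondegenerate bilinear form `f`, then `H` fixes the multiple `Q'` of `Q` with polar form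
`f`. -/
theorem exists_quad_polar_eq [Finite F] {H P : Subgroup (GL ι F)} (hPH : P ≤ H)
    (hn : ∀ h ∈ H, ∀ x ∈ P, h * x * h⁻¹ ∈ P) (hirr : ActsAbsolutelyIrreducibly (matrixSet P))
    {f : (ι → F) → (ι → F) → F} (hf : IsSesq (RingEquiv.refl F) f) (hfn : IsNondegenerateForm f)
    (hfH : ∀ g ∈ H, ∀ u v, f ((g : Matrix ι ι F) *ᵥ u) ((g : Matrix ι ι F) *ᵥ v) = f u v)
    {Q : (ι → F) → F} (hQ : IsNondegenerateQuadraticForm Q) (hQP : FixesQuadForm (matrixSet P) Q) :
    ∃ (c : F) (Q' : (ι → F) → F), c ≠ 0 ∧ (∀ v, Q' v = c * Q v) ∧ IsNondegenerateQuadraticForm Q' ∧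
      (∀ u v, QuadraticMap.polar Q' u v = f u v) ∧
      (∀ g ∈ H, ∀ v, Q' ((g : Matrix ι ι F) *ᵥ v) = Q' v) ∧ H ≤ quadSimilarityGroup Q' := by
  have hfP : FixesForm (matrixSet P) f := by
    rintro s ⟨x, hx, rfl⟩ u v
    exact hfH x (hPH hx) u v
  obtain ⟨c, hc⟩ := sesq_unique hirr (IsSesq.of_bilinear hQ.polar_bilinear) hQ.nondegenerate
    (fixesForm_polar hQP) hf hfP
  by_cases hc0 : c = 0
  · -- then there are no nonzero vectors
    subst hc0
    have hz : ∀ u : ι → F, u = 0 := by
      intro u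
      by_contra hu
      obtain ⟨⟨x, hx⟩, -⟩ := hfn u hu
      apply hx
      rw [hc, zero_mul]
    have hQ0 : Q 0 = 0 := by
      have := hQ.smul 0 0
      simpa using this
    have hQz : ∀ v, Q v = 0 := fun v => by rw [hz v, hQ0]
    refine ⟨1, Q, one_ne_zero, fun v => (one_mul _).symm, hQ, ?_, ?_, ?_⟩
    · intro u v
      rw [hc, zero_mul, QuadraticMap.polar, hQz, hQz, hQz]; ring
    · intro g _ v
      rw [hQz, hQz]
    · intro g _
      exact ⟨1, fun v => by rw [hQz, hQz]; simp⟩
  obtain ⟨Q', hQ'd⟩ : ∃ Q' : (ι → F) → F, ∀ v, Q' v = c * Q v := ⟨fun v => c * Q v, fun v => rfl⟩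
  have hQ'polar : ∀ u v, QuadraticMap.polar Q' u v = f u v := by
    intro u v
    rw [hc]
    simp only [QuadraticMap.polar, hQ'd]; ring
  have hpeq : QuadraticMap.polar Q' = f := by
    funext u v; exact hQ'polar u v
  have hfb : IsBilinearForm f := ⟨hf.add_left, hf.smul_left, hf.add_right, hf.smul_right⟩
  have hQ' : IsNondegenerateQuadraticForm Q' := by
    refine ⟨fun a v => ?_, ?_, ?_⟩
    · simp only [hQ'd, hQ.smul]; ring
    · rw [hpeq]; exact hfb
    · rw [hpeq]; exact hfn
  have hQ'P : FixesQuadForm (matrixSet P) Q' := by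
    intro s hs v
    rw [hQ'd, hQ'd, hQP s hs]
  have hfix : ∀ g ∈ H, ∀ v, Q' ((g : Matrix ι ι F) *ᵥ v) = Q' v := by
    intro g hg v
    refine quad_unique hirr.1 (Q := fun v => Q' ((g : Matrix ι ι F) *ᵥ v)) (Q' := Q')
      (fun a v => by simp only [Matrix.mulVec_smul, hQ'.smul]) (fun a v => hQ'.smul a v)
      ?_ ?_ (fixesQuadForm_comp hn hQ'P hg) hQ'P v
    · intro u v
      rw [polar_comp, hQ'polar, hQ'polar, hfH g hg]
    · intro v hv
      obtain ⟨⟨x, hx⟩, -⟩ := hfn v hv
      refine ⟨x, ?_⟩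
      rw [polar_comp, hQ'polar, hfH g hg]
      exact hx
  exact ⟨c, Q', hc0, hQ'd, hQ', hQ'polar, hfix,
    fun g hg => ⟨1, fun v => by rw [Units.val_one, one_mul]; exact hfix g hg v⟩⟩

/-- In odd characteristic an absolutely irreducible group fixing a nondegenerate alternating form fixes no
nondegenerate quadratic form. -/
theorem not_fixes_quad_of_alternating [Finite F] [Nonempty ι] (h2 : (2 : F) ≠ 0) {P : Subgroup (GL ι F)}
    (hirr : ActsAbsolutelyIrreducibly (matrixSet P))
    {f : (ι → F) → (ι → F) → F} (hf : IsSesq (RingEquiv.refl F) f) (hfn : IsNondegenerateForm f)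
    (hfa : ∀ v, f v v = 0) (hfP : FixesForm (matrixSet P) f) :
    ¬ ∃ Q : (ι → F) → F, IsNondegenerateQuadraticForm Q ∧ FixesQuadForm (matrixSet P) Q := by
  rintro ⟨Q, hQ, hQP⟩
  obtain ⟨c, hc⟩ := sesq_unique hirr hf hfn hfP (IsSesq.of_bilinear hQ.polar_bilinear) (fixesForm_polar hQP)
  have hQ0 : ∀ v, Q v = 0 := by
    intro v
    have h1 := hc v v
    rw [hfa, mul_zero] at h1
    unfold QuadraticMap.polar at h1
    have : v + v = (2 : F) • v := by rw [two_smul]
    rw [this, hQ.smul] at h1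
    have h3 : (2 : F) * Q v = 0 := by linear_combination h1
    exact (mul_eq_zero.mp h3).resolve_left h2
  obtain ⟨i⟩ := ‹Nonempty ι›
  have he : (Pi.single i 1 : ι → F) ≠ 0 := by
    intro h; have := congrFun h i; simp at this
  obtain ⟨⟨x, hx⟩, -⟩ := hQ.nondegenerate _ he
  apply hx
  simp [QuadraticMap.polar, hQ0]

end Cfsg.Agent.H914
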