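import Cfsg.Agent.H914.SixDA
import Cfsg.Agent.H905.Sp4Final
import Cfsg.Agent.H924.D5L
import Cfsg.Agent.H927.G2Main
import Cfsg.Agent.H392.TD.Main
import Cfsg.Agent.H638.G2Iso
import Cfsg.Agent.ChevStructure.FieldMap

/-!
# Own characteristic rows of `Sp₆` (helper914)
-/

set_option autoImplicit false
set_option linter.unusedSectionVars false
set_option maxHeartbeats 400000

namespace Cfsg.Agent.H914.S6

open Matrix Cfsg Cfsg.Geo Cfsg.Agent.H915.LD
open scoped MatrixGroups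

universe u v w

section dc

variable {F : Type u} [Field F] [Fintype F] {H P : Subgroup (GL (Fin 3 ⊕ Fin 3) F)}

theorem dc_psp4 (S : Hyp 3 H P) (p : ℕ) [hp : Fact p.Prime] [CharP F p] {K : Type} [Field K] [Fintype K] [CharP K p]
    (hK : 3 ≤ Fintype.card K) (h : Nonempty (Soc P ≃* PSp 2 K)) : False := by
  have h6 : Fintype.card (Fin 3 ⊕ Fin 3) = 6 := rfl
  obtain ⟨e⟩ := h
  have := (H905.Sp4.core_psp4 p S.toCore (by rw [Nat.card_eq_fintype_card]; exact hK) e (by omega)).2.2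
  omega

theorem dc_po7 (S : Hyp 3 H P) (p : ℕ) [hp : Fact p.Prime] [CharP F p] {K : Type} [Field K] [Fintype K] [CharP K p]
    (hK : Odd (Fintype.card K)) (h : Nonempty (Soc P ≃* POmega K (quadFormOdd 3 K))) : False := by
  have h6 : Fintype.card (Fin 3 ⊕ Fin 3) = 6 := rfl
  obtain ⟨e⟩ := h
  have h2 : (2 : K) ≠ 0 := by
    intro h2
    have h3 : p ∣ 2 := (CharP.cast_eq_zero_iff K p 2).1 (by exact_mod_cast h2)
    have h4 : p = 2 := (Nat.prime_dvd_prime_iff_eq hp.out Nat.prime_two).1 h3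
    have h5 : ringChar K = 2 := by rw [← h4]; exact ringChar.eq K p
    exact (Nat.not_even_iff_odd.2 hK) (Nat.even_iff.2 (FiniteField.even_card_of_char_two h5))
  have := H924.D5.po7_card p S.toCore (by omega) h2 e
  omega

theorem dc_po8 (S : Hyp 3 H P) (p : ℕ) [hp : Fact p.Prime] [CharP F p] {K : Type} [Field K] [Fintype K] [CharP K p]
    {a b : K} (hab : ∀ z₁ z₂ : K, z₁ ^ 2 + a * z₁ * z₂ + b * z₂ ^ 2 = 0 → z₁ = 0 ∧ z₂ = 0)
    (h : Nonempty (Soc P ≃* POmega K (quadFormMinus 3 K a b))) : False := by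
  have h6 : Fintype.card (Fin 3 ⊕ Fin 3) = 6 := rfl
  obtain ⟨e⟩ := h
  have := H924.D5.po8minus_card p S.toCore (by omega) hab e
  omega

theorem dc_g2 (S : Hyp 3 H P) (p : ℕ) [hp : Fact p.Prime] [CharP F p] {K : Type} [Field K] [Fintype K] [CharP K p]
    (hK : 3 ≤ Fintype.card K) (h : Nonempty (Soc P ≃* Lie.chevG2.group K)) :
    Nonempty (Soc P ≃* Cfsg.Lie.G2 F) ∧ p = 2 ∧ Fintype.card F ≠ 2 := by
  have h6 : Fintype.card (Fin 3 ⊕ Fin 3) = 6 := rfl
  obtain ⟨e⟩ := h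
  obtain ⟨-, h1, ⟨σ⟩, -, h2 | h2⟩ := H927.G2.core_g2 p S.toCore (by rw [Nat.card_eq_fintype_card]; exact hK) e (by omega)
  · omega
  · obtain ⟨f⟩ := H638.G2Iso.equiv (F := F)
    refine ⟨⟨(e.trans (ChevStructure.FieldMap.groupEquivOfRingEquiv Lie.chevG2 σ)).trans f.symm⟩, h2.1, ?_⟩
    rw [Nat.card_eq_fintype_card, Nat.card_eq_fintype_card] at h1
    omega

theorem dc_3d4 (S : Hyp 3 H P) (p : ℕ) [hp : Fact p.Prime] [CharP F p] {K : Type} [Field K] [Fintype K] [CharP K p]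
    {q : ℕ} (hq : IsPrimePow q) (hK : Fintype.card K = q ^ 3) (h : Nonempty (Soc P ≃* Lie.twistedD4 K q)) : False := by
  have h6 : Fintype.card (Fin 3 ⊕ Fin 3) = 6 := rfl
  obtain ⟨e⟩ := h
  have := (H392.TD.d4_small p S.toCore hq hK e (by omega)).1
  omega

/-- **The rows of Lie type in the characteristic of `F`.** -/
theorem Row6.dc (S : Hyp 3 H P) (p : ℕ) [hp : Fact p.Prime] [CharP F p] (h : IsLieTypeChar p (Soc P)) :
    Row6 p F (Soc P) := by
  have h1 := H151.Six.dc_six p S h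
  unfold H151.Six.LSix at h1
  rcases h1 with h | h | h | h | h | h | h | h | h | h | h | h
  · obtain ⟨K, _, _, _, h4, -, h⟩ := h
    exact Or.inr (Or.inr (Or.inr (Or.inr (Or.inr (Or.inr (Or.inl (dc_psl2 S p h4 h)))))))
  · obtain ⟨K, _, _, _, -, h⟩ := h
    exact (dc_psl3 S p h).elim
  · obtain ⟨K, _, _, _, -, h⟩ := h
    exact (dc_psl4 S p h).elim
  · obtain ⟨K, _, _, _, h1, h2, h⟩ := h
    exact (dc_psp4 S p (by omega) h).elim
  · obtain ⟨K, _, _, _, h1, h2, h⟩ := h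
    exact (dc_psu3 S p h1 h2 h).elim
  · obtain ⟨K, _, _, _, h1, h⟩ := h
    exact (dc_psu4 S p h1 h).elim
  · obtain ⟨rfl, K, _, _, m, h1, h2, -, h⟩ := h
    exact (dc_sz S h1 h2 h).elim
  · obtain ⟨rfl, K, _, _, m, h1, h2, h3, h⟩ := h
    exact (dc_ree S h1 h2 h3 h).elim
  · obtain ⟨K, _, _, _, h1, h⟩ := h
    exact (dc_po7 S p h1 h).elim
  · obtain ⟨K, _, _, _, a, b, h1, h⟩ := h
    exact (dc_po8 S p h1 h).elim
  · obtain ⟨K, _, _, _, h1, h⟩ := h
    exact Or.inr (Or.inr (Or.inr (Or.inr (Or.inr (Or.inr (Or.inr (dc_g2 S p h1 h)))))))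
  · obtain ⟨K, _, _, _, q, h1, h2, h⟩ := h
    exact (dc_3d4 S p h1 h2 h).elim

end dc

end Cfsg.Agent.H914.S6
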