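import Cfsg.Agent.H914.SixCross
import Cfsg.Agent.H914.SixDB
import Cfsg.Agent.H905.JDField
import Cfsg.Agent.H936.SixA7Two

/-!
# The residual maximal subgroups of `Sp₆(F)` (helper914)
-/

set_option autoImplicit false
set_option linter.unusedSectionVars false
set_option maxHeartbeats 400000

namespace Cfsg.Agent.H914.S6

open Matrix Cfsg Cfsg.Geo Cfsg.Agent.H915.LD
open scoped MatrixGroups

universe u

variable {F : Type u} [Field F] [Fintype F] {H P : Subgroup (GL (Fin 3 ⊕ Fin 3) F)}

/-- in characteristic two, a group of symplectic matrices has no scalars -/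
theorem scalars_bot (S : Hyp 3 H P) [CharP F 2] : (scalars (Fin 3 ⊕ Fin 3) F).subgroupOf P = ⊥ := by
  rw [eq_bot_iff]
  intro z hz
  rw [Subgroup.mem_bot]
  apply Subtype.ext
  rcases scalar_cases S.m_pos (S.P_le z.2) (Subgroup.mem_subgroupOf.1 hz) with h | h
  · exact h
  · rw [h]
    apply Units.ext
    rw [Units.val_neg, Units.val_one, OneMemClass.coe_one, Units.val_one]
    ext i j
    rw [Matrix.neg_apply, CharTwo.neg_eq]

/-- **The list of `S5806`** -/
theorem row6 (S : Hyp 3 H P) (p : ℕ) [hp : Fact p.Prime] [CharP F p] (hk : IsKnownSimple' (Soc P)) :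
    Row6 p F (Soc P) := by
  by_cases hL : IsLieTypeChar p (Soc P)
  · exact Row6.dc S p hL
  · refine Row6.cross S p hL ?_ (fun h2 hJ => ?_) (H936.List12.list (by decide) S.toCore hk hL)
    swap
    · have h := H905.JD.j2_six_field S.toCore p h2 rfl hJ
      rwa [Nat.card_eq_fintype_card] at h
    rintro rfl e
    exact H936.SixA7Two.a7_two S.toCore (fixA_hyp S) rfl (scalars_bot S) e

end Cfsg.Agent.H914.S6
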