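import Cfsg.Agent.H914.RootPair

/-!
# Pairs of root elements, II: the use of Dickson's theorem (helper914)
-/

set_option autoImplicit false
set_option linter.unusedSectionVars false

open Polynomial

namespace Cfsg.Agent.H914.RootPair

variable {F : Type*} [Field F] {A : Type*} [Ring A] [Algebra F A] {k : Type*} [Field k] [Algebra F k]

/-- `ρ` is a (non-unital) representation of the field `k` by elements commuting with `N₁, N₂`, the anticommutator acts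
as `α` on the image of the idempotent `ρ 1`, and `N₁ N₂ = N₂ N₁ = 0` on its kernel. -/
structure KData (F : Type*) [Field F] {A : Type*} [Ring A] [Algebra F A] {k : Type*} [Field k] [Algebra F k]
    (N₁ N₂ : A) (ρ : k → A) (α : k) : Prop where
  s1 : N₁ * N₁ = 0
  s2 : N₂ * N₂ = 0
  add : ∀ x y, ρ (x + y) = ρ x + ρ y
  mul : ∀ x y, ρ (x * y) = ρ x * ρ y
  alg : ∀ (c : F) x, ρ (algebraMap F k c * x) = c • ρ x
  c1 : ∀ x, ρ x * N₁ = N₁ * ρ x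
  c2 : ∀ x, ρ x * N₂ = N₂ * ρ x
  a : ρ α = (N₁ * N₂ + N₂ * N₁) * ρ 1
  a0 : α ≠ 0
  z1 : (1 - ρ 1) * (N₁ * N₂) = 0
  z2 : (1 - ρ 1) * (N₂ * N₁) = 0

namespace KData

variable {N₁ N₂ : A} {ρ : k → A} {α : k}

theorem zero (h : KData F N₁ N₂ ρ α) : ρ 0 = 0 := by
  have := h.add 0 0
  rw [add_zero] at this
  exact left_eq_add.mp this

theorem one_mul' (h : KData F N₁ N₂ ρ α) (x : k) : ρ 1 * ρ x = ρ x := by rw [← h.mul, one_mul]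

theorem mul_one' (h : KData F N₁ N₂ ρ α) (x : k) : ρ x * ρ 1 = ρ x := by rw [← h.mul, mul_one]

/-- The matrix units. -/
def E (N₁ N₂ : A) (ρ : k → A) (α : k) : Fin 2 → Fin 2 → A :=
  ![![ρ α⁻¹ * (N₁ * N₂), ρ 1 * N₁], ![ρ α⁻¹ * N₂, ρ α⁻¹ * (N₂ * N₁)]]

theorem c12 (h : KData F N₁ N₂ ρ α) (x : k) : ρ x * (N₁ * N₂) = (N₁ * N₂) * ρ x := by
  rw [← mul_assoc, h.c1, mul_assoc, h.c2, mul_assoc]

theorem c21 (h : KData F N₁ N₂ ρ α) (x : k) : ρ x * (N₂ * N₁) = (N₂ * N₁) * ρ x := by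
  rw [← mul_assoc, h.c2, mul_assoc, h.c1, mul_assoc]

theorem cc (h : KData F N₁ N₂ ρ α) (x y : k) : ρ x * ρ y = ρ y * ρ x := by
  rw [← h.mul, mul_comm, h.mul]

/-- `ρ x` commutes with the matrix units. -/
theorem E_comm (h : KData F N₁ N₂ ρ α) (x : k) (i j : Fin 2) : ρ x * E N₁ N₂ ρ α i j = E N₁ N₂ ρ α i j * ρ x := by
  fin_cases i <;> fin_cases j
  · show ρ x * (ρ α⁻¹ * (N₁ * N₂)) = ρ α⁻¹ * (N₁ * N₂) * ρ x
    rw [← mul_assoc, h.cc, mul_assoc, h.c12, mul_assoc (ρ α⁻¹)]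
  · show ρ x * (ρ 1 * N₁) = ρ 1 * N₁ * ρ x
    rw [← mul_assoc, h.cc, mul_assoc, h.c1, mul_assoc]
  · show ρ x * (ρ α⁻¹ * N₂) = ρ α⁻¹ * N₂ * ρ x
    rw [← mul_assoc, h.cc, mul_assoc, h.c2, mul_assoc]
  · show ρ x * (ρ α⁻¹ * (N₂ * N₁)) = ρ α⁻¹ * (N₂ * N₁) * ρ x
    rw [← mul_assoc, h.cc, mul_assoc, h.c21, mul_assoc (ρ α⁻¹)]

theorem one_E (h : KData F N₁ N₂ ρ α) (i j : Fin 2) : ρ 1 * E N₁ N₂ ρ α i j = E N₁ N₂ ρ α i j := by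
  fin_cases i <;> fin_cases j
  · show ρ 1 * (ρ α⁻¹ * (N₁ * N₂)) = ρ α⁻¹ * (N₁ * N₂)
    rw [← mul_assoc, h.one_mul']
  · show ρ 1 * (ρ 1 * N₁) = ρ 1 * N₁
    rw [← mul_assoc, h.one_mul']
  · show ρ 1 * (ρ α⁻¹ * N₂) = ρ α⁻¹ * N₂
    rw [← mul_assoc, h.one_mul']
  · show ρ 1 * (ρ α⁻¹ * (N₂ * N₁)) = ρ α⁻¹ * (N₂ * N₁)
    rw [← mul_assoc, h.one_mul']

/-- `N₁ N₂ N₁ = Z N₁`. -/
theorem n121 (h : KData F N₁ N₂ ρ α) (x : k) : ρ x * (N₁ * N₂ * N₁) = ρ (x * α) * N₁ := by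
  have e : (N₁ * N₂ + N₂ * N₁) * N₁ = N₁ * N₂ * N₁ := by
    rw [add_mul, mul_assoc N₂ N₁ N₁, h.s1, mul_zero, add_zero]
  have e2 : ρ 1 * (N₁ * N₂ * N₁) = N₁ * N₂ * N₁ * ρ 1 := by
    rw [← mul_assoc, h.c12, mul_assoc, h.c1, ← mul_assoc]
  symm
  calc ρ (x * α) * N₁ = ρ x * (((N₁ * N₂ + N₂ * N₁) * ρ 1) * N₁) := by rw [h.mul, mul_assoc, h.a]
    _ = ρ x * ((N₁ * N₂ + N₂ * N₁) * N₁ * ρ 1) := by
        rw [mul_assoc (N₁ * N₂ + N₂ * N₁) (ρ 1), h.c1, ← mul_assoc (N₁ * N₂ + N₂ * N₁)]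
    _ = ρ x * (N₁ * N₂ * N₁) := by rw [e, ← e2, ← mul_assoc, h.mul_one']

theorem n212 (h : KData F N₁ N₂ ρ α) (x : k) : ρ x * (N₂ * N₁ * N₂) = ρ (x * α) * N₂ := by
  have e : (N₁ * N₂ + N₂ * N₁) * N₂ = N₂ * N₁ * N₂ := by
    rw [add_mul, mul_assoc N₁ N₂ N₂, h.s2, mul_zero, zero_add]
  have e2 : ρ 1 * (N₂ * N₁ * N₂) = N₂ * N₁ * N₂ * ρ 1 := by
    rw [← mul_assoc, h.c21, mul_assoc, h.c2, ← mul_assoc]
  symm
  calc ρ (x * α) * N₂ = ρ x * (((N₁ * N₂ + N₂ * N₁) * ρ 1) * N₂) := by rw [h.mul, mul_assoc, h.a]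
    _ = ρ x * ((N₁ * N₂ + N₂ * N₁) * N₂ * ρ 1) := by
        rw [mul_assoc (N₁ * N₂ + N₂ * N₁) (ρ 1), h.c2, ← mul_assoc (N₁ * N₂ + N₂ * N₁)]
    _ = ρ x * (N₂ * N₁ * N₂) := by rw [e, ← e2, ← mul_assoc, h.mul_one']

/-- The relations between the matrix units. -/
theorem E_mul (h : KData F N₁ N₂ ρ α) (i j l m : Fin 2) :
    E N₁ N₂ ρ α i j * E N₁ N₂ ρ α l m = if j = l then E N₁ N₂ ρ α i m else 0 := by
  have ha : α⁻¹ * α = 1 := inv_mul_cancel₀ h.a0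
  have ha' : α⁻¹ * α⁻¹ * α = α⁻¹ := by rw [mul_assoc, ha, mul_one]
  have s1 := h.s1
  have s2 := h.s2
  fin_cases i <;> fin_cases j <;> fin_cases l <;> fin_cases m
  · show ρ α⁻¹ * (N₁ * N₂) * (ρ α⁻¹ * (N₁ * N₂)) = ρ α⁻¹ * (N₁ * N₂)
    rw [mul_assoc, ← mul_assoc (N₁ * N₂), ← h.c12, mul_assoc (ρ α⁻¹) (N₁ * N₂), ← mul_assoc (ρ α⁻¹) (ρ α⁻¹), ← h.mul,
      ← mul_assoc (N₁ * N₂) N₁ N₂, ← mul_assoc, h.n121, ha', mul_assoc]
  · show ρ α⁻¹ * (N₁ * N₂) * (ρ 1 * N₁) = ρ 1 * N₁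
    rw [mul_assoc, ← mul_assoc (N₁ * N₂), ← h.c12, mul_assoc (ρ 1), ← mul_assoc (ρ α⁻¹), h.mul_one', h.n121, ha]
  · show ρ α⁻¹ * (N₁ * N₂) * (ρ α⁻¹ * N₂) = 0
    rw [h.c2, ← mul_assoc, mul_assoc (ρ α⁻¹) (N₁ * N₂) N₂, mul_assoc N₁ N₂ N₂, s2, mul_zero, mul_zero, zero_mul]
  · show ρ α⁻¹ * (N₁ * N₂) * (ρ α⁻¹ * (N₂ * N₁)) = 0
    rw [h.c21, ← mul_assoc, mul_assoc (ρ α⁻¹) (N₁ * N₂), mul_assoc N₁ N₂, ← mul_assoc N₂ N₂, s2, zero_mul, mul_zero,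
      mul_zero, zero_mul]
  · show ρ 1 * N₁ * (ρ α⁻¹ * (N₁ * N₂)) = 0
    rw [h.c12, ← mul_assoc, mul_assoc (ρ 1) N₁, ← mul_assoc N₁ N₁, s1, zero_mul, mul_zero, zero_mul]
  · show ρ 1 * N₁ * (ρ 1 * N₁) = 0
    rw [h.c1, ← mul_assoc, mul_assoc N₁ (ρ 1), h.c1, ← mul_assoc, s1, zero_mul, zero_mul]
  · show ρ 1 * N₁ * (ρ α⁻¹ * N₂) = ρ α⁻¹ * (N₁ * N₂)
    rw [mul_assoc, ← mul_assoc N₁, ← h.c1, mul_assoc (ρ α⁻¹), ← mul_assoc, h.one_mul']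
  · show ρ 1 * N₁ * (ρ α⁻¹ * (N₂ * N₁)) = ρ 1 * N₁
    rw [mul_assoc, ← mul_assoc N₁, ← h.c1, mul_assoc (ρ α⁻¹), ← mul_assoc (ρ 1), h.one_mul', ← mul_assoc N₁, h.n121, ha]
  · show ρ α⁻¹ * N₂ * (ρ α⁻¹ * (N₁ * N₂)) = ρ α⁻¹ * N₂
    rw [mul_assoc, ← mul_assoc N₂, ← h.c2, mul_assoc (ρ α⁻¹) N₂, ← mul_assoc (ρ α⁻¹) (ρ α⁻¹), ← h.mul, ← mul_assoc N₂,
      h.n212, ha']
  · show ρ α⁻¹ * N₂ * (ρ 1 * N₁) = ρ α⁻¹ * (N₂ * N₁)
    rw [mul_assoc, ← mul_assoc N₂, ← h.c2, mul_assoc (ρ 1), ← mul_assoc (ρ α⁻¹), h.mul_one']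
  · show ρ α⁻¹ * N₂ * (ρ α⁻¹ * N₂) = 0
    rw [h.c2, ← mul_assoc, mul_assoc N₂ (ρ α⁻¹), h.c2, ← mul_assoc, s2, zero_mul, zero_mul]
  · show ρ α⁻¹ * N₂ * (ρ α⁻¹ * (N₂ * N₁)) = 0
    rw [h.c21, ← mul_assoc, mul_assoc (ρ α⁻¹) N₂, ← mul_assoc N₂ N₂, s2, zero_mul, mul_zero, zero_mul]
  · show ρ α⁻¹ * (N₂ * N₁) * (ρ α⁻¹ * (N₁ * N₂)) = 0
    rw [h.c12, ← mul_assoc, mul_assoc (ρ α⁻¹) (N₂ * N₁), mul_assoc N₂ N₁, ← mul_assoc N₁ N₁, s1, zero_mul, mul_zero,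
      mul_zero, zero_mul]
  · show ρ α⁻¹ * (N₂ * N₁) * (ρ 1 * N₁) = 0
    rw [h.c1, ← mul_assoc, mul_assoc (ρ α⁻¹) (N₂ * N₁) N₁, mul_assoc N₂ N₁ N₁, s1, mul_zero, mul_zero, zero_mul]
  · show ρ α⁻¹ * (N₂ * N₁) * (ρ α⁻¹ * N₂) = ρ α⁻¹ * N₂
    rw [mul_assoc, ← mul_assoc (N₂ * N₁), ← h.c21, mul_assoc (ρ α⁻¹), ← mul_assoc (ρ α⁻¹), ← h.mul, h.n212, ha']
  · show ρ α⁻¹ * (N₂ * N₁) * (ρ α⁻¹ * (N₂ * N₁)) = ρ α⁻¹ * (N₂ * N₁)
    rw [mul_assoc, ← mul_assoc (N₂ * N₁), ← h.c21, mul_assoc (ρ α⁻¹) (N₂ * N₁), ← mul_assoc (ρ α⁻¹) (ρ α⁻¹), ← h.mul,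
      ← mul_assoc (N₂ * N₁) N₂ N₁, ← mul_assoc, h.n212, ha', mul_assoc]

theorem E_sum (h : KData F N₁ N₂ ρ α) : E N₁ N₂ ρ α 0 0 + E N₁ N₂ ρ α 1 1 = ρ 1 := by
  show ρ α⁻¹ * (N₁ * N₂) + ρ α⁻¹ * (N₂ * N₁) = ρ 1
  rw [← mul_add]
  have h1 : ρ α⁻¹ * ρ α = ρ 1 := by rw [← h.mul, inv_mul_cancel₀ h.a0]
  rw [h.a, ← mul_assoc, mul_add (ρ α⁻¹), h.c12, h.c21, add_mul, mul_assoc, mul_assoc (N₂ * N₁), h.mul_one',
    ← h.c12, ← h.c21, ← mul_add] at h1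
  exact h1

/-- The representation of `M₂(k)` extended by the exponent-`p` part on the kernel of `ρ 1`. -/
noncomputable def Psi (N₁ N₂ : A) (ρ : k → A) (α : k) (B : Matrix (Fin 2) (Fin 2) k) (x y : F) : A :=
  ∑ i, ∑ j, ρ (B i j) * E N₁ N₂ ρ α i j + (1 - ρ 1) * (1 + x • N₁ + y • N₂)

theorem sum_mul (h : KData F N₁ N₂ ρ α) (s : Finset (Fin 2)) (f : Fin 2 → k) (a : A) :
    ρ (∑ i ∈ s, f i) * a = ∑ i ∈ s, ρ (f i) * a := by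
  classical
  induction s using Finset.induction_on with
  | empty => rw [Finset.sum_empty, Finset.sum_empty, h.zero, zero_mul]
  | insert i s hi ih => rw [Finset.sum_insert hi, Finset.sum_insert hi, h.add, add_mul, ih]

theorem Phi_mul (h : KData F N₁ N₂ ρ α) (B B' : Matrix (Fin 2) (Fin 2) k) :
    (∑ i, ∑ j, ρ (B i j) * E N₁ N₂ ρ α i j) * (∑ i, ∑ j, ρ (B' i j) * E N₁ N₂ ρ α i j) =
      ∑ i, ∑ j, ρ ((B * B') i j) * E N₁ N₂ ρ α i j := by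
  have key : ∀ i j l m, (ρ (B i j) * E N₁ N₂ ρ α i j) * (ρ (B' l m) * E N₁ N₂ ρ α l m) =
      if j = l then ρ (B i j * B' l m) * E N₁ N₂ ρ α i m else 0 := by
    intro i j l m
    rw [mul_assoc, ← mul_assoc (E N₁ N₂ ρ α i j), ← h.E_comm, mul_assoc (ρ (B' l m)), h.E_mul, ← mul_assoc, ← h.mul]
    split_ifs
    · rfl
    · rw [mul_zero]
  rw [Finset.sum_mul]
  refine Finset.sum_congr rfl fun i _ => ?_
  rw [Finset.sum_mul]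
  simp only [Finset.mul_sum, key]
  calc _ = ∑ j, ∑ m, ρ (B i j * B' j m) * E N₁ N₂ ρ α i m := by
        refine Finset.sum_congr rfl fun j _ => ?_
        rw [Finset.sum_eq_single j]
        · simp
        · intro l _ hl
          simp [hl.symm]
        · intro hj; exact absurd (Finset.mem_univ j) hj
    _ = _ := by
        rw [Finset.sum_comm]
        refine Finset.sum_congr rfl fun m _ => ?_
        rw [Matrix.mul_apply, h.sum_mul]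

theorem tail_comm (h : KData F N₁ N₂ ρ α) (x y : F) :
    (1 - ρ 1) * (1 + x • N₁ + y • N₂) = (1 + x • N₁ + y • N₂) * (1 - ρ 1) := by
  have e1 : Commute (1 - ρ 1) N₁ := (Commute.one_left N₁).sub_left (h.c1 1)
  have e2 : Commute (1 - ρ 1) N₂ := (Commute.one_left N₂).sub_left (h.c2 1)
  exact ((Commute.one_right _).add_right (e1.smul_right x)).add_right (e2.smul_right y)

/-- The product of the second parts. -/
theorem tail_mul (h : KData F N₁ N₂ ρ α) (x y x' y' : F) :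
    ((1 - ρ 1) * (1 + x • N₁ + y • N₂)) * ((1 - ρ 1) * (1 + x' • N₁ + y' • N₂)) =
      (1 - ρ 1) * (1 + (x + x') • N₁ + (y + y') • N₂) := by
  have h1 : (1 + x • N₁ + y • N₂) * (1 - ρ 1) = (1 - ρ 1) * (1 + x • N₁ + y • N₂) := (h.tail_comm x y).symm
  have h2 : (1 - ρ 1) * (1 - ρ 1) = 1 - ρ 1 := by
    have e3 := h.mul_one' 1
    simp only [mul_sub, sub_mul, mul_one, one_mul, e3]
    abel
  have h3 : (1 + x • N₁ + y • N₂) * (1 + x' • N₁ + y' • N₂) =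
      (1 + (x + x') • N₁ + (y + y') • N₂) + ((x * y') • (N₁ * N₂) + (y * x') • (N₂ * N₁)) := by
    simp only [mul_add, add_mul, mul_one, one_mul, smul_mul_assoc, mul_smul_comm, h.s1, h.s2]
    module
  have h4 : (1 - ρ 1) * ((x * y') • (N₁ * N₂) + (y * x') • (N₂ * N₁)) = 0 := by
    rw [mul_add, mul_smul_comm, mul_smul_comm, h.z1, h.z2, smul_zero, smul_zero, add_zero]
  rw [mul_assoc, ← mul_assoc _ (1 - ρ 1), h1, mul_assoc, ← mul_assoc (1 - ρ 1), h2, h3, mul_add, h4, add_zero]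

theorem one_Phi (h : KData F N₁ N₂ ρ α) (B : Matrix (Fin 2) (Fin 2) k) :
    (1 - ρ 1) * (∑ i, ∑ j, ρ (B i j) * E N₁ N₂ ρ α i j) = 0 := by
  rw [Finset.mul_sum]
  refine Finset.sum_eq_zero fun i _ => ?_
  rw [Finset.mul_sum]
  refine Finset.sum_eq_zero fun j _ => ?_
  rw [← mul_assoc, sub_mul, one_mul, h.one_mul', sub_self, zero_mul]

theorem Phi_one (h : KData F N₁ N₂ ρ α) (B : Matrix (Fin 2) (Fin 2) k) :
    (∑ i, ∑ j, ρ (B i j) * E N₁ N₂ ρ α i j) * (1 - ρ 1) = 0 := by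
  rw [Finset.sum_mul]
  refine Finset.sum_eq_zero fun i _ => ?_
  rw [Finset.sum_mul]
  refine Finset.sum_eq_zero fun j _ => ?_
  rw [mul_sub, mul_one, mul_assoc, ← h.E_comm, h.one_E, sub_self]

theorem Psi_mul (h : KData F N₁ N₂ ρ α) (B B' : Matrix (Fin 2) (Fin 2) k) (x y x' y' : F) :
    Psi N₁ N₂ ρ α B x y * Psi N₁ N₂ ρ α B' x' y' = Psi N₁ N₂ ρ α (B * B') (x + x') (y + y') := by
  have h1 : (1 + x • N₁ + y • N₂) * (1 - ρ 1) = (1 - ρ 1) * (1 + x • N₁ + y • N₂) := (h.tail_comm x y).symm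
  have h2 : ∀ a b c d : A, (a + b) * (c + d) = a * c + a * d + (b * c + b * d) := fun a b c d => by
    rw [add_mul, mul_add, mul_add]
  unfold Psi
  rw [h2, h.Phi_mul, h.tail_mul, ← mul_assoc _ (1 - ρ 1), h.Phi_one, zero_mul, add_zero,
    ← h1, mul_assoc _ (1 - ρ 1), h.one_Phi, mul_zero, zero_add]

theorem Psi_one (h : KData F N₁ N₂ ρ α) : Psi N₁ N₂ ρ α 1 (0 : F) 0 = 1 := by
  unfold Psi
  simp only [Fin.sum_univ_two, Matrix.one_apply_eq, zero_smul, add_zero, mul_one]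
  rw [Matrix.one_apply_ne (by decide), Matrix.one_apply_ne (by decide), h.zero, zero_mul, zero_mul, add_zero, zero_add,
    h.one_E, h.one_E, h.E_sum]
  abel

theorem Psi_upper (h : KData F N₁ N₂ ρ α) (c : F) :
    Psi N₁ N₂ ρ α !![1, algebraMap F k c; 0, 1] c 0 = 1 + c • N₁ := by
  unfold Psi
  simp only [Fin.sum_univ_two, Matrix.of_apply, Matrix.cons_val', Matrix.cons_val_zero, Matrix.cons_val_one,
    Matrix.cons_val_fin_one, zero_smul, add_zero, h.zero, zero_mul, zero_add]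
  rw [h.one_E, h.one_E]
  have h1 : ρ (algebraMap F k c) * E N₁ N₂ ρ α 0 1 = c • (ρ 1 * N₁) := by
    show ρ (algebraMap F k c) * (ρ 1 * N₁) = _
    rw [← mul_one (algebraMap F k c), h.alg, smul_mul_assoc, ← mul_assoc, h.one_mul']
  rw [h1, sub_mul, one_mul, mul_add, mul_one, mul_smul_comm, ← h.E_sum]
  abel

theorem Psi_lower (h : KData F N₁ N₂ ρ α) (c : F) :
    Psi N₁ N₂ ρ α !![1, 0; algebraMap F k c * α, 1] 0 c = 1 + c • N₂ := by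
  unfold Psi
  simp only [Fin.sum_univ_two, Matrix.of_apply, Matrix.cons_val', Matrix.cons_val_zero, Matrix.cons_val_one,
    Matrix.cons_val_fin_one, zero_smul, add_zero, h.zero, zero_mul]
  rw [h.one_E, h.one_E]
  have h1 : ρ (algebraMap F k c * α) * E N₁ N₂ ρ α 1 0 = c • (ρ 1 * N₂) := by
    show ρ (algebraMap F k c * α) * (ρ α⁻¹ * N₂) = _
    rw [h.alg, smul_mul_assoc, ← mul_assoc, ← h.mul, mul_inv_cancel₀ h.a0]
  rw [h1, sub_mul, one_mul, mul_add, mul_one, mul_smul_comm, ← h.E_sum]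
  abel

/-- The elements of `SL₂(F(α))` come from elements of `M`. -/
theorem exists_Psi {M : Subgroup Aˣ} {S : Set A} (hS : RootSet F M S) (h : KData F N₁ N₂ ρ α) (h1 : N₁ ∈ S)
    (h2 : N₂ ∈ S) (hk2 : ringChar F ≠ 2) (hk3 : Nat.card F ≠ 3) (hα : IsAlgebraic F α)
    (g : Matrix.SpecialLinearGroup (Fin 2) k)
    (hg : ∀ i j : Fin 2, (g : Matrix (Fin 2) (Fin 2) k) i j ∈ IntermediateField.adjoin F ({α} : Set k)) :
    ∃ m ∈ M, ∃ x y : F, (m : A) = Psi N₁ N₂ ρ α (g : Matrix (Fin 2) (Fin 2) k) x y := by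
  have key := Cfsg.Agent.S5060.result hk2 hk3 α hα h.a0
  have hg' : g ∈ Subgroup.closure ({g : Matrix.SpecialLinearGroup (Fin 2) k | ∃ c : F, (g : Matrix (Fin 2) (Fin 2) k) = !![1, algebraMap F k c; 0, 1]} ∪
        {g : Matrix.SpecialLinearGroup (Fin 2) k | ∃ c : F, (g : Matrix (Fin 2) (Fin 2) k) = !![1, 0; algebraMap F k c * α, 1]}) := by
    have : g ∈ ((Subgroup.closure ({g : Matrix.SpecialLinearGroup (Fin 2) k | ∃ c : F, (g : Matrix (Fin 2) (Fin 2) k) = !![1, algebraMap F k c; 0, 1]} ∪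
        {g : Matrix.SpecialLinearGroup (Fin 2) k | ∃ c : F, (g : Matrix (Fin 2) (Fin 2) k) = !![1, 0; algebraMap F k c * α, 1]}) : Subgroup _) : Set _) := by
      rw [key]; exact hg
    exact this
  clear hg key
  induction hg' using Subgroup.closure_induction with
  | mem g hg =>
    rcases hg with ⟨c, hc⟩ | ⟨c, hc⟩
    · refine ⟨_, hS.unip_mem h1 c, c, 0, ?_⟩
      rw [hc, h.Psi_upper]
      rfl
    · refine ⟨_, hS.unip_mem h2 c, 0, c, ?_⟩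
      rw [hc, h.Psi_lower]
      rfl
  | one => exact ⟨1, M.one_mem, 0, 0, by rw [Matrix.SpecialLinearGroup.coe_one, h.Psi_one]; rfl⟩
  | mul g g' _ _ ih ih' =>
    obtain ⟨m, hm, x, y, e⟩ := ih
    obtain ⟨m', hm', x', y', e'⟩ := ih'
    exact ⟨m * m', M.mul_mem hm hm', x + x', y + y', by
      rw [Units.val_mul, e, e', h.Psi_mul, Matrix.SpecialLinearGroup.coe_mul]⟩
  | inv g _ ih =>
    obtain ⟨m, hm, x, y, e⟩ := ih
    refine ⟨m⁻¹, M.inv_mem hm, -x, -y, ?_⟩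
    have e2 : (m : A) * Psi N₁ N₂ ρ α ((g⁻¹ : Matrix.SpecialLinearGroup (Fin 2) k) : Matrix (Fin 2) (Fin 2) k) (-x) (-y) = 1 := by
      rw [e, h.Psi_mul, ← Matrix.SpecialLinearGroup.coe_mul, mul_inv_cancel, Matrix.SpecialLinearGroup.coe_one,
        add_neg_cancel, add_neg_cancel, h.Psi_one]
    calc ((m⁻¹ : Aˣ) : A) = ((m⁻¹ : Aˣ) : A) * ((m : A) * Psi N₁ N₂ ρ α ((g⁻¹ : Matrix.SpecialLinearGroup (Fin 2) k) : Matrix (Fin 2) (Fin 2) k) (-x) (-y)) := by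
          rw [e2, mul_one]
      _ = _ := by rw [← mul_assoc, Units.inv_mul, one_mul]

/-- The conjugate of `N₁` under the torus. -/
theorem torus_conj (h : KData F N₁ N₂ ρ α) {m : Aˣ} {t : k} (ht : t ≠ 0) {x y : F}
    (hm : (m : A) = Psi N₁ N₂ ρ α !![t, 0; 0, t⁻¹] x y) :
    (m : A) * N₁ * ((m⁻¹ : Aˣ) : A) = (ρ (t * t) + (1 - ρ 1)) * N₁ := by
  have e01 : ρ 1 * N₁ = E N₁ N₂ ρ α 0 1 := rfl
  have hP : Psi N₁ N₂ ρ α !![t, 0; 0, t⁻¹] x y =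
      ρ t * E N₁ N₂ ρ α 0 0 + ρ t⁻¹ * E N₁ N₂ ρ α 1 1 + (1 - ρ 1) * (1 + x • N₁ + y • N₂) := by
    unfold Psi
    simp only [Fin.sum_univ_two, Matrix.of_apply, Matrix.cons_val', Matrix.cons_val_zero, Matrix.cons_val_one,
      Matrix.cons_val_fin_one, add_zero, h.zero, zero_mul, zero_add]
  have hN : N₁ = E N₁ N₂ ρ α 0 1 + (1 - ρ 1) * N₁ := by
    rw [← e01, sub_mul, one_mul]; abel
  have hone : ∀ x : k, ρ x * (1 - ρ 1) = 0 := fun x => by rw [mul_sub, mul_one, h.mul_one', sub_self]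
  have htail1 : (1 - ρ 1) * (1 + x • N₁ + y • N₂) * N₁ = (1 - ρ 1) * N₁ := by
    rw [mul_assoc, add_mul, add_mul, one_mul, smul_mul_assoc, h.s1, smul_zero, add_zero, mul_add, smul_mul_assoc,
      mul_smul_comm, h.z2, smul_zero, add_zero]
  have htail2 : N₁ * ((1 - ρ 1) * (1 + x • N₁ + y • N₂)) = (1 - ρ 1) * N₁ := by
    have e1 : N₁ * (1 - ρ 1) = (1 - ρ 1) * N₁ := by rw [mul_sub, sub_mul, mul_one, one_mul, h.c1]
    have e2 : N₁ * (1 + x • N₁ + y • N₂) = N₁ + y • (N₁ * N₂) := by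
      rw [mul_add, mul_add, mul_one, mul_smul_comm, h.s1, smul_zero, add_zero, mul_smul_comm]
    rw [← mul_assoc, e1, mul_assoc, e2, mul_add, mul_smul_comm, h.z1, smul_zero, add_zero]
  have hE1 : ∀ s : k, ρ s * E N₁ N₂ ρ α 0 1 = ρ s * N₁ := fun s => by
    rw [← e01, ← mul_assoc, h.mul_one']
  have h1 : (m : A) * N₁ = (ρ t + (1 - ρ 1)) * N₁ := by
    rw [hm, hP, add_mul, htail1, add_mul]
    congr 1
    have hN' : ∀ i j, E N₁ N₂ ρ α i j * N₁ = E N₁ N₂ ρ α i j * E N₁ N₂ ρ α 0 1 := by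
      intro i j
      rw [← e01, ← mul_assoc, ← h.E_comm, h.one_E]
    rw [add_mul, mul_assoc, mul_assoc, hN', hN', h.E_mul, h.E_mul, if_pos rfl, if_neg (by decide), mul_zero, add_zero,
      hE1]
  have h2 : N₁ * (m : A) = (ρ t⁻¹ + (1 - ρ 1)) * N₁ := by
    rw [hm, hP, mul_add, htail2, add_mul]
    congr 1
    have hN' : ∀ i j, N₁ * E N₁ N₂ ρ α i j = E N₁ N₂ ρ α 0 1 * E N₁ N₂ ρ α i j := by
      intro i j
      rw [← e01, h.c1, mul_assoc, h.one_E]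
    rw [mul_add, ← mul_assoc, ← h.c1, mul_assoc, ← mul_assoc N₁, ← h.c1, mul_assoc (ρ t⁻¹), hN', hN', h.E_mul, h.E_mul,
      if_neg (by decide), if_pos rfl, mul_zero, zero_add, hE1]
  have h3 : (ρ t + (1 - ρ 1)) * (N₁ * (m : A)) = N₁ := by
    rw [h2, ← mul_assoc]
    have e1 : (ρ t + (1 - ρ 1)) * (ρ t⁻¹ + (1 - ρ 1)) = 1 := by
      have e2 : (1 - ρ 1) * (1 - ρ 1) = 1 - ρ 1 := by
        have e3 := h.mul_one' 1
        simp only [mul_sub, sub_mul, mul_one, one_mul, e3]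
        abel
      have e4 : (1 - ρ 1) * ρ t⁻¹ = 0 := by rw [sub_mul, one_mul, h.one_mul', sub_self]
      rw [add_mul, mul_add, mul_add, hone, e2, e4, ← h.mul, mul_inv_cancel₀ ht]
      abel
    rw [e1, one_mul]
  have h4 : N₁ * ((m⁻¹ : Aˣ) : A) = (ρ t + (1 - ρ 1)) * N₁ := by
    calc N₁ * ((m⁻¹ : Aˣ) : A) = (ρ t + (1 - ρ 1)) * (N₁ * (m : A)) * ((m⁻¹ : Aˣ) : A) := by rw [h3]
      _ = _ := by rw [mul_assoc, mul_assoc N₁, Units.mul_inv, mul_one]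
  rw [h1, mul_assoc, h4, ← mul_assoc]
  congr 1
  have e2 : (1 - ρ 1) * (1 - ρ 1) = 1 - ρ 1 := by
    have e3 := h.mul_one' 1
    simp only [mul_sub, sub_mul, mul_one, one_mul, e3]
    abel
  have e4 : (1 - ρ 1) * ρ t = 0 := by rw [sub_mul, one_mul, h.one_mul', sub_self]
  rw [add_mul, mul_add, mul_add, hone, e2, e4, ← h.mul]
  abel

end KData

end Cfsg.Agent.H914.RootPair
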