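import Cfsg.Agent.H914.SixSym
import Cfsg.Agent.H464.Sl2Basic
import Cfsg.Agent.PermutationGroups.ZassIcos

/-!
# `SL₂(5)` in `SL₂(F)` when `F` contains the golden ratio (helper914)

* `exists_kappa` : an injective hom `SL₂(ZMod 5) →* SL₂(F)`
* `sig_cases` : the trace of the fifth symmetric power
* `sum_sig`
-/

set_option autoImplicit false
set_option linter.unusedSectionVars false

namespace Cfsg.Agent.H914.S6

open Matrix

variable {F : Type*} [Field F] [Fintype F]

theorem exists_conic (h2 : (2 : F) ≠ 0) (h3 : (3 : F) ≠ 0) {τ : F} (hτ : τ * τ = τ + 1) :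
    ∃ a b : F, a * a + a * b + b * b + a + (1 - τ) * b + 1 = 0 := by
  have hodd : Fintype.card F % 2 = 1 := by
    apply FiniteField.odd_card_of_char_ne_two
    intro h
    apply h2
    have : CharP F 2 := by rw [← h]; exact ringChar.charP F
    exact_mod_cast CharP.cast_eq_zero F 2
  obtain ⟨s, u, hsu⟩ := FiniteField.exists_root_sum_quadratic
    (f := Polynomial.C 3 * Polynomial.X ^ 2 + Polynomial.C 0 * Polynomial.X + Polynomial.C (4 : F))
    (g := Polynomial.C 1 * Polynomial.X ^ 2 + Polynomial.C 0 * Polynomial.X + Polynomial.C (0 : F))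
    (Polynomial.degree_quadratic h3) (Polynomial.degree_quadratic one_ne_zero) hodd
  simp only [Polynomial.eval_add, Polynomial.eval_mul, Polynomial.eval_C, Polynomial.eval_pow, Polynomial.eval_X] at hsu
  obtain ⟨b, hb⟩ : ∃ b : F, 3 * b = u + 2 * τ - 1 := ⟨(u + 2 * τ - 1) / 3, by field_simp⟩
  obtain ⟨a, ha⟩ : ∃ a : F, 2 * a = s - b - 1 := ⟨(s - b - 1) / 2, by field_simp⟩
  refine ⟨a, b, ?_⟩
  have h12 : (12 : F) ≠ 0 := by
    have : (12 : F) = 2 * 2 * 3 := by norm_num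
    rw [this]
    exact mul_ne_zero (mul_ne_zero h2 h2) h3
  apply (mul_eq_zero.1 (?_ : (12 : F) * _ = 0)).resolve_left h12
  have e1 : s = 2 * a + b + 1 := by linear_combination -ha
  have e2 : u = 3 * b - 2 * τ + 1 := by linear_combination -hb
  rw [e1, e2] at hsu
  linear_combination hsu - 4 * hτ

theorem ofNat_isUnit {n : ℕ} (h : (n : F) ≠ 0) : IsUnit ((n : Matrix (Fin 2) (Fin 2) F)) := by
  have : ((n : Matrix (Fin 2) (Fin 2) F)) = algebraMap F _ (n : F) := by simp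
  rw [this]
  exact (isUnit_iff_ne_zero.2 h).map (algebraMap F (Matrix (Fin 2) (Fin 2) F))

/-- `SL₂(5)` embeds in `SL₂(F)` -/
theorem exists_kappa (h2 : (2 : F) ≠ 0) (h3 : (3 : F) ≠ 0) (h5 : (5 : F) ≠ 0) {τ : F} (hτ : τ * τ = τ + 1) :
    ∃ κ : SpecialLinearGroup (Fin 2) (ZMod 5) →* SpecialLinearGroup (Fin 2) F, Function.Injective κ := by
  obtain ⟨a, b, hab⟩ := exists_conic h2 h3 hτ
  obtain ⟨c, hc⟩ : ∃ c : F, c = a + b + 1 - τ := ⟨_, rfl⟩
  have hd : a * (-1 - a) - b * c = 1 := by rw [hc]; linear_combination -hab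
  let x : SpecialLinearGroup (Fin 2) F := ⟨!![0, -1; 1, -1], by simp [det_fin_two]⟩
  let y : SpecialLinearGroup (Fin 2) F := ⟨!![a, b; c, -1 - a], by rw [det_fin_two]; simpa using hd⟩
  let j : SpecialLinearGroup (Fin 2) F →* (Matrix (Fin 2) (Fin 2) F)ˣ := SpecialLinearGroup.toGL
  have hjx : ((j x : (Matrix (Fin 2) (Fin 2) F)ˣ) : Matrix (Fin 2) (Fin 2) F) = !![0, -1; 1, -1] := rfl
  have hjy : ((j y : (Matrix (Fin 2) (Fin 2) F)ˣ) : Matrix (Fin 2) (Fin 2) F) = !![a, b; c, -1 - a] := rfl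
  have hx : ((j x : (Matrix (Fin 2) (Fin 2) F)ˣ) : Matrix (Fin 2) (Fin 2) F) ^ 2 + (j x : (Matrix (Fin 2) (Fin 2) F)ˣ) + 1 = 0 := by
    rw [hjx, pow_two]
    ext i k
    fin_cases i <;> fin_cases k <;> simp [Matrix.mul_apply, Fin.sum_univ_two]
  have hy : ((j y : (Matrix (Fin 2) (Fin 2) F)ˣ) : Matrix (Fin 2) (Fin 2) F) ^ 2 + (j y : (Matrix (Fin 2) (Fin 2) F)ˣ) + 1 = 0 := by
    rw [hjy, pow_two]
    ext i k
    fin_cases i <;> fin_cases k <;> simp [Matrix.mul_apply, Fin.sum_univ_two]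
    · linear_combination -hd
    · ring
    · ring
    · linear_combination -hd
  have hT : ((j x : Matrix (Fin 2) (Fin 2) F) * (j y : Matrix (Fin 2) (Fin 2) F) + (j y : Matrix (Fin 2) (Fin 2) F) *
      (j x : Matrix (Fin 2) (Fin 2) F) + (j x : Matrix (Fin 2) (Fin 2) F) + (j y : Matrix (Fin 2) (Fin 2) F) + 1) =
      !![τ, 0; 0, τ] := by
    rw [hjx, hjy]
    ext i k
    fin_cases i <;> fin_cases k <;> simp [Matrix.mul_apply, Fin.sum_univ_two, hc] <;> ring
  obtain ⟨Ψ, hΨ, hr⟩ := PermutationGroups.ZassIcos.icosahedral (E := Matrix (Fin 2) (Fin 2) F)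
    (ofNat_isUnit (n := 2) (by exact_mod_cast h2)) (ofNat_isUnit (n := 3) (by exact_mod_cast h3))
    (ofNat_isUnit (n := 5) (by exact_mod_cast h5)) (j x) (j y) hx hy (by
      rw [hT]
      ext i k
      fin_cases i <;> fin_cases k <;> simp [Matrix.mul_apply, Fin.sum_univ_two, hτ])
  have hle : Ψ.range ≤ j.range := by
    rw [hr, Subgroup.closure_le]
    rintro z (rfl | rfl)
    · exact ⟨x, rfl⟩
    · exact ⟨y, rfl⟩
  have hj : Function.Injective j := SpecialLinearGroup.toGL_injective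
  let e : SpecialLinearGroup (Fin 2) F ≃* j.range := MonoidHom.ofInjective hj
  let κ : SpecialLinearGroup (Fin 2) (ZMod 5) →* SpecialLinearGroup (Fin 2) F :=
    e.symm.toMonoidHom.comp (Ψ.codRestrict j.range fun g => hle ⟨g, rfl⟩)
  refine ⟨κ, ?_⟩
  intro g g' h
  have h1 : (Ψ.codRestrict j.range fun g => hle ⟨g, rfl⟩) g = (Ψ.codRestrict j.range fun g => hle ⟨g, rfl⟩) g' :=
    e.symm.injective h
  exact hΨ (congrArg Subtype.val h1)

/-! ### traces -/

section tr

variable {R : Type*} [CommRing R]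

/-- the matrix -/
def mt (g : SpecialLinearGroup (Fin 2) R) : Matrix (Fin 2) (Fin 2) R := g.1

theorem mt_mul (g h : SpecialLinearGroup (Fin 2) R) : mt (g * h) = mt g * mt h := rfl

theorem mt_one : mt (1 : SpecialLinearGroup (Fin 2) R) = 1 := rfl

theorem mt_neg (g : SpecialLinearGroup (Fin 2) R) : mt (-g) = -mt g := rfl

theorem mt_inj {g h : SpecialLinearGroup (Fin 2) R} (e : mt g = mt h) : g = h := Subtype.ext e

/-- the trace of an element of `SL₂` -/
def t2 (g : SpecialLinearGroup (Fin 2) R) : R := mt g 0 0 + mt g 1 1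

theorem ch (g : SpecialLinearGroup (Fin 2) R) : mt g * mt g = t2 g • mt g - 1 := by
  have hd : mt g 0 0 * mt g 1 1 - mt g 0 1 * mt g 1 0 = 1 := by
    have := g.2
    rwa [Matrix.det_fin_two] at this
  unfold t2
  generalize mt g = A at hd ⊢
  ext i k
  fin_cases i <;> fin_cases k <;> simp [Matrix.mul_apply, Fin.sum_univ_two]
  · linear_combination -hd
  · ring
  · ring
  · linear_combination -hd

theorem mt_two (g : SpecialLinearGroup (Fin 2) R) : mt (g ^ 2) = t2 g • mt g - 1 := by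
  rw [pow_two, mt_mul, ch]

theorem mt_three (g : SpecialLinearGroup (Fin 2) R) : mt (g ^ 3) = (t2 g ^ 2 - 1) • mt g - t2 g • 1 := by
  rw [pow_succ, pow_two, mt_mul, mt_mul, ch, Matrix.sub_mul, Matrix.smul_mul, ch, Matrix.one_mul, smul_sub,
    smul_smul, sub_smul, one_smul, pow_two]
  abel

theorem mt_five (g : SpecialLinearGroup (Fin 2) R) :
    mt (g ^ 5) = (t2 g ^ 4 - 3 * t2 g ^ 2 + 1) • mt g - (t2 g ^ 3 - 2 * t2 g) • 1 := by
  have e : g ^ 5 = g ^ 3 * g ^ 2 := by rw [← pow_add]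
  rw [e, mt_mul, mt_three, mt_two]
  generalize ht : t2 g = s
  have h := ch g
  rw [ht] at h
  simp only [Matrix.sub_mul, Matrix.mul_sub, Matrix.smul_mul, Matrix.mul_smul, h, Matrix.mul_one,
    Matrix.one_mul, smul_sub, smul_smul]
  ext i k
  simp only [Matrix.sub_apply, Matrix.smul_apply, smul_eq_mul]
  ring

theorem t2_neg (g : SpecialLinearGroup (Fin 2) R) : t2 (-g) = -t2 g := by
  unfold t2
  rw [mt_neg, Matrix.neg_apply, Matrix.neg_apply]
  ring

theorem t2_one : t2 (1 : SpecialLinearGroup (Fin 2) R) = 2 := by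
  unfold t2
  rw [mt_one, Matrix.one_apply_eq, Matrix.one_apply_eq]
  norm_num

/-- the trace of the fifth symmetric power -/
def sg (x : R) : R := x ^ 5 - 4 * x ^ 3 + 3 * x

theorem sg_neg (x : R) : sg (-x) = -sg x := by
  unfold sg; ring

end tr

section fld

variable {R : Type*} [Field R]

/-- a linear relation `α g = β` in `SL₂` with `g ≠ ±1` is trivial -/
theorem lin_rel {g : SpecialLinearGroup (Fin 2) R} {α β : R}
    (h : α • mt g = β • 1) (h1 : g ≠ 1) (h2 : g ≠ -1) : α = 0 ∧ β = 0 := by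
  have hα : α = 0 := by
    by_contra hα
    have e : mt g = (α⁻¹ * β) • 1 := by
      rw [mul_smul, ← h, smul_smul, inv_mul_cancel₀ hα, one_smul]
    have hd : (mt g).det = 1 := g.2
    rw [e, Matrix.det_smul, Matrix.det_one, mul_one, Fintype.card_fin, sq] at hd
    rcases mul_self_eq_one_iff.1 hd with h3 | h3
    · apply h1
      apply mt_inj
      rw [e, h3, one_smul, mt_one]
    · apply h2
      apply mt_inj
      rw [e, h3, mt_neg, mt_one, neg_smul, one_smul]
  refine ⟨hα, ?_⟩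
  rw [hα, zero_smul] at h
  have := congrFun (congrFun h 0) 0
  simpa using this.symm

theorem sg_five {g : SpecialLinearGroup (Fin 2) R} (h5 : g ^ 5 = 1) (h1 : g ≠ 1) (h2 : g ≠ -1) :
    sg (t2 g) = 1 := by
  have h := mt_five g
  rw [h5, mt_one] at h
  obtain ⟨e1, e2⟩ := lin_rel (α := t2 g ^ 4 - 3 * t2 g ^ 2 + 1) (β := t2 g ^ 3 - 2 * t2 g + 1) (by
    rw [eq_sub_iff_add_eq] at h
    rw [add_smul (t2 g ^ 3 - 2 * t2 g) 1, one_smul, ← h, add_comm]) h1 h2
  have h3 : (t2 g - 1) * (t2 g ^ 2 + t2 g - 1) = 0 := by linear_combination e2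
  have h4 : t2 g ^ 2 + t2 g - 1 = 0 := by
    rcases mul_eq_zero.1 h3 with h | h
    · exfalso
      have h5 : t2 g = 1 := by linear_combination h
      rw [h5] at e1
      norm_num at e1
    · exact h
  unfold sg
  linear_combination (t2 g ^ 3 - t2 g ^ 2 - 2 * t2 g + 1) * h4

theorem sg_three {g : SpecialLinearGroup (Fin 2) R} (h3 : g ^ 3 = 1) (h1 : g ≠ 1) (h2 : g ≠ -1) :
    sg (t2 g) = 0 := by
  have h := mt_three g
  rw [h3, mt_one] at h
  obtain ⟨e1, e2⟩ := lin_rel (α := t2 g ^ 2 - 1) (β := t2 g + 1) (by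
    rw [eq_sub_iff_add_eq] at h
    rw [add_smul, one_smul, ← h, add_comm]) h1 h2
  have h4 : t2 g = -1 := by linear_combination e2
  rw [h4]
  unfold sg
  norm_num

theorem sg_two {g : SpecialLinearGroup (Fin 2) R} (h3 : g ^ 2 = -1) (h1 : g ≠ 1) (h2 : g ≠ -1) :
    sg (t2 g) = 0 := by
  have h := mt_two g
  rw [h3, mt_neg, mt_one] at h
  obtain ⟨e1, e2⟩ := lin_rel (α := t2 g) (β := 0) (by
    rw [zero_smul]
    rw [eq_sub_iff_add_eq, neg_add_cancel] at h
    exact h.symm) h1 h2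
  rw [e1]
  unfold sg
  norm_num

end fld

theorem neg_one_ne : (-1 : SpecialLinearGroup (Fin 2) (ZMod 5)) ≠ 1 := by
  intro h
  have h2 := congrFun (congrFun (congrArg mt h) 0) 0
  rw [mt_neg, mt_one] at h2
  revert h2
  decide

theorem kappa_neg_one (h2 : (2 : F) ≠ 0) {κ : SpecialLinearGroup (Fin 2) (ZMod 5) →* SpecialLinearGroup (Fin 2) F}
    (hκ : Function.Injective κ) : κ (-1) = -1 := by
  have h0 : (-1 : SpecialLinearGroup (Fin 2) (ZMod 5)) ^ 2 = 1 := by simp
  have hne : κ (-1) ≠ 1 := by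
    intro h
    rw [← map_one κ] at h
    exact neg_one_ne (hκ h)
  by_contra hne'
  have h1 : κ (-1) ^ 2 = 1 := by rw [← map_pow, h0, map_one]
  have h := mt_two (κ (-1))
  rw [h1, mt_one] at h
  obtain ⟨e1, e2⟩ := lin_rel (g := κ (-1)) (α := t2 (κ (-1))) (β := 2) (by
    rw [eq_sub_iff_add_eq] at h
    rw [← h, two_smul]) hne hne'
  exact h2 e2

theorem kappa_neg (h2 : (2 : F) ≠ 0) {κ : SpecialLinearGroup (Fin 2) (ZMod 5) →* SpecialLinearGroup (Fin 2) F}
    (hκ : Function.Injective κ) (g : SpecialLinearGroup (Fin 2) (ZMod 5)) : κ (-g) = -κ g := by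
  have : -g = -1 * g := by simp
  rw [this, map_mul, kappa_neg_one h2 hκ, neg_one_mul]

/-- the summands -/
def cf (q : ZMod 5 × ZMod 5 × ZMod 5 × ZMod 5) : ℤ :=
  if q = (1, 0, 0, 1) ∨ q = (4, 0, 0, 4) then 36 else if q.1 + q.2.2.2 = 2 ∨ q.1 + q.2.2.2 = 3 then 1 else 0

/-- entries -/
def ent (g : SpecialLinearGroup (Fin 2) (ZMod 5)) : ZMod 5 × ZMod 5 × ZMod 5 × ZMod 5 :=
  (mt g 0 0, mt g 0 1, mt g 1 0, mt g 1 1)

theorem sum_cf : ∑ g : SpecialLinearGroup (Fin 2) (ZMod 5), cf (ent g) = 120 := by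
  let e : SpecialLinearGroup (Fin 2) (ZMod 5) ≃
      {q : ZMod 5 × ZMod 5 × ZMod 5 × ZMod 5 // q.1 * q.2.2.2 - q.2.1 * q.2.2.1 = 1} :=
    { toFun := fun g => ⟨ent g, by
        have := g.2
        rwa [Matrix.det_fin_two] at this⟩
      invFun := fun q => ⟨!![q.1.1, q.1.2.1; q.1.2.2.1, q.1.2.2.2], by
        rw [Matrix.det_fin_two]; exact q.2⟩
      left_inv := fun g => by
        apply Subtype.ext
        exact (Matrix.eta_fin_two _).symm
      right_inv := fun q => by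
        apply Subtype.ext
        rfl }
  rw [Fintype.sum_equiv e (fun g => cf (ent g)) (fun q => cf q.1) (fun g => rfl)]
  rw [← Finset.sum_subtype (Finset.univ.filter fun q : ZMod 5 × ZMod 5 × ZMod 5 × ZMod 5 =>
    q.1 * q.2.2.2 - q.2.1 * q.2.2.1 = 1) (by simp) cf, Finset.sum_filter]
  decide +kernel

theorem mem_pm {g : SpecialLinearGroup (Fin 2) (ZMod 5)} : g = 1 ∨ g = -1 ↔ ent g = (1, 0, 0, 1) ∨ ent g = (4, 0, 0, 4) := by
  have e : ∀ g : SpecialLinearGroup (Fin 2) (ZMod 5), mt g = !![(ent g).1, (ent g).2.1; (ent g).2.2.1, (ent g).2.2.2] :=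
    fun g => Matrix.eta_fin_two _
  constructor
  · rintro (rfl | rfl)
    · left; rfl
    · right; decide
  · rintro (h | h)
    · left
      apply mt_inj
      rw [e g, h, mt_one]
      decide
    · right
      apply mt_inj
      rw [e g, h, mt_neg, mt_one]
      decide

end Cfsg.Agent.H914.S6
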