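import Cfsg.Agent.H915.LD

/-!
# Intertwiners from traces (helper914)

* `exists_intertwiner` : `∑ g, tr ρ₂(g⁻¹) tr ρ₁(g) ≠ 0` gives `M ≠ 0` with `M ρ₁(g) = ρ₂(g) M`
* `exists_conj` : if `ρ₁` is irreducible then `ρ₂(g) = B ρ₁(g) B⁻¹`
-/

set_option autoImplicit false
set_option linter.unusedSectionVars false

namespace Cfsg.Agent.H914.S6

open Cfsg Cfsg.Geo Matrix

variable {G : Type*} [Group G] [Fintype G] {F : Type*} [Field F] {ι : Type} [Fintype ι] [DecidableEq ι]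

theorem exists_intertwiner (ρ₁ ρ₂ : G →* Matrix ι ι F) (h : ∑ g : G, (ρ₂ g⁻¹).trace * (ρ₁ g).trace ≠ 0) :
    ∃ M : Matrix ι ι F, M ≠ 0 ∧ ∀ g, M * ρ₁ g = ρ₂ g * M := by
  classical
  -- `M_{ij} = ∑ g, ρ₂(g⁻¹) E_{ij} ρ₁(g)`
  let M : ι → ι → Matrix ι ι F := fun i j => ∑ g : G, ρ₂ g⁻¹ * Matrix.single i j 1 * ρ₁ g
  have hM : ∀ i j g, M i j * ρ₁ g = ρ₂ g * M i j := by
    intro i j g
    simp only [M, Finset.sum_mul, Finset.mul_sum]
    refine Fintype.sum_equiv (Equiv.mulRight g) _ _ fun x => ?_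
    simp only [Equiv.coe_mulRight]
    have h1 : ρ₂ g * ρ₂ g⁻¹ = 1 := by rw [← map_mul, mul_inv_cancel, map_one]
    rw [_root_.mul_inv_rev, map_mul, map_mul]
    simp only [Matrix.mul_assoc]
    rw [← Matrix.mul_assoc (ρ₂ g) (ρ₂ g⁻¹), h1, Matrix.one_mul]
  by_contra hcon
  push Not at hcon
  apply h
  have h0 : ∀ i j, M i j = 0 := by
    intro i j
    by_contra hne
    obtain ⟨g, hg⟩ := hcon (M i j) hne
    exact hg (hM i j g)
  have h1 : ∑ i, ∑ j, (M i j) i j = ∑ g : G, (ρ₂ g⁻¹).trace * (ρ₁ g).trace := by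
    have h2 : ∀ (i j : ι) (g : G), ((ρ₂ g⁻¹ * Matrix.single i j 1 * ρ₁ g : Matrix ι ι F)) i j =
        ρ₂ g⁻¹ i i * ρ₁ g j j := by
      intro i j g
      rw [Matrix.mul_apply, Finset.sum_eq_single j]
      · rw [Matrix.mul_single_apply_same, mul_one]
      · intro b _ hb
        rw [Matrix.mul_single_apply_of_ne (hbj := hb), zero_mul]
      · intro hb; exact absurd (Finset.mem_univ _) hb
    have h3 : ∀ i j, (M i j) i j = ∑ g : G, ρ₂ g⁻¹ i i * ρ₁ g j j := by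
      intro i j
      change (∑ g : G, ρ₂ g⁻¹ * Matrix.single i j 1 * ρ₁ g : Matrix ι ι F) i j = _
      rw [Matrix.sum_apply]
      exact Finset.sum_congr rfl fun g _ => h2 i j g
    simp only [h3]
    calc ∑ i, ∑ j, ∑ g : G, ρ₂ g⁻¹ i i * ρ₁ g j j = ∑ i, ∑ g : G, ∑ j, ρ₂ g⁻¹ i i * ρ₁ g j j :=
          Finset.sum_congr rfl fun i _ => Finset.sum_comm
      _ = ∑ g : G, ∑ i, ∑ j, ρ₂ g⁻¹ i i * ρ₁ g j j := Finset.sum_comm
      _ = _ := by
        refine Finset.sum_congr rfl fun g _ => ?_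
        rw [Matrix.trace, Matrix.trace, Finset.sum_mul_sum]
        rfl
  rw [← h1]
  exact Finset.sum_eq_zero fun i _ => Finset.sum_eq_zero fun j _ => by rw [h0]; rfl

/-- two representations, the first one irreducible, with non-zero character product are conjugate -/
theorem exists_conj (ρ₁ ρ₂ : G →* GL ι F) (hirr : ActsIrreducibly (matrixSet ρ₁.range))
    (h : ∑ g : G, (ρ₂ g⁻¹ : Matrix ι ι F).trace * (ρ₁ g : Matrix ι ι F).trace ≠ 0) :
    ∃ B : GL ι F, ∀ g, ρ₂ g = B * ρ₁ g * B⁻¹ := by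
  obtain ⟨M, hM0, hM⟩ := exists_intertwiner ((Units.coeHom _).comp ρ₁) ((Units.coeHom _).comp ρ₂) h
  let W : Submodule F (ι → F) := LinearMap.ker (Matrix.mulVecLin M)
  have hW : W = ⊥ ∨ W = ⊤ := by
    apply hirr W
    rintro _ ⟨_, ⟨g, rfl⟩, rfl⟩ _ ⟨v, hv, rfl⟩
    rw [SetLike.mem_coe, LinearMap.mem_ker, Matrix.mulVecLin_apply] at hv
    rw [LinearMap.mem_ker, Matrix.mulVecLin_apply, Matrix.toLin'_apply]
    have h1 := hM g
    change M * (ρ₁ g : Matrix ι ι F) = (ρ₂ g : Matrix ι ι F) * M at h1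
    rw [Matrix.mulVec_mulVec, h1, ← Matrix.mulVec_mulVec, hv, Matrix.mulVec_zero]
  rcases hW with hW | hW
  · have hinj : Function.Injective (Matrix.mulVecLin M) := LinearMap.ker_eq_bot.1 hW
    have hu : IsUnit M := by
      have hinj' : Function.Injective M.mulVec := hinj
      rwa [Matrix.mulVec_injective_iff_isUnit] at hinj'
    obtain ⟨B, rfl⟩ := hu
    refine ⟨B, fun g => ?_⟩
    rw [eq_mul_inv_iff_mul_eq]
    apply Units.ext
    rw [Units.val_mul, Units.val_mul]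
    exact (hM g).symm
  · exfalso
    apply hM0
    have h2 : Matrix.mulVecLin M = 0 := LinearMap.ker_eq_top.1 hW
    ext i j
    have := congrFun (LinearMap.congr_fun h2 (Pi.single j 1)) i
    rw [Matrix.mulVecLin_apply, Matrix.mulVec_single_one] at this
    exact this

end Cfsg.Agent.H914.S6
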