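import Cfsg.Agent.H914.SixBase
import Cfsg.Agent.H914.SixInter
import Cfsg.Agent.H914.SixIcos
import Cfsg.Agent.H464.L2StageOne

/-!
# `SL₂(5)` in `Sp₆(F)` (helper914): traces and the conjugation into `Sym⁵(SL₂(F))`
-/

set_option autoImplicit false
set_option linter.unusedSectionVars false
set_option maxHeartbeats 400000

namespace Cfsg.Agent.H914.S6

open Cfsg Cfsg.Geo Matrix Cfsg.Agent.H915.LD Cfsg.Agent.H464.Sl2 Module

universe u v

local instance fact5 : Fact (Nat.Prime 5) := ⟨Nat.prime_five⟩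

/-- degree `q + 1`: the unipotent elements have trace `1` -/
theorem trace_u_succ {K : Type*} [Field K] [Fintype K] (h4 : 4 ≤ Fintype.card K) {F : Type*} [Field F] {n : ℕ}
    (hK : (Fintype.card K : F) ≠ 0)
    (ρ : Matrix.SpecialLinearGroup (Fin 2) K →* GL (Fin n) F) (hρ : ρ ≠ 1)
    (habs : ActsAbsolutelyIrreducibly (matrixSet ρ.range)) (hn : n = Fintype.card K + 1) {x : K} (hx : x ≠ 0) :
    (ρ (u x) : Matrix (Fin n) (Fin n) F).trace = 1 := by
  classical
  let k := AlgebraicClosure F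
  have hKk : (Fintype.card K : k) ≠ 0 := by
    intro h
    apply hK
    apply (algebraMap F k).injective
    rw [map_natCast, h, map_zero]
  obtain ⟨ψ, hψ⟩ := exists_prim (K := K) hKk
  have hspan := span_ext ρ k (Cfsg.Agent.H464.Sl2.span_eq_top ρ habs)
  have hne := ext_ne_one ρ k hρ
  have hfin := finrank_eq (ext ρ k) hψ hKk
  rcases dim_cases (ext ρ k) hψ hKk hspan hne with ⟨h1, -⟩ | ⟨h1, h2⟩
  · rw [Module.finrank_fin_fun, Finset.sum_congr rfl fun b hb => h1 b (Finset.ne_of_mem_erase hb), Finset.sum_const,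
      Finset.card_erase_of_mem (Finset.mem_univ _), Finset.card_univ, smul_eq_mul, mul_one] at hfin
    have h0 : finrank k (LinearMap.range (E (ext ρ k) ψ 0)) = 2 := by omega
    apply (algebraMap F k).injective
    rw [← trace_ext, trace_u (ext ρ k) hψ hKk, map_one, ← Finset.add_sum_erase _ _ (Finset.mem_univ (0 : K)), h0,
      zero_mul, AddChar.map_zero_eq_one, one_mul]
    have h3 : ∑ b ∈ Finset.univ.erase (0 : K), ψ (b * x) * ((finrank k (LinearMap.range (E (ext ρ k) ψ b)) : ℕ) : k) =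
        ∑ b ∈ Finset.univ.erase (0 : K), ψ (b * x) := by
      refine Finset.sum_congr rfl fun b hb => ?_
      rw [h1 b (Finset.ne_of_mem_erase hb), Nat.cast_one, mul_one]
    have h4 : ∑ b : K, ψ (b * x) = 0 := by
      rw [AddChar.sum_mulShift x hψ, if_neg hx, Nat.cast_zero]
    rw [← Finset.add_sum_erase _ _ (Finset.mem_univ (0 : K)), zero_mul, AddChar.map_zero_eq_one] at h4
    rw [h3, Nat.cast_ofNat]
    linear_combination h4
  · rw [Module.finrank_fin_fun] at h2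
    omega

/-- the structure of the core -/
structure A5Data {F : Type u} [Field F] (ρ : Matrix.SpecialLinearGroup (Fin 2) (ZMod 5) →* GL (Fin 3 ⊕ Fin 3) F) : Prop where
  inj : Function.Injective ρ
  neg : ρ (-1) = -1
  tru : ∀ x : ZMod 5, x ≠ 0 → tr (ρ (u x)) = 1
  irr : ActsAbsolutelyIrreducibly (matrixSet ρ.range)

variable {F : Type u} [Field F] [Fintype F] {H P : Subgroup (GL (Fin 3 ⊕ Fin 3) F)}

theorem center_sl {g : Matrix.SpecialLinearGroup (Fin 2) (ZMod 5)} (h : g ∈ Subgroup.center (Matrix.SpecialLinearGroup (Fin 2) (ZMod 5))) :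
    g = 1 ∨ g = -1 := by
  rw [Subgroup.mem_center_iff] at h
  have h1 := h (u 1)
  have h2 := h (w 1)
  have e1 := congrArg mt h1
  have e2 := congrArg mt h2
  rw [mt_mul, mt_mul] at e1 e2
  have hd : mt g 0 0 * mt g 1 1 - mt g 0 1 * mt g 1 0 = 1 := by
    have := g.2
    rwa [Matrix.det_fin_two] at this
  have hu : mt (u (1 : ZMod 5)) = !![1, 1; 0, 1] := rfl
  have hw : mt (w (1 : (ZMod 5)ˣ)) = !![0, -1; 1, 0] := by
    change !![0, -(((1 : (ZMod 5)ˣ)⁻¹ : (ZMod 5)ˣ) : ZMod 5); ((1 : (ZMod 5)ˣ) : ZMod 5), 0] = _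
    simp
  rw [hu] at e1
  rw [hw] at e2
  have a1 := congrFun (congrFun e1 0) 0
  have a2 := congrFun (congrFun e1 0) 1
  have b1 := congrFun (congrFun e2 0) 0
  simp [Matrix.mul_apply, Fin.sum_univ_two] at a1 a2 b1
  have h10 : mt g 1 0 = 0 := a1
  have h01 : mt g 0 1 = 0 := by
    have h : mt g 0 1 = -mt g 1 0 := b1.symm
    rw [h, h10, neg_zero]
  have h11 : mt g 1 1 = mt g 0 0 := by
    have := a2
    rw [h01] at this
    simpa using this
  rw [h10, h01, h11, mul_zero, sub_zero] at hd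
  rcases mul_self_eq_one_iff.1 hd with h | h
  · left
    apply mt_inj
    rw [mt_one, Matrix.eta_fin_two (mt g), h10, h01, h11, h]
    decide
  · right
    apply mt_inj
    rw [mt_neg, mt_one, Matrix.eta_fin_two (mt g), h10, h01, h11, h]
    decide

theorem a5_data (S : Hyp 3 H P) (hneg : (-1 : GL (Fin 3 ⊕ Fin 3) F) ∈ P) (h2 : (2 : F) ≠ 0) (h5 : (5 : F) ≠ 0)
    (e : Soc P ≃* Matrix.ProjectiveSpecialLinearGroup (Fin 2) (ZMod 5)) :
    ∃ ρ : Matrix.SpecialLinearGroup (Fin 2) (ZMod 5) →* GL (Fin 3 ⊕ Fin 3) F, ρ.range = P ∧ A5Data ρ := by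
  have hc : Fintype.card (ZMod 5) = 5 := ZMod.card 5
  obtain ⟨ρ, hρ, he⟩ := l2_rep S.toCore (K := ZMod 5) (by rw [hc]) (by rw [hc]; norm_num) e
  have hneq : (-1 : GL (Fin 3 ⊕ Fin 3) F) ≠ 1 := by
    intro h
    have h1 := congrArg (fun g : GL (Fin 3 ⊕ Fin 3) F => (g : Matrix (Fin 3 ⊕ Fin 3) (Fin 3 ⊕ Fin 3) F) (Sum.inl 0) (Sum.inl 0)) h
    simp at h1
    apply h2
    linear_combination -h1
  have hker : ∀ g, ρ g ∈ scalars (Fin 3 ⊕ Fin 3) F → g = 1 ∨ g = -1 := by
    intro g hg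
    have hgP : ρ g ∈ P := hρ ▸ ⟨g, rfl⟩
    have h1 := he g hgP
    have h3 : toSoc P ⟨ρ g, hgP⟩ = 1 := by
      rw [← MonoidHom.mem_ker, ker_toSoc, Subgroup.mem_subgroupOf]
      exact hg
    rw [h3, map_one] at h1
    exact center_sl ((QuotientGroup.eq_one_iff g).1 h1.symm)
  have hn : ρ (-1) = -1 := by
    rw [← hρ] at hneg
    obtain ⟨g, hg⟩ := hneg
    rcases hker g (by
      rw [hg, mem_scalars_iff]
      exact ⟨-1, by simp⟩) with h | h
    · rw [h, map_one] at hg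
      exact absurd hg.symm hneq
    · rw [← h, hg]
  refine ⟨ρ, hρ, ?_, hn, ?_, ?_⟩
  · rw [injective_iff_map_eq_one]
    intro g hg
    rcases hker g (by rw [hg]; exact one_mem _) with h | h
    · exact h
    · rw [h, hn] at hg
      exact absurd hg hneq
  · intro x hx
    let re := reGL (F := F) (Fintype.equivFin (Fin 3 ⊕ Fin 3))
    have h1 : re.toMonoidHom.comp ρ ≠ 1 := by
      intro h
      have h4 : re (ρ (-1)) = 1 := DFunLike.congr_fun h (-1)
      rw [hn] at h4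
      exact hneq (re.injective (h4.trans (map_one re).symm))
    have h3 : ActsAbsolutelyIrreducibly (matrixSet (re.toMonoidHom.comp ρ).range) := by
      rw [MonoidHom.range_comp, hρ]
      exact absIrr_reGL _ S.core.absIrred
    have h4 := trace_u_succ (K := ZMod 5) (by rw [hc]; norm_num) (F := F) (by rw [hc]; exact_mod_cast h5)
      (re.toMonoidHom.comp ρ) h1 h3 (by rw [hc]; simp) hx
    rw [← h4]
    exact (trace_reGL (Fintype.equivFin (Fin 3 ⊕ Fin 3)) (ρ (u x))).symm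
  · rw [hρ]; exact S.core.absIrred

/-! ### the sum -/

theorem u_pow_five (x : ZMod 5) : u x ^ 5 = 1 := by
  have h : ∀ n : ℕ, u x ^ n = u (n • x) := by
    intro n
    induction n with
    | zero => rw [pow_zero, zero_smul, u_zero]
    | succ n ih => rw [pow_succ, ih, ← u_add, succ_nsmul]
  rw [h, ← u_zero (K := ZMod 5)]
  congr 1
  clear h
  revert x
  decide

theorem t_pm {ε : (ZMod 5)ˣ} (h : ε ^ 2 = 1) : t ε = 1 ∨ t ε = -1 := by
  have h1 : (ε : ZMod 5) * ε = 1 := by rw [← sq, ← Units.val_pow_eq_pow_val, h, Units.val_one]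
  rcases mul_self_eq_one_iff.1 h1 with h | h
  · left
    have : ε = 1 := Units.ext h
    rw [this, t_one]
  · right
    apply mt_inj
    have h3 : ((ε⁻¹ : (ZMod 5)ˣ) : ZMod 5) = -1 := by
      have : ε⁻¹ = ε := by
        rw [inv_eq_iff_mul_eq_one, ← sq]
        exact Units.ext (by rw [Units.val_pow_eq_pow_val, sq, h1, Units.val_one])
      rw [this, h]
    change !![(ε : ZMod 5), 0; 0, ((ε⁻¹ : (ZMod 5)ˣ) : ZMod 5)] = _
    rw [h, h3, mt_neg, mt_one]
    decide

/-- the elements of `SL₂(5)` -/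
theorem cases5 (g : Matrix.SpecialLinearGroup (Fin 2) (ZMod 5)) :
    (g = 1 ∨ g = -1) ∨ (∃ h x, x ≠ 0 ∧ g = h * u x * h⁻¹) ∨ (∃ h x, x ≠ 0 ∧ g = -(h * u x * h⁻¹)) ∨
      ((t2 g ≠ 2 ∧ t2 g ≠ 3) ∧ (g ^ 2 = -1 ∨ g ^ 3 = 1 ∨ g ^ 3 = -1)) := by
  by_cases hpm : g = 1 ∨ g = -1
  · exact Or.inl hpm
  right
  by_cases ht : (g.1 0 0 + g.1 1 1) ^ 2 - 4 = 0
  · obtain ⟨h, ε, y, hε, rfl⟩ := exists_conj_unip g ht
    have hy : y ≠ 0 := by
      rintro rfl
      apply hpm
      rw [u_zero, mul_one]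
      rcases t_pm hε with h1 | h1
      · left; rw [h1]; simp
      · right; rw [h1]; simp
    rcases t_pm hε with h1 | h1
    · left
      exact ⟨h, y, hy, by rw [h1, one_mul]⟩
    · right; left
      exact ⟨h, y, hy, by rw [h1]; simp⟩
  · right; right
    have key : ∀ s : ZMod 5, s ^ 2 - 4 ≠ 0 → (s ≠ 2 ∧ s ≠ 3) ∧ (s = 0 ∨ s = -1 ∨ s = 1) := by decide
    obtain ⟨h1, h2⟩ := key (t2 g) ht
    refine ⟨h1, ?_⟩
    rcases h2 with h2 | h2 | h2
    · left
      apply mt_inj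
      rw [mt_two, h2, zero_smul, zero_sub, mt_neg, mt_one]
    · right; left
      apply mt_inj
      rw [mt_three, h2, mt_one]
      norm_num
    · right; right
      apply mt_inj
      rw [mt_three, h2, mt_neg, mt_one]
      norm_num

theorem t2_conj {R : Type*} [CommRing R] (h g : Matrix.SpecialLinearGroup (Fin 2) R) : t2 (h * g * h⁻¹) = t2 g := by
  have e : ∀ g : Matrix.SpecialLinearGroup (Fin 2) R, t2 g = (mt g).trace := fun g => by
    rw [Matrix.trace_fin_two]; rfl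
  rw [e, e, mt_mul, mt_mul, Matrix.trace_mul_comm, ← Matrix.mul_assoc, ← mt_mul, inv_mul_cancel, mt_one, Matrix.one_mul]

theorem t2_u (x : ZMod 5) : t2 (u x) = 2 := by
  change (1 : ZMod 5) + 1 = 2
  decide

variable {ρ : Matrix.SpecialLinearGroup (Fin 2) (ZMod 5) →* GL (Fin 3 ⊕ Fin 3) F}

theorem tr_neg (g : GL (Fin 3 ⊕ Fin 3) F) : tr (-g) = -tr g := by
  unfold tr
  rw [Units.val_neg, Matrix.trace_neg]

theorem A5Data.map_neg (D : A5Data ρ) (g : Matrix.SpecialLinearGroup (Fin 2) (ZMod 5)) : ρ (-g) = -ρ g := by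
  have : -g = -1 * g := by simp
  rw [this, map_mul, D.neg, neg_one_mul]

theorem conj_u_ne (h : Matrix.SpecialLinearGroup (Fin 2) (ZMod 5)) {x : ZMod 5} (hx : x ≠ 0) :
    h * u x * h⁻¹ ≠ 1 ∧ h * u x * h⁻¹ ≠ -1 := by
  have h5 : (h * u x * h⁻¹) ^ 5 = 1 := by
    rw [conj_pow, u_pow_five, mul_one, mul_inv_cancel]
  constructor
  · intro h0
    have h1 : u x = 1 := by
      have : h⁻¹ * (h * u x * h⁻¹) * h = h⁻¹ * 1 * h := by rw [h0]
      simpa [mul_assoc] using this
    apply hx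
    have h2 := congrFun (congrFun (congrArg mt h1) 0) 1
    simpa [mt] using h2
  · intro h0
    rw [h0] at h5
    apply neg_one_ne
    have e : (-1 : Matrix.SpecialLinearGroup (Fin 2) (ZMod 5)) ^ 5 = -1 := by
      rw [Odd.neg_one_pow (by decide)]
    rw [← e, h5]

theorem sum_product (D : A5Data ρ) (h2 : (2 : F) ≠ 0)
    {κ : Matrix.SpecialLinearGroup (Fin 2) (ZMod 5) →* Matrix.SpecialLinearGroup (Fin 2) F}
    (hκ : Function.Injective κ) :
    ∑ g : Matrix.SpecialLinearGroup (Fin 2) (ZMod 5), sg (t2 (κ g⁻¹)) * tr (ρ g) = 120 := by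
  have hone : tr (1 : GL (Fin 3 ⊕ Fin 3) F) = 6 := by
    unfold tr
    rw [Units.val_one, Matrix.trace_one]
    simp
  have hκ1 : ∀ g, κ g = 1 → g = 1 := fun g hg => hκ (hg.trans (map_one κ).symm)
  have hκ2 : ∀ g, κ g = -1 → g = -1 := fun g hg => hκ (hg.trans (kappa_neg_one h2 hκ).symm)
  have hiv : ∀ g, t2 (κ g⁻¹) = t2 (κ g) := by
    intro g
    rw [map_inv]
    unfold t2
    have h1 : mt (κ g)⁻¹ 0 0 = mt (κ g) 1 1 := by
      change ((κ g)⁻¹).1 0 0 = _
      rw [Matrix.SpecialLinearGroup.coe_inv, Matrix.adjugate_fin_two]; rfl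
    have h2 : mt (κ g)⁻¹ 1 1 = mt (κ g) 0 0 := by
      change ((κ g)⁻¹).1 1 1 = _
      rw [Matrix.SpecialLinearGroup.coe_inv, Matrix.adjugate_fin_two]; rfl
    rw [h1, h2, add_comm]
  have huκ : ∀ h x, x ≠ 0 → sg (t2 (κ (h * u x * h⁻¹))) = 1 := by
    intro h x hx
    obtain ⟨hne1, hne2⟩ := conj_u_ne h hx
    have h5 : (h * u x * h⁻¹) ^ 5 = 1 := by
      rw [conj_pow, u_pow_five, mul_one, mul_inv_cancel]
    refine sg_five ?_ (fun h1 => hne1 (hκ1 _ h1)) (fun h1 => hne2 (hκ2 _ h1))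
    rw [← map_pow, h5, map_one]
  have key : ∀ g, sg (t2 (κ g⁻¹)) * tr (ρ g) = ((cf (ent g) : ℤ) : F) := by
    intro g
    rw [hiv]
    have ht2 : (ent g).1 + (ent g).2.2.2 = t2 g := rfl
    rcases cases5 g with (rfl | rfl) | ⟨h, x, hx, rfl⟩ | ⟨h, x, hx, rfl⟩ | ⟨⟨h1, h1'⟩, h3⟩
    · rw [map_one, map_one, t2_one, hone]
      have : cf (ent 1) = 36 := by decide
      rw [this]
      unfold sg
      norm_num
    · rw [kappa_neg_one h2 hκ, D.neg, t2_neg, t2_one, tr_neg, hone, sg_neg]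
      have : cf (ent (-1)) = 36 := by decide
      rw [this]
      unfold sg
      norm_num
    · rw [huκ h x hx, map_mul, map_mul, map_inv, tr_conj, D.tru x hx]
      have hnp : ¬ (ent (h * u x * h⁻¹) = (1, 0, 0, 1) ∨ ent (h * u x * h⁻¹) = (4, 0, 0, 4)) := by
        rw [← mem_pm]
        rintro (h0 | h0)
        · exact (conj_u_ne h hx).1 h0
        · exact (conj_u_ne h hx).2 h0
      unfold cf
      rw [if_neg hnp, ht2, t2_conj, t2_u]
      simp
    · rw [kappa_neg h2 hκ, t2_neg, sg_neg, huκ h x hx, D.map_neg, tr_neg, map_mul, map_mul, map_inv, tr_conj, D.tru x hx]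
      have hnp : ¬ (ent (-(h * u x * h⁻¹)) = (1, 0, 0, 1) ∨ ent (-(h * u x * h⁻¹)) = (4, 0, 0, 4)) := by
        rw [← mem_pm]
        rintro (h0 | h0)
        · exact (conj_u_ne h hx).2 (by rw [← h0, neg_neg])
        · exact (conj_u_ne h hx).1 (neg_injective h0)
      unfold cf
      rw [if_neg hnp, ht2, t2_neg, t2_conj, t2_u]
      rw [if_pos (Or.inr (by decide))]
      simp
    · have hne1 : g ≠ 1 := by
        rintro rfl
        exact h1 t2_one
      have hne2 : g ≠ -1 := by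
        rintro rfl
        apply h1'
        rw [t2_neg, t2_one]
        decide
      have hk1 : κ g ≠ 1 := fun h => hne1 (hκ1 _ h)
      have hk2 : κ g ≠ -1 := fun h => hne2 (hκ2 _ h)
      have hs : sg (t2 (κ g)) = 0 := by
        rcases h3 with h3 | h3 | h3
        · exact sg_two (by rw [← map_pow, h3, kappa_neg_one h2 hκ]) hk1 hk2
        · exact sg_three (by rw [← map_pow, h3, map_one]) hk1 hk2
        · have h4 : sg (t2 (κ (-g))) = 0 := by
            rw [kappa_neg h2 hκ]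
            refine sg_three ?_ (fun h => hk2 (by rw [← h, neg_neg])) (fun h => hk1 (neg_injective h))
            rw [← kappa_neg h2 hκ, ← map_pow, Odd.neg_pow (by decide), h3, neg_neg, map_one]
          rw [kappa_neg h2 hκ, t2_neg, sg_neg] at h4
          exact neg_eq_zero.1 h4
      have hnp : ¬ (ent g = (1, 0, 0, 1) ∨ ent g = (4, 0, 0, 4)) := by
        rw [← mem_pm]
        rintro (h0 | h0)
        · exact hne1 h0
        · exact hne2 h0
      unfold cf
      rw [hs, zero_mul, if_neg hnp, ht2, if_neg (by rintro (h | h) <;> contradiction)]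
      simp
  rw [Finset.sum_congr rfl fun g _ => key g, ← Int.cast_sum, sum_cf]
  norm_num

end Cfsg.Agent.H914.S6
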