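import Cfsg.Agent.H914.SixA5

/-!
# `SL₂(5)` in `Sp₆(F)` (helper914): `H = P` if `2` is no square
-/

set_option autoImplicit false
set_option linter.unusedSectionVars false
set_option maxHeartbeats 400000

namespace Cfsg.Agent.H914.S6

open Cfsg Cfsg.Geo Matrix Cfsg.Agent.H915.LD Cfsg.Agent.H464.Sl2 Module

universe u v

local instance fact5' : Fact (Nat.Prime 5) := ⟨Nat.prime_five⟩

variable {F : Type u} [Field F] [Fintype F] {H P : Subgroup (GL (Fin 3 ⊕ Fin 3) F)}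
  {ρ : Matrix.SpecialLinearGroup (Fin 2) (ZMod 5) →* GL (Fin 3 ⊕ Fin 3) F}

/-! ### generation -/

theorem u_eq_pow (n : ℕ) : u (n : ZMod 5) = u 1 ^ n := by
  induction n with
  | zero => rw [Nat.cast_zero, u_zero, pow_zero]
  | succ n ih => rw [Nat.cast_succ, u_add, ih, pow_succ]

theorem w_eq {K : Type*} [Field K] (c : Kˣ) :
    w c = u (-((c⁻¹ : Kˣ) : K)) * (w 1 * u (-(c : K)) * w (-1)) * u (-((c⁻¹ : Kˣ) : K)) := by
  apply Subtype.ext
  ext i j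
  fin_cases i <;> fin_cases j <;> simp

theorem gen_top {C : Subgroup (Matrix.SpecialLinearGroup (Fin 2) (ZMod 5))} (hu : u 1 ∈ C) (hw : w 1 ∈ C) : C = ⊤ := by
  have hu' : ∀ x : ZMod 5, u x ∈ C := by
    intro x
    have : u x = u 1 ^ x.val := by rw [← u_eq_pow, ZMod.natCast_zmod_val]
    rw [this]
    exact C.pow_mem hu _
  have hwm : w (-1 : (ZMod 5)ˣ) = (w 1)⁻¹ := by
    rw [eq_inv_iff_mul_eq_one, w_mul_w]
    have : (-(1 / (-1 : (ZMod 5)ˣ)) : (ZMod 5)ˣ) = 1 := by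
      rw [one_div, inv_neg, inv_one, neg_neg]
    rw [this, t_one]
  have hw' : ∀ c : (ZMod 5)ˣ, w c ∈ C := by
    intro c
    rw [w_eq c, hwm]
    exact C.mul_mem (C.mul_mem (hu' _) (C.mul_mem (C.mul_mem hw (hu' _)) (C.inv_mem hw))) (hu' _)
  rw [eq_top_iff]
  intro g _
  rcases bruhat g with ⟨x, a, rfl⟩ | ⟨x, c, y, rfl⟩
  · refine C.mul_mem (hu' _) ?_
    have : t a = (w 1)⁻¹ * w a := by rw [eq_inv_mul_iff_mul_eq, w_one_mul_t]
    rw [this]
    exact C.mul_mem (C.inv_mem hw) (hw' _)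
  · exact C.mul_mem (C.mul_mem (hu' _) (hw' _)) (hu' _)

/-- elements behaving like `w 1` -/
theorem w_like {g : Matrix.SpecialLinearGroup (Fin 2) (ZMod 5)} (h1 : g ^ 2 = -1) (h2 : (u 1 * g) ^ 3 = -1) :
    ∃ a : ZMod 5, g = u a * w 1 * u (-a) := by
  have hM0 : mt g ≠ 0 := by
    intro h
    have hd : (mt g).det = 1 := g.2
    rw [h, Matrix.det_fin_two] at hd
    simp at hd
  have ht : t2 g = 0 := by
    have h := mt_two g
    rw [h1, mt_neg, mt_one, eq_sub_iff_add_eq, neg_add_cancel] at h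
    rcases smul_eq_zero.1 h.symm with h | h
    · exact h
    · exact absurd h hM0
  have hug1 : u 1 * g ≠ 1 := by
    intro h
    rw [h, one_pow] at h2
    exact neg_one_ne h2.symm
  have htu : t2 (u 1 * g) = t2 g + mt g 1 0 := by
    unfold t2
    have hu : mt (u (1 : ZMod 5)) = !![1, 1; 0, 1] := rfl
    rw [mt_mul, hu, Matrix.mul_apply, Matrix.mul_apply, Fin.sum_univ_two, Fin.sum_univ_two]
    simp
    ring
  have hug2 : u 1 * g ≠ -1 := by
    intro h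
    have h3 : g = -(u (-1)) := by
      have h4 : u (-1 : ZMod 5) * u 1 = 1 := by rw [← u_add, neg_add_cancel, u_zero]
      calc g = u (-1) * (u 1 * g) := by rw [← mul_assoc, h4, one_mul]
        _ = _ := by rw [h]; simp
    rw [h3, t2_neg, t2_u] at ht
    revert ht
    decide
  have h3 := mt_three (u 1 * g)
  rw [h2, mt_neg, mt_one] at h3
  obtain ⟨-, e2⟩ := lin_rel (g := u 1 * g) (α := t2 (u 1 * g) ^ 2 - 1) (β := t2 (u 1 * g) - 1) (by
    rw [eq_sub_iff_add_eq] at h3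
    rw [← h3, sub_smul, one_smul]
    abel) hug1 hug2
  rw [htu, ht, zero_add, sub_eq_zero] at e2
  have hd : mt g 0 0 * mt g 1 1 - mt g 0 1 * mt g 1 0 = 1 := by
    have := g.2
    rwa [Matrix.det_fin_two] at this
  have h11 : mt g 1 1 = -mt g 0 0 := by
    have : mt g 0 0 + mt g 1 1 = 0 := ht
    linear_combination this
  have h01 : mt g 0 1 = -(mt g 0 0 * mt g 0 0) - 1 := by
    rw [e2, h11] at hd
    linear_combination -hd
  refine ⟨mt g 0 0, mt_inj ?_⟩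
  have hu : ∀ x : ZMod 5, mt (u x) = !![1, x; 0, 1] := fun _ => rfl
  have hw : mt (w (1 : (ZMod 5)ˣ)) = !![0, -1; 1, 0] := by
    change !![0, -(((1 : (ZMod 5)ˣ)⁻¹ : (ZMod 5)ˣ) : ZMod 5); ((1 : (ZMod 5)ˣ) : ZMod 5), 0] = _
    simp
  rw [mt_mul, mt_mul, hu, hu, hw, Matrix.eta_fin_two (mt g), e2, h11, h01]
  simp only [Matrix.of_apply, Matrix.cons_val', Matrix.cons_val_zero]
  ext i j
  fin_cases i <;> fin_cases j <;> simp [Matrix.mul_apply, Fin.sum_univ_two] <;> ring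

/-! ### the action of `H` -/

/-- an element of `H` centralising `ρ(u 1)` -/
theorem centralizer_u (S : Hyp 3 H P) (hρ : ρ.range = P) (D : A5Data ρ) {h : GL (Fin 3 ⊕ Fin 3) F} (hh : h ∈ H)
    (hu : h * ρ (u 1) * h⁻¹ = ρ (u 1)) : ∃ a : ZMod 5, h = ρ (u a) ∨ h = -ρ (u a) := by
  have hP : ∀ g, ρ g ∈ P := fun g => hρ ▸ ⟨g, rfl⟩
  have hw : h * ρ (w 1) * h⁻¹ ∈ P := S.core.normal h hh _ (hP _)
  rw [← hρ] at hw
  obtain ⟨g, hg⟩ := hw
  have hw2 : (w (1 : (ZMod 5)ˣ)) ^ 2 = -1 := by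
    rw [pow_two, w_mul_w]
    apply mt_inj
    change !![((-(1 / 1) : (ZMod 5)ˣ) : ZMod 5), 0; 0, (((-(1 / 1) : (ZMod 5)ˣ)⁻¹ : (ZMod 5)ˣ) : ZMod 5)] = _
    rw [mt_neg, mt_one]
    simp
    decide
  have hw3 : (u 1 * w (1 : (ZMod 5)ˣ)) ^ 3 = -1 := by
    have ht : t2 (u 1 * w (1 : (ZMod 5)ˣ)) = 1 := by
      unfold t2
      have hu : mt (u (1 : ZMod 5)) = !![1, 1; 0, 1] := rfl
      have hw : mt (w (1 : (ZMod 5)ˣ)) = !![0, -1; 1, 0] := by
        change !![0, -(((1 : (ZMod 5)ˣ)⁻¹ : (ZMod 5)ˣ) : ZMod 5); ((1 : (ZMod 5)ˣ) : ZMod 5), 0] = _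
        simp
      rw [mt_mul, hu, hw]
      simp
    apply mt_inj
    rw [mt_three, ht, mt_neg, mt_one]
    simp
  have hg2 : g ^ 2 = -1 := by
    apply D.inj
    rw [map_pow, hg, conj_pow, ← map_pow, hw2, D.neg]
    simp
  have hg3 : (u 1 * g) ^ 3 = -1 := by
    apply D.inj
    rw [map_pow, map_mul, hg, D.neg]
    conv_lhs => rw [← hu]
    have : h * ρ (u 1) * h⁻¹ * (h * ρ (w 1) * h⁻¹) = h * ρ (u 1 * w 1) * h⁻¹ := by
      rw [map_mul]; group
    rw [this, conj_pow, ← map_pow, hw3, D.neg]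
    simp
  obtain ⟨a, rfl⟩ := w_like hg2 hg3
  refine ⟨a, ?_⟩
  have hy : ρ (u a) ∈ P := hP _
  refine S.inner hh hy ?_
  -- the centraliser
  let k := (ρ (u a))⁻¹ * h
  have hinv : (u a)⁻¹ = u (-a) := by
    rw [inv_eq_iff_mul_eq_one, ← u_add, add_neg_cancel, u_zero]
  have hcom : ∀ x : ZMod 5, u x * u a = u a * u x := fun x => by rw [← u_add, ← u_add, add_comm]
  let C : Subgroup (Matrix.SpecialLinearGroup (Fin 2) (ZMod 5)) :=
    (MulAut.conj k).toMonoidHom.comp ρ |>.eqLocus ρ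
  have hCu : u 1 ∈ C := by
    change k * ρ (u 1) * k⁻¹ = ρ (u 1)
    have e1 : k * ρ (u 1) * k⁻¹ = (ρ (u a))⁻¹ * (h * ρ (u 1) * h⁻¹) * ρ (u a) := by
      simp only [k]; group
    have e2 : (u a)⁻¹ * u 1 * u a = u 1 := by
      rw [_root_.mul_assoc, hcom, ← _root_.mul_assoc, inv_mul_cancel, _root_.one_mul]
    rw [e1, hu, ← map_inv, ← map_mul, ← map_mul, e2]
  have hCw : w 1 ∈ C := by
    change k * ρ (w 1) * k⁻¹ = ρ (w 1)
    have e1 : k * ρ (w 1) * k⁻¹ = (ρ (u a))⁻¹ * (h * ρ (w 1) * h⁻¹) * ρ (u a) := by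
      simp only [k]; group
    have h1 : u (-a) * u a = 1 := by rw [← u_add, neg_add_cancel, u_zero]
    have e2 : (u a)⁻¹ * (u a * w 1 * u (-a)) * u a = w 1 := by
      rw [hinv, _root_.mul_assoc, _root_.mul_assoc (u a * w 1), h1, _root_.mul_one, ← _root_.mul_assoc, h1,
        _root_.one_mul]
    rw [e1, ← hg, ← map_inv, ← map_mul, ← map_mul, e2]
  have hC := gen_top hCu hCw
  intro x hx
  rw [← hρ] at hx
  obtain ⟨z, rfl⟩ := hx
  have hz : z ∈ C := by rw [hC]; trivial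
  have hz' : k * ρ z * k⁻¹ = ρ z := hz
  change k * ρ z * k⁻¹ * (ρ z)⁻¹ ∈ _
  rw [hz', mul_inv_cancel]
  exact one_mem _

end Cfsg.Agent.H914.S6
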