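import Cfsg.Agent.H914.SixA5b

/-!
# `SL₂(5)` in `Sp₆(F)` (helper914): `H = P` if `2` is no square
-/

set_option autoImplicit false
set_option linter.unusedSectionVars false
set_option maxHeartbeats 400000

namespace Cfsg.Agent.H914.S6

open Cfsg Cfsg.Geo Matrix Cfsg.Agent.H915.LD Module
open Cfsg.Agent.H464.Sl2 (u w t u_add u_zero)

universe u' v

local instance fact5'' : Fact (Nat.Prime 5) := ⟨Nat.prime_five⟩

variable {F : Type u'} [Field F] [Fintype F] {H P : Subgroup (GL (Fin 3 ⊕ Fin 3) F)}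
  {ρ : Matrix.SpecialLinearGroup (Fin 2) (ZMod 5) →* GL (Fin 3 ⊕ Fin 3) F}

/-! ### the projection on the fixed space of `u` -/

/-- the projection -/
noncomputable def pr5 (ρ : Matrix.SpecialLinearGroup (Fin 2) (ZMod 5) →* GL (Fin 3 ⊕ Fin 3) F) :
    Matrix (Fin 3 ⊕ Fin 3) (Fin 3 ⊕ Fin 3) F :=
  (5 : F)⁻¹ • ∑ x : ZMod 5, (ρ (u x) : Matrix (Fin 3 ⊕ Fin 3) (Fin 3 ⊕ Fin 3) F)

theorem u_mul_pr (y : ZMod 5) : (ρ (u y) : Matrix (Fin 3 ⊕ Fin 3) (Fin 3 ⊕ Fin 3) F) * pr5 ρ = pr5 ρ := by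
  unfold pr5
  rw [Matrix.mul_smul, Finset.mul_sum]
  congr 1
  refine Fintype.sum_equiv (Equiv.addLeft y) _ _ fun x => ?_
  rw [← Units.val_mul, ← map_mul, ← u_add]
  rfl

theorem pr_mul_pr (h5 : (5 : F) ≠ 0) : pr5 ρ * pr5 ρ = pr5 ρ := by
  conv_lhs => enter [1]; unfold pr5
  rw [Matrix.smul_mul, Finset.sum_mul, Finset.sum_congr rfl fun x _ => u_mul_pr x, Finset.sum_const, Finset.card_univ,
    ZMod.card, ← Nat.cast_smul_eq_nsmul F, smul_smul]
  rw [Nat.cast_ofNat, inv_mul_cancel₀ h5, one_smul]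

theorem trace_pr (D : A5Data ρ) (h5 : (5 : F) ≠ 0) : (pr5 ρ).trace = 2 := by
  have h1 : ∀ x ∈ Finset.univ.erase (0 : ZMod 5), (ρ (u x) : Matrix (Fin 3 ⊕ Fin 3) (Fin 3 ⊕ Fin 3) F).trace = 1 :=
    fun x hx => D.tru x (Finset.ne_of_mem_erase hx)
  unfold pr5
  rw [Matrix.trace_smul, Matrix.trace_sum, ← Finset.add_sum_erase _ _ (Finset.mem_univ (0 : ZMod 5)),
    Finset.sum_congr rfl h1, Finset.sum_const,
    Finset.card_erase_of_mem (Finset.mem_univ _), Finset.card_univ, ZMod.card, u_zero, map_one, Units.val_one,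
    Matrix.trace_one]
  simp
  field_simp
  norm_num

theorem finrank_pr (D : A5Data ρ) (h5 : (5 : F) ≠ 0) (hbig : ∀ k : ℕ, k ≤ 6 → (k : F) = 2 → k = 2) :
    finrank F (LinearMap.range (Matrix.toLin' (pr5 ρ))) = 2 := by
  apply hbig
  · refine (Submodule.finrank_le _).trans ?_
    rw [Module.finrank_fintype_fun_eq_card]
    simp
  · have h : LinearMap.IsProj (LinearMap.range (Matrix.toLin' (pr5 ρ))) (Matrix.toLin' (pr5 ρ)) := by
      refine ⟨fun x => LinearMap.mem_range_self _ _, ?_⟩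
      rintro _ ⟨x, rfl⟩
      rw [← LinearMap.comp_apply, ← Matrix.toLin'_mul, pr_mul_pr h5]
    rw [← h.trace, Matrix.trace_toLin'_eq, trace_pr D h5]

/-- the form -/
local notation "B" => sympForm 3 F

theorem form_gl {g : GL (Fin 3 ⊕ Fin 3) F} (hg : g ∈ spGL 3 F) (v w : Fin 3 ⊕ Fin 3 → F) :
    B ((g : Matrix (Fin 3 ⊕ Fin 3) (Fin 3 ⊕ Fin 3) F) *ᵥ v) w =
      B v (((g⁻¹ : GL (Fin 3 ⊕ Fin 3) F) : Matrix (Fin 3 ⊕ Fin 3) (Fin 3 ⊕ Fin 3) F) *ᵥ w) := by
  have h := H931.mem_spGL_iff.1 hg v (((g⁻¹ : GL (Fin 3 ⊕ Fin 3) F) : Matrix (Fin 3 ⊕ Fin 3) (Fin 3 ⊕ Fin 3) F) *ᵥ w)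
  rw [← h, Matrix.mulVec_mulVec, ← Units.val_mul, mul_inv_cancel, Units.val_one, Matrix.one_mulVec]

theorem form_pr (hS : ρ.range ≤ spGL 3 F) (v w : Fin 3 ⊕ Fin 3 → F) :
    B (pr5 ρ *ᵥ v) w = B v (pr5 ρ *ᵥ w) := by
  have hb := (H924.isSymplecticForm_sympForm (m := 3) (F := F)).bilinear
  have hl : ∀ (c : F) (M : Matrix (Fin 3 ⊕ Fin 3) (Fin 3 ⊕ Fin 3) F), B ((c • M) *ᵥ v) w = c * B (M *ᵥ v) w := by
    intro c M; rw [Matrix.smul_mulVec, hb.smul_left]
  have hr : ∀ (c : F) (M : Matrix (Fin 3 ⊕ Fin 3) (Fin 3 ⊕ Fin 3) F), B v ((c • M) *ᵥ w) = c * B v (M *ᵥ w) := by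
    intro c M; rw [Matrix.smul_mulVec, hb.smul_right]
  have hsl : ∀ (s : Finset (ZMod 5)) (f : ZMod 5 → Matrix (Fin 3 ⊕ Fin 3) (Fin 3 ⊕ Fin 3) F),
      B ((∑ x ∈ s, f x) *ᵥ v) w = ∑ x ∈ s, B (f x *ᵥ v) w := by
    intro s f
    induction s using Finset.induction_on with
    | empty =>
      rw [Finset.sum_empty, Finset.sum_empty, Matrix.zero_mulVec]
      have := hb.smul_left 0 0 w
      rwa [zero_smul, zero_mul] at this
    | insert a s ha ih => rw [Finset.sum_insert ha, Finset.sum_insert ha, Matrix.add_mulVec, hb.add_left, ih]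
  have hsr : ∀ (s : Finset (ZMod 5)) (f : ZMod 5 → Matrix (Fin 3 ⊕ Fin 3) (Fin 3 ⊕ Fin 3) F),
      B v ((∑ x ∈ s, f x) *ᵥ w) = ∑ x ∈ s, B v (f x *ᵥ w) := by
    intro s f
    induction s using Finset.induction_on with
    | empty =>
      rw [Finset.sum_empty, Finset.sum_empty, Matrix.zero_mulVec]
      have := hb.smul_right 0 v 0
      rwa [zero_smul, zero_mul] at this
    | insert a s ha ih => rw [Finset.sum_insert ha, Finset.sum_insert ha, Matrix.add_mulVec, hb.add_right, ih]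
  unfold pr5
  rw [hl, hr, hsl, hsr]
  congr 1
  refine Fintype.sum_equiv (Equiv.neg (ZMod 5)) _ _ fun x => ?_
  rw [form_gl (hS ⟨_, rfl⟩), ← map_inv]
  have : (u x)⁻¹ = u (-x) := by
    rw [inv_eq_iff_mul_eq_one, ← u_add, add_neg_cancel, u_zero]
  rw [this]
  rfl

/-- an isometry `h` with `h⁴ = -1` normalising `⟨ρ(u)⟩`: `2` is a square -/
theorem two_square (hS : ρ.range ≤ spGL 3 F) (D : A5Data ρ) (h2 : (2 : F) ≠ 0) (h5 : (5 : F) ≠ 0)
    (hbig : ∀ k : ℕ, k ≤ 6 → (k : F) = 2 → k = 2) {h : GL (Fin 3 ⊕ Fin 3) F} (hh : h ∈ spGL 3 F)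
    (h4 : h ^ 4 = -1) (hu : h * ρ (u 1) * h⁻¹ = ρ (u 2)) : IsSquare (2 : F) := by
  classical
  have hsf := H924.isSymplecticForm_sympForm (m := 3) (F := F)
  have hb := hsf.bilinear
  -- `h` commutes with the projection
  have hux : ∀ x : ZMod 5, h * ρ (u x) * h⁻¹ = ρ (u (2 * x)) := by
    intro x
    have e1 : u x = u 1 ^ x.val := by rw [← u_eq_pow, ZMod.natCast_zmod_val]
    have e2 : u (2 * x) = u 2 ^ x.val := by
      have : ∀ n : ℕ, u (2 * (n : ZMod 5)) = u 2 ^ n := by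
        intro n
        induction n with
        | zero => rw [Nat.cast_zero, mul_zero, u_zero, pow_zero]
        | succ n ih => rw [Nat.cast_succ, mul_add, mul_one, u_add, ih, pow_succ]
      rw [← this, ZMod.natCast_zmod_val]
    rw [e1, e2, map_pow, map_pow, ← hu, conj_pow]
  let hM : Matrix (Fin 3 ⊕ Fin 3) (Fin 3 ⊕ Fin 3) F := (h : Matrix (Fin 3 ⊕ Fin 3) (Fin 3 ⊕ Fin 3) F)
  let hI : Matrix (Fin 3 ⊕ Fin 3) (Fin 3 ⊕ Fin 3) F := ((h⁻¹ : GL (Fin 3 ⊕ Fin 3) F) : Matrix (Fin 3 ⊕ Fin 3) (Fin 3 ⊕ Fin 3) F)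
  have hcom : hM * pr5 ρ = pr5 ρ * hM := by
    unfold pr5
    rw [Matrix.mul_smul, Matrix.smul_mul, Finset.mul_sum, Finset.sum_mul]
    congr 1
    refine Fintype.sum_equiv (Equiv.mulLeft₀ (2 : ZMod 5) (by decide)) _ _ fun x => ?_
    have := hux x
    rw [mul_inv_eq_iff_eq_mul] at this
    have h3 := congrArg (fun g : GL (Fin 3 ⊕ Fin 3) F => (g : Matrix (Fin 3 ⊕ Fin 3) (Fin 3 ⊕ Fin 3) F)) this
    exact h3
  have hMI : hM * hI = 1 := by
    change (h : Matrix (Fin 3 ⊕ Fin 3) (Fin 3 ⊕ Fin 3) F) * ((h⁻¹ : GL (Fin 3 ⊕ Fin 3) F) : Matrix (Fin 3 ⊕ Fin 3) (Fin 3 ⊕ Fin 3) F) = 1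
    rw [← Units.val_mul, mul_inv_cancel, Units.val_one]
  have hIM : hI * hM = 1 := by
    change ((h⁻¹ : GL (Fin 3 ⊕ Fin 3) F) : Matrix (Fin 3 ⊕ Fin 3) (Fin 3 ⊕ Fin 3) F) * (h : Matrix (Fin 3 ⊕ Fin 3) (Fin 3 ⊕ Fin 3) F) = 1
    rw [← Units.val_mul, inv_mul_cancel, Units.val_one]
  have hcomI : hI * pr5 ρ = pr5 ρ * hI := by
    calc hI * pr5 ρ = hI * (pr5 ρ * (hM * hI)) := by rw [hMI, Matrix.mul_one]
      _ = hI * (pr5 ρ * hM) * hI := by simp only [Matrix.mul_assoc]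
      _ = hI * (hM * pr5 ρ) * hI := by rw [hcom]
      _ = (hI * hM) * pr5 ρ * hI := by simp only [Matrix.mul_assoc]
      _ = _ := by rw [hIM, Matrix.one_mul]
  let A : Matrix (Fin 3 ⊕ Fin 3) (Fin 3 ⊕ Fin 3) F := hM + hI
  have hAcom : A * pr5 ρ = pr5 ρ * A := by
    simp only [A]
    rw [Matrix.add_mul, Matrix.mul_add, hcom, hcomI]
  have hM4 : hM * hM * (hM * hM) = -1 := by
    have e : h ^ 4 = h * h * (h * h) := by
      rw [show (4 : ℕ) = 2 + 2 from rfl, pow_add, pow_two]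
    have e3 := congrArg Units.val (e.symm.trans h4)
    rw [Units.val_neg, Units.val_one, Units.val_mul, Units.val_mul] at e3
    exact e3
  have hAA : A * A = (2 : F) • (1 : Matrix (Fin 3 ⊕ Fin 3) (Fin 3 ⊕ Fin 3) F) := by
    simp only [A]
    rw [Matrix.add_mul, Matrix.mul_add, Matrix.mul_add, hMI, hIM]
    have e1 : hM * hM + hI * hI = 0 := by
      have e2 : hM * hM = -(hI * hI) := by
        calc hM * hM = (hM * hM) * (hM * (hM * hI) * hI) := by rw [hMI, Matrix.mul_one, hMI, Matrix.mul_one]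
          _ = (hM * hM * (hM * hM)) * (hI * hI) := by simp only [Matrix.mul_assoc]
          _ = _ := by rw [hM4, Matrix.neg_mul, Matrix.one_mul]
      rw [e2, neg_add_cancel]
    have e3 : hM * hM + 1 + (1 + hI * hI) = (hM * hM + hI * hI) + (1 + 1) := by abel
    rw [e3, e1, zero_add, two_smul]
  -- self-adjoint
  have hA : ∀ v w, B (A *ᵥ v) w = B v (A *ᵥ w) := by
    intro v w
    simp only [A]
    rw [Matrix.add_mulVec, Matrix.add_mulVec, hb.add_left, hb.add_right]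
    have h3 := form_gl hh v w
    have h4 := form_gl ((spGL 3 F).inv_mem hh) v w
    rw [inv_inv] at h4
    change B (hM *ᵥ v) w = B v (hI *ᵥ w) at h3
    change B (hI *ᵥ v) w = B v (hM *ᵥ w) at h4
    rw [h3, h4, add_comm]
  have hA0 : ∀ v, B (A *ᵥ v) v = 0 := by
    intro v
    have h3 := hA v v
    rw [hsf.skew v] at h3
    have h4 : (2 : F) * B (A *ᵥ v) v = 0 := by linear_combination h3
    exact (mul_eq_zero.1 h4).resolve_left h2
  -- a vector in the range of the projection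
  have hfr := finrank_pr D h5 hbig
  obtain ⟨x, hxW, hx0⟩ : ∃ x ∈ LinearMap.range (Matrix.toLin' (pr5 ρ)), x ≠ 0 := by
    have : LinearMap.range (Matrix.toLin' (pr5 ρ)) ≠ ⊥ := by
      intro h0
      rw [h0, finrank_bot] at hfr
      exact absurd hfr (by norm_num)
    exact (Submodule.ne_bot_iff _).1 this
  have hex : pr5 ρ *ᵥ x = x := by
    obtain ⟨y, rfl⟩ := hxW
    rw [Matrix.toLin'_apply, Matrix.mulVec_mulVec, pr_mul_pr h5]
  have hAx : A *ᵥ x ∈ LinearMap.range (Matrix.toLin' (pr5 ρ)) := by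
    refine ⟨A *ᵥ x, ?_⟩
    rw [Matrix.toLin'_apply, Matrix.mulVec_mulVec, ← hAcom, ← Matrix.mulVec_mulVec, hex]
  by_cases hs : ∃ s : F, A *ᵥ x = s • x
  · obtain ⟨s, hs⟩ := hs
    refine ⟨s, ?_⟩
    have h3 : A *ᵥ (A *ᵥ x) = (2 : F) • x := by
      rw [Matrix.mulVec_mulVec, hAA, Matrix.smul_mulVec, Matrix.one_mulVec]
    rw [hs, Matrix.mulVec_smul, hs, smul_smul] at h3
    obtain ⟨i, hi⟩ := Function.ne_iff.1 hx0
    have h4 := congrFun h3 i
    simp only [Pi.smul_apply, smul_eq_mul] at h4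
    exact (mul_right_cancel₀ hi h4).symm
  · exfalso
    have hli : LinearIndependent F ![x, A *ᵥ x] := by
      rw [LinearIndependent.pair_iff' hx0]
      intro a ha
      exact hs ⟨a, ha.symm⟩
    -- the span is the whole range
    have hspan : Submodule.span F (Set.range ![x, A *ᵥ x]) = LinearMap.range (Matrix.toLin' (pr5 ρ)) := by
      apply Submodule.eq_of_le_of_finrank_eq
      · rw [Submodule.span_le]
        rintro _ ⟨i, rfl⟩
        fin_cases i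
        · exact hxW
        · exact hAx
      · rw [finrank_span_eq_card hli, hfr]
        simp
    have hzero : ∀ y ∈ LinearMap.range (Matrix.toLin' (pr5 ρ)), B y x = 0 := by
      intro y hy
      rw [← hspan] at hy
      induction hy using Submodule.span_induction with
      | mem z hz =>
        obtain ⟨i, rfl⟩ := hz
        fin_cases i
        · exact hsf.alternating x
        · exact hA0 x
      | zero =>
        have := hb.smul_left 0 0 x
        rwa [zero_smul, zero_mul] at this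
      | add a b _ _ ha hb' => rw [hb.add_left, ha, hb', add_zero]
      | smul c a _ ha => rw [hb.smul_left, ha, mul_zero]
    obtain ⟨⟨y, hy⟩, -⟩ := hsf.nondegenerate x hx0
    apply hy
    rw [← hex, ← form_pr hS]
    exact hzero _ ⟨y, Matrix.toLin'_apply _ _⟩

end Cfsg.Agent.H914.S6
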