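import Cfsg.Agent.H914.SixA5c

/-!
# `SL₂(5)` in `Sp₆(F)` (helper914): the exclusion of the non-maximal case

* `a5_false` : `F` of order `p`, `p ≡ ±1 mod 5`, `p ≡ ±3 mod 8`, `-1 ∈ P`, `P / ⟨-1⟩ ≅ A₅`: not maximal
-/

set_option autoImplicit false
set_option linter.unusedSectionVars false
set_option maxHeartbeats 400000

namespace Cfsg.Agent.H914.S6

open Cfsg Cfsg.Geo Matrix Cfsg.Agent.H915.LD Module
open Cfsg.Agent.H464.Sl2 (u w t u_add u_zero t_mul_u reGL trace_reGL)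

universe u' v

local instance fact5''' : Fact (Nat.Prime 5) := ⟨Nat.prime_five⟩

variable {F : Type u'} [Field F] [Fintype F] {H P : Subgroup (GL (Fin 3 ⊕ Fin 3) F)}
  {ρ : Matrix.SpecialLinearGroup (Fin 2) (ZMod 5) →* GL (Fin 3 ⊕ Fin 3) F}

/-- the units `2` of `ZMod 5` -/
def two5 : (ZMod 5)ˣ := ⟨2, 3, by decide, by decide⟩

theorem t_two_mul_u (x : ZMod 5) : t two5 * u x * (t two5)⁻¹ = u (4 * x) := by
  rw [mul_inv_eq_iff_eq_mul, t_mul_u]
  congr 2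

theorem z5a : ∀ x : ZMod 5, x ≠ 0 → x = 1 ∨ x = 2 ∨ x = 3 ∨ x = 4 := by decide

theorem z5b : ∀ a : ZMod 5, 4 * (4 * a) = a := by decide

theorem z5c : ∀ a : ZMod 5, 4 * a + a = 0 := by decide

theorem t_two_sq : t two5 * t two5 = -1 := by
  apply mt_inj
  rw [← Cfsg.Agent.H464.Sl2.t_mul, mt_neg, mt_one]
  change !![((two5 * two5 : (ZMod 5)ˣ) : ZMod 5), 0; 0, (((two5 * two5)⁻¹ : (ZMod 5)ˣ) : ZMod 5)] = _
  decide

/-- an element of `P` which is the image of `u 1` -/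
theorem exists_conj_u (S : Hyp 3 H P) (hρ : ρ.range = P) (D : A5Data ρ) {h : GL (Fin 3 ⊕ Fin 3) F} (hh : h ∈ H) :
    ∃ (g : Matrix.SpecialLinearGroup (Fin 2) (ZMod 5)),
      (ρ g * h) * ρ (u 1) * (ρ g * h)⁻¹ = ρ (u 1) ∨ (ρ g * h) * ρ (u 1) * (ρ g * h)⁻¹ = ρ (u 2) := by
  have h1 : h * ρ (u 1) * h⁻¹ ∈ P := S.core.normal h hh _ (hρ ▸ ⟨_, rfl⟩)
  rw [← hρ] at h1
  obtain ⟨v, hv⟩ := h1
  have hv5 : v ^ 5 = 1 := by
    apply D.inj
    rw [map_pow, hv, conj_pow, ← map_pow, u_pow_five, map_one, mul_one, mul_inv_cancel]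
  have hv1 : v ≠ 1 := by
    rintro rfl
    rw [map_one] at hv
    have h2 : ρ (u 1) = 1 := by
      have := hv.symm
      rw [mul_inv_eq_one] at this
      exact mul_eq_left.1 this
    have h3 := D.inj (h2.trans (map_one ρ).symm)
    have h4 := congrFun (congrFun (congrArg mt h3) 0) 1
    revert h4
    decide
  have hvc : ∃ g x, x ≠ 0 ∧ v = g * u x * g⁻¹ := by
    rcases cases5 v with (h0 | h0) | h0 | ⟨g, x, hx, h0⟩ | ⟨-, h0 | h0 | h0⟩
    · exact absurd h0 hv1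
    · exfalso
      rw [h0, Odd.neg_one_pow (by decide)] at hv5
      exact neg_one_ne hv5
    · exact h0
    · exfalso
      rw [h0, Odd.neg_pow (by decide), conj_pow, u_pow_five, mul_one, mul_inv_cancel] at hv5
      exact neg_one_ne hv5
    · exfalso
      apply hv1
      have h3 : v ^ 4 = 1 := by rw [show (4 : ℕ) = 2 * 2 from rfl, pow_mul, h0]; simp
      rw [pow_succ, h3, one_mul] at hv5
      exact hv5
    · exfalso
      apply hv1
      have h3 : v ^ 5 * v = v ^ 3 * v ^ 3 := by rw [← pow_succ, ← pow_add]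
      rw [hv5, h0, one_mul, one_mul] at h3
      exact h3
    · exfalso
      apply hv1
      have h3 : v ^ 5 * v = v ^ 3 * v ^ 3 := by rw [← pow_succ, ← pow_add]
      rw [hv5, h0, one_mul] at h3
      rw [h3]; simp
  obtain ⟨g, x, hx, rfl⟩ := hvc
  have key : ∀ a : Matrix.SpecialLinearGroup (Fin 2) (ZMod 5),
      (ρ (a * g⁻¹) * h) * ρ (u 1) * (ρ (a * g⁻¹) * h)⁻¹ = ρ (a * u x * a⁻¹) := by
    intro a
    have e1 : (ρ (a * g⁻¹) * h) * ρ (u 1) * (ρ (a * g⁻¹) * h)⁻¹ = ρ (a * g⁻¹) * (h * ρ (u 1) * h⁻¹) * (ρ (a * g⁻¹))⁻¹ := by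
      group
    rw [e1, ← hv, ← map_inv, ← map_mul, ← map_mul]
    have e2 : a * g⁻¹ * (g * u x * g⁻¹) * (a * g⁻¹)⁻¹ = a * u x * a⁻¹ := by group
    rw [e2]
  have hx4 := z5a x hx
  rcases hx4 with rfl | rfl | rfl | rfl
  · exact ⟨1 * g⁻¹, Or.inl (by rw [key]; simp)⟩
  · exact ⟨1 * g⁻¹, Or.inr (by rw [key]; simp)⟩
  · refine ⟨t two5 * g⁻¹, Or.inr ?_⟩
    rw [key, t_two_mul_u]
    rfl
  · refine ⟨t two5 * g⁻¹, Or.inl ?_⟩
    rw [key, t_two_mul_u]
    rfl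

theorem H_le_P (S : Hyp 3 H P) (hρ : ρ.range = P) (D : A5Data ρ) (h2 : (2 : F) ≠ 0) (h5 : (5 : F) ≠ 0)
    (hbig : ∀ k : ℕ, k ≤ 6 → (k : F) = 2 → k = 2) (hsq : ¬ IsSquare (2 : F)) : H ≤ P := by
  have hP : ∀ g, ρ g ∈ P := fun g => hρ ▸ ⟨g, rfl⟩
  intro h hh
  obtain ⟨g, hg⟩ := exists_conj_u S hρ D hh
  have hgh : ρ g * h ∈ H := H.mul_mem (S.core.le (hP g)) hh
  suffices ρ g * h ∈ P by
    have h3 := P.mul_mem (P.inv_mem (hP g)) this
    rwa [inv_mul_cancel_left] at h3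
  rcases hg with hg | hg
  · obtain ⟨a, ha | ha⟩ := centralizer_u S hρ D hgh hg
    · rw [ha]; exact hP _
    · rw [ha, ← D.map_neg]; exact hP _
  · exfalso
    apply hsq
    generalize ρ g * h = k at hgh hg
    -- `k⁴ = -1`
    have hk2 : k ^ 2 * ρ (u 1) * (k ^ 2)⁻¹ = ρ (u 4) := by
      have e1 : u (2 : ZMod 5) = u 1 * u 1 := by rw [← u_add]; rfl
      have e2 : u (4 : ZMod 5) = u 2 * u 2 := by rw [← u_add]; rfl
      have e3 : k ^ 2 * ρ (u 1) * (k ^ 2)⁻¹ = k * (k * ρ (u 1) * k⁻¹) * k⁻¹ := by rw [pow_two]; group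
      rw [e3, hg, e1, e2, map_mul, map_mul, ← hg]; group
    have hk3 : (ρ (t two5) * k ^ 2) * ρ (u 1) * (ρ (t two5) * k ^ 2)⁻¹ = ρ (u 1) := by
      have e1 : (ρ (t two5) * k ^ 2) * ρ (u 1) * (ρ (t two5) * k ^ 2)⁻¹ =
          ρ (t two5) * (k ^ 2 * ρ (u 1) * (k ^ 2)⁻¹) * (ρ (t two5))⁻¹ := by group
      rw [e1, hk2, ← map_inv, ← map_mul, ← map_mul, t_two_mul_u]
      rfl
    have hk4 : k ^ 4 = -1 := by
      obtain ⟨a, ha⟩ := centralizer_u S hρ D (H.mul_mem (S.core.le (hP _)) (H.pow_mem hgh 2)) hk3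
      have hk2' : k ^ 2 = (ρ (t two5))⁻¹ * ρ (u a) ∨ k ^ 2 = -((ρ (t two5))⁻¹ * ρ (u a)) := by
        rcases ha with ha | ha
        · left; rw [← ha, inv_mul_cancel_left]
        · right; rw [← mul_neg, ← ha, inv_mul_cancel_left]
      have e4 : k ^ 4 = k ^ 2 * k ^ 2 := by rw [← pow_add]
      have e5 : k ^ 4 = ((ρ (t two5))⁻¹ * ρ (u a)) * ((ρ (t two5))⁻¹ * ρ (u a)) := by
        rcases hk2' with h | h
        · rw [e4, h]
        · rw [e4, h, neg_mul_neg]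
      rw [e5, ← map_inv, ← map_mul, ← map_mul]
      have e6 : (t two5)⁻¹ * u a * ((t two5)⁻¹ * u a) = -1 := by
        have e7 : u (4 * (4 * a)) = u a := by rw [z5b]
        have e8 : (t two5)⁻¹ * u a = u (4 * a) * (t two5)⁻¹ := by
          have := t_two_mul_u (4 * a)
          rw [e7] at this
          rw [← this]; group
        have e9 : (t two5)⁻¹ * (t two5)⁻¹ = (-1 : Matrix.SpecialLinearGroup (Fin 2) (ZMod 5)) := by
          rw [← _root_.mul_inv_rev, t_two_sq, inv_eq_iff_mul_eq_one]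
          simp
        calc (t two5)⁻¹ * u a * ((t two5)⁻¹ * u a) = u (4 * a) * (t two5)⁻¹ * ((t two5)⁻¹ * u a) := by rw [e8]
          _ = u (4 * a) * ((t two5)⁻¹ * (t two5)⁻¹) * u a := by group
          _ = -(u (4 * a) * u a) := by rw [e9]; simp
          _ = -1 := by
            rw [← u_add, z5c, u_zero]
      rw [e6, D.neg]
    exact two_square (hρ ▸ S.P_le) D h2 h5 hbig (S.H_le hgh) hk4 hg

/-! ### the overgroup -/

/-- the reindexing -/
def e6 : Fin 6 ≃ Fin 3 ⊕ Fin 3 := (finSumFinEquiv (m := 3) (n := 3)).symm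

theorem exists_over (D : A5Data ρ) (h2 : (2 : F) ≠ 0) (h3 : (3 : F) ≠ 0) (h5 : (5 : F) ≠ 0) {τ : F}
    (hτ : τ * τ = τ + 1) :
    ∃ l : Matrix.SpecialLinearGroup (Fin 2) F →* GL (Fin 3 ⊕ Fin 3) F, ρ.range ≤ l.range ∧
      (∀ g, tr (l g) = sg (t2 g)) ∧ l (u 1) ≠ 1 := by
  obtain ⟨κ, hκ⟩ := exists_kappa h2 h3 h5 hτ
  let l₀ : Matrix.SpecialLinearGroup (Fin 2) F →* GL (Fin 3 ⊕ Fin 3) F :=
    (reGL (F := F) e6).toMonoidHom.comp sym5
  have htr : ∀ g, tr (l₀ g) = sg (t2 g) := by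
    intro g
    have h := trace_reGL e6 (sym5 g)
    have h' := trace_sym5 g
    exact h.trans h'
  have h120 : (120 : F) ≠ 0 := by
    have : (120 : F) = 2 * 2 * 2 * 3 * 5 := by norm_num
    rw [this]
    exact mul_ne_zero (mul_ne_zero (mul_ne_zero (mul_ne_zero h2 h2) h2) h3) h5
  obtain ⟨B, hB⟩ := exists_conj ρ (l₀.comp κ) D.irr.1 (by
    have e : ∑ g : Matrix.SpecialLinearGroup (Fin 2) (ZMod 5),
        ((l₀.comp κ) g⁻¹ : Matrix (Fin 3 ⊕ Fin 3) (Fin 3 ⊕ Fin 3) F).trace *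
          (ρ g : Matrix (Fin 3 ⊕ Fin 3) (Fin 3 ⊕ Fin 3) F).trace = 120 := by
      rw [← sum_product D h2 hκ]
      refine Finset.sum_congr rfl fun g _ => ?_
      rw [← htr]
      rfl
    rw [e]
    exact h120)
  refine ⟨(MulAut.conj B⁻¹).toMonoidHom.comp l₀, ?_, ?_, ?_⟩
  · rintro _ ⟨g, rfl⟩
    refine ⟨κ g, ?_⟩
    change B⁻¹ * l₀ (κ g) * (B⁻¹)⁻¹ = ρ g
    have := hB g
    change l₀ (κ g) = _ at this
    rw [this]
    group
  · intro g
    change tr (B⁻¹ * l₀ g * (B⁻¹)⁻¹) = _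
    rw [tr_conj, htr]
  · intro h
    change B⁻¹ * l₀ (u 1) * (B⁻¹)⁻¹ = 1 at h
    have h1 : l₀ (u 1) = 1 := by
      have : B * (B⁻¹ * l₀ (u 1) * (B⁻¹)⁻¹) * B⁻¹ = B * 1 * B⁻¹ := by rw [h]
      simpa [mul_assoc] using this
    have h2 : sym5 (u (1 : F)) = 1 := (reGL (F := F) e6).injective (h1.trans (map_one _).symm)
    have h3 := congrArg (fun g : GL (Fin 6) F => (g : Matrix (Fin 6) (Fin 6) F) 1 0) h2
    simp [coe_sym5, s5] at h3

/-- `Sp` is big -/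
theorem card_spGL_ge {m : ℕ} (hm : 1 ≤ m) : Nat.card F ^ (m + m) ≤ Nat.card (spGL m F) + 1 := by
  classical
  let x0 : Fin m ⊕ Fin m → F := Pi.single (Sum.inl ⟨0, hm⟩) 1
  have hx0 : x0 ≠ 0 := by
    intro h
    have := congrFun h (Sum.inl ⟨0, hm⟩)
    simp [x0] at this
  let φ : Option (spGL m F) → (Fin m ⊕ Fin m → F) := fun o =>
    match o with
    | none => 0
    | some g => ((g : GL (Fin m ⊕ Fin m) F) : Matrix (Fin m ⊕ Fin m) (Fin m ⊕ Fin m) F) *ᵥ x0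
  have hφ : Function.Surjective φ := by
    intro y
    by_cases hy : y = 0
    · exact ⟨none, hy.symm⟩
    · obtain ⟨g, hg, hgx⟩ := H931.exists_spGL_mulVec_eq hx0 hy
      exact ⟨some ⟨g, hg⟩, hgx⟩
  have h1 := Nat.card_le_card_of_surjective φ hφ
  rw [Nat.card_eq_fintype_card, Fintype.card_fun, Fintype.card_sum, Fintype.card_fin,
    Finite.card_option] at h1
  rwa [Nat.card_eq_fintype_card]

theorem pow_sixty (g : Matrix.SpecialLinearGroup (Fin 2) (ZMod 5)) : g ^ 60 = 1 := by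
  rcases cases5 g with (rfl | rfl) | ⟨h, x, -, rfl⟩ | ⟨h, x, -, rfl⟩ | ⟨-, h0 | h0 | h0⟩
  · rw [one_pow]
  · rw [Even.neg_one_pow (by decide)]
  · rw [show (60 : ℕ) = 5 * 12 from rfl, pow_mul, conj_pow, u_pow_five, mul_one, mul_inv_cancel, one_pow]
  · rw [Even.neg_pow (by decide), show (60 : ℕ) = 5 * 12 from rfl, pow_mul, conj_pow, u_pow_five, mul_one,
      mul_inv_cancel, one_pow]
  · rw [show (60 : ℕ) = 2 * 30 from rfl, pow_mul, h0, Even.neg_one_pow (by decide)]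
  · rw [show (60 : ℕ) = 3 * 20 from rfl, pow_mul, h0, one_pow]
  · rw [show (60 : ℕ) = 3 * 20 from rfl, pow_mul, h0, Even.neg_one_pow (by decide)]

theorem a5_false' (S : Hyp 3 H P) (p : ℕ) [hp : Fact p.Prime] [CharP F p] (h7 : 7 ≤ p)
    (hneg : (-1 : GL (Fin 3 ⊕ Fin 3) F) ∈ P)
    (e : Soc P ≃* Matrix.ProjectiveSpecialLinearGroup (Fin 2) (ZMod 5)) (hsq : ¬ IsSquare (2 : F))
    {τ : F} (hτ : τ * τ = τ + 1) : False := by
  have hne : ∀ k : ℕ, 0 < k → k < p → (k : F) ≠ 0 := by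
    intro k h0 hk h
    rw [CharP.cast_eq_zero_iff F p] at h
    exact absurd (Nat.le_of_dvd h0 h) (by omega)
  have h2 : (2 : F) ≠ 0 := by exact_mod_cast hne 2 (by norm_num) (by omega)
  have h3 : (3 : F) ≠ 0 := by exact_mod_cast hne 3 (by norm_num) (by omega)
  have h5 : (5 : F) ≠ 0 := by exact_mod_cast hne 5 (by norm_num) (by omega)
  have hbig : ∀ k : ℕ, k ≤ 6 → (k : F) = 2 → k = 2 := by
    intro k hk h
    by_contra hk2
    rcases Nat.lt_or_gt_of_ne hk2 with h' | h'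
    · have h3 : ((2 - k : ℕ) : F) = 0 := by
        rw [Nat.cast_sub (by omega), h, Nat.cast_ofNat, sub_self]
      exact hne (2 - k) (by omega) (by omega) h3
    · have h3 : ((k - 2 : ℕ) : F) = 0 := by
        rw [Nat.cast_sub (by omega), h, Nat.cast_ofNat, sub_self]
      exact hne (k - 2) (by omega) (by omega) h3
  obtain ⟨ρ, hρ, D⟩ := a5_data S hneg h2 h5 e
  have hHP := H_le_P S hρ D h2 h5 hbig hsq
  obtain ⟨l, hl, htr, hlu⟩ := exists_over D h2 h3 h5 hτ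
  have hLs : l.range ≤ spGL 3 F := by
    refine le_spGL_of_real (by norm_num) S.core.absIrred S.P_le (hρ ▸ hl) ?_
    rintro _ ⟨g, rfl⟩
    rw [← map_inv, htr, htr]
    congr 1
    unfold t2
    have h1 : mt g⁻¹ 0 0 = mt g 1 1 := by
      change (g⁻¹).1 0 0 = _
      rw [Matrix.SpecialLinearGroup.coe_inv, Matrix.adjugate_fin_two]; rfl
    have h2 : mt g⁻¹ 1 1 = mt g 0 0 := by
      change (g⁻¹).1 1 1 = _
      rw [Matrix.SpecialLinearGroup.coe_inv, Matrix.adjugate_fin_two]; rfl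
    rw [h1, h2, add_comm]
  have hHl : H ≤ l.range := hHP.trans (hρ ▸ hl)
  -- `l.range ≠ H`
  have hup : (u (1 : F)) ^ p = 1 := by
    have h : ∀ n : ℕ, u (1 : F) ^ n = u (n : F) := by
      intro n
      induction n with
      | zero => rw [pow_zero, Nat.cast_zero, u_zero]
      | succ n ih => rw [pow_succ, ih, ← u_add, Nat.cast_succ]
    rw [h, CharP.cast_eq_zero, u_zero]
  have hne1 : l.range ≠ H := by
    intro h
    have h1 : l (u 1) ∈ P := hHP (h ▸ ⟨_, rfl⟩)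
    rw [← hρ] at h1
    obtain ⟨g, hg⟩ := h1
    have h2 : l (u 1) ^ 60 = 1 := by rw [← hg, ← map_pow, pow_sixty, map_one]
    have h3 : l (u 1) ^ p = 1 := by rw [← map_pow, hup, map_one]
    have h4 : Nat.Coprime 60 p := by
      rw [Nat.coprime_comm, Nat.Prime.coprime_iff_not_dvd hp.out]
      intro h6
      have h7 : p ∣ 2 ^ 2 * 3 * 5 := by simpa using h6
      rcases (Nat.Prime.dvd_mul hp.out).1 h7 with h | h
      · rcases (Nat.Prime.dvd_mul hp.out).1 h with h | h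
        · have := Nat.le_of_dvd (by norm_num) (hp.out.dvd_of_dvd_pow h)
          omega
        · have := Nat.le_of_dvd (by norm_num) h
          omega
      · have := Nat.le_of_dvd (by norm_num) h
        omega
    have h5 := Nat.dvd_gcd (orderOf_dvd_of_pow_eq_one h2) (orderOf_dvd_of_pow_eq_one h3)
    rw [h4, Nat.dvd_one, orderOf_eq_one_iff] at h5
    exact hlu h5
  -- `l.range ≠ Sp`
  have hne2 : l.range ≠ spGL 3 F := by
    intro h
    have hc1 : Nat.card l.range ≤ Nat.card F ^ 4 := by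
      have h1 : Nat.card l.range ≤ Nat.card (Matrix.SpecialLinearGroup (Fin 2) F) :=
        Nat.card_le_card_of_surjective l.rangeRestrict l.rangeRestrict_surjective
      refine h1.trans ?_
      have h2 : Nat.card (Matrix.SpecialLinearGroup (Fin 2) F) ≤ Nat.card (Matrix (Fin 2) (Fin 2) F) :=
        Nat.card_le_card_of_injective (fun g => mt g) (fun _ _ h => mt_inj h)
      refine h2.trans (le_of_eq ?_)
      rw [Nat.card_eq_fintype_card, Nat.card_eq_fintype_card]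
      change Fintype.card (Fin 2 → Fin 2 → F) = _
      rw [Fintype.card_fun, Fintype.card_fun, Fintype.card_fin, ← pow_mul]
    have h2 := card_spGL_ge (F := F) (m := 3) (by norm_num)
    rw [← h] at h2
    have hq : 7 ≤ Nat.card F := by
      rw [Nat.card_eq_fintype_card]
      obtain ⟨n, -, hn⟩ := FiniteField.card F p
      rw [hn]
      exact h7.trans (Nat.le_self_pow n.pos.ne' p)
    have h3 : Nat.card F ^ 4 * 49 ≤ Nat.card F ^ 6 := by
      have : Nat.card F ^ 6 = Nat.card F ^ 4 * (Nat.card F * Nat.card F) := by ring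
      rw [this]
      exact Nat.mul_le_mul_left _ (Nat.mul_le_mul hq hq)
    have h4 : 1 ≤ Nat.card F ^ 4 := Nat.one_le_pow _ _ (by omega)
    have h5 : Nat.card F ^ (3 + 3) = Nat.card F ^ 6 := rfl
    omega
  exact hne1 (S.eq_of_le hHl hLs hne2)

end Cfsg.Agent.H914.S6
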