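import Cfsg.Agent.H914.SpinE
import Cfsg.Agent.H4.JT.Two
import Cfsg.Agent.H4.JT.AutJ
import Cfsg.Agent.S1619

/-!
# N5: `J₂` is not a residual socle of `Sp₆(2^a)` (helper914)

`jtwo_two` : `Hyp 3 H P`, characteristic two, `IsoJ2 (Soc P)` is absurd.
-/

set_option autoImplicit false
set_option linter.unusedSectionVars false
set_option maxHeartbeats 400000

namespace Cfsg.Agent.H914.S6.Spin.J

open Matrix Cfsg Cfsg.Geo Cfsg.Agent.H915.LD Module
open scoped MatrixGroups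

universe u v

variable {F : Type u} [Field F]

theorem card_E : Fintype.card E = 8 := rfl

/-- the index set -/
noncomputable def e8 : E ≃ Fin 8 := Fintype.equivFinOfCardEq card_E

/-- the form as a bilinear form -/
noncomputable def B (F : Type u) [Field F] : LinearMap.BilinForm F (E → F) := Matrix.toBilin' (C (Matrix.J (Fin 3) F))

theorem B_apply (x y : E → F) : B F x y = x ⬝ᵥ (C (Matrix.J (Fin 3) F) *ᵥ y) := by
  unfold B
  rw [Matrix.toBilin'_apply']

theorem B_nondeg (h2 : (2 : F) = 0) : (B F).Nondegenerate := by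
  unfold B
  apply LinearMap.BilinForm.nondegenerate_toBilin'_of_det_ne_zero'
  have h1 : C (Matrix.J (Fin 3) F) * C (Matrix.J (Fin 3) F) = 1 := by
    rw [← C_mul h2 Sy.J Sy.J, Matrix.J_squared]
    have : (-1 : Matrix (Fin 3 ⊕ Fin 3) (Fin 3 ⊕ Fin 3) F) = 1 := by
      ext i j
      rw [Matrix.neg_apply]
      linear_combination (-((1 : Matrix (Fin 3 ⊕ Fin 3) (Fin 3 ⊕ Fin 3) F) i j)) * h2
    rw [this, C_one]
  intro h
  have h3 := congrArg Matrix.det h1
  rw [Matrix.det_mul, h, zero_mul, Matrix.det_one] at h3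
  exact zero_ne_one h3

section Small

variable {G : Type v} [Group G] [Finite G] (hJ : Spor.IsoJ2 G) (h2 : (2 : F) = 0)
  (A : G →* Matrix E E F)
include hJ h2

/-- an invariant subspace of dimension at most five is fixed -/
theorem fixed_of_small {U : Submodule F (E → F)} (hU : ∀ g, ∀ x ∈ U, A g *ᵥ x ∈ U) (h5 : finrank F U ≤ 5) :
    ∀ g, ∀ x ∈ U, A g *ᵥ x = x := by
  have hch : CharP F 2 := CharTwo.of_one_ne_zero_of_two_eq_zero one_ne_zero h2
  have hU' : ∀ g, ∀ x ∈ U, Matrix.toLin' (A g) x ∈ U := hU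
  let r : G →* Module.End F U :=
    { toFun := fun g => (Matrix.toLin' (A g)).restrict (hU' g)
      map_one' := by
        apply LinearMap.ext
        intro x
        apply Subtype.ext
        change A 1 *ᵥ (x : E → F) = x
        rw [map_one, Matrix.one_mulVec]
      map_mul' := fun a b => by
        apply LinearMap.ext
        intro x
        apply Subtype.ext
        change A (a * b) *ᵥ (x : E → F) = A a *ᵥ (A b *ᵥ (x : E → F))
        rw [map_mul, Matrix.mulVec_mulVec] }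
  let b := Module.finBasis F U
  let f : G →* GL (Fin (finrank F U)) F :=
    (((LinearMap.toMatrixAlgEquiv b).toAlgHom.toRingHom : Module.End F U →* Matrix (Fin (finrank F U)) (Fin (finrank F U)) F).comp
      r).toHomUnits
  have hf := H4.JT.j2_two_min hJ h5 f
  intro g x hx
  have h1 : (LinearMap.toMatrixAlgEquiv b) (r g) = 1 := by
    have : f g = 1 := by rw [hf, MonoidHom.one_apply]
    exact congrArg Units.val this
  have h3 : r g = 1 := by
    apply (LinearMap.toMatrixAlgEquiv b).injective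
    rw [h1, map_one]
  have h4 := congrArg (fun t : Module.End F U => ((t ⟨x, hx⟩ : U) : E → F)) h3
  exact h4

/-- there is a small invariant subspace -/
theorem exists_small (hB : ∀ g x y, B F (A g *ᵥ x) (A g *ᵥ y) = B F x y) :
    ∃ U : Submodule F (E → F), U ≠ ⊥ ∧ (∀ g, ∀ x ∈ U, A g *ᵥ x ∈ U) ∧ finrank F U ≤ 5 := by
  have hch : CharP F 2 := CharTwo.of_one_ne_zero_of_two_eq_zero one_ne_zero h2
  let f : G →* GL (Fin 8) F :=
    (((Matrix.reindexAlgEquiv F F e8).toAlgHom.toRingHom : Matrix E E F →* Matrix (Fin 8) (Fin 8) F).comp A).toHomUnits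
  have hf : ∀ g, (f g : Matrix (Fin 8) (Fin 8) F) = (A g).submatrix e8.symm e8.symm := fun _ => rfl
  have h1 := H4.JT.j2_two_eight_irr hJ (Or.inr rfl) f
  unfold ActsIrreducibly at h1
  push Not at h1
  obtain ⟨W, hW, hWb, hWt⟩ := h1
  let τ : (Fin 8 → F) ≃ₗ[F] (E → F) := LinearEquiv.funCongrLeft F F e8
  have hτ : ∀ x, τ x = x ∘ e8 := fun _ => rfl
  have hinv : ∀ g, ∀ x ∈ W.map τ.toLinearMap, A g *ᵥ x ∈ W.map τ.toLinearMap := by
    rintro g _ ⟨x, hx, rfl⟩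
    refine ⟨(f g : Matrix (Fin 8) (Fin 8) F) *ᵥ x, hW _ ⟨f g, ⟨g, rfl⟩, rfl⟩ ⟨x, hx, rfl⟩, ?_⟩
    change τ _ = A g *ᵥ τ x
    rw [hτ, hτ, hf, Matrix.submatrix_mulVec_equiv]
    funext i
    simp
  have hfr : finrank F (W.map τ.toLinearMap) = finrank F W := LinearEquiv.finrank_map_eq τ W
  have hW0 : 0 < finrank F W := by
    rw [Module.finrank_pos_iff, Submodule.nontrivial_iff_ne_bot]
    exact hWb
  have hW8 : finrank F W < 8 := by
    have := Submodule.finrank_lt hWt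
    rwa [Module.finrank_fintype_fun_eq_card, Fintype.card_fin] at this
  by_cases h5 : finrank F W ≤ 5
  · refine ⟨W.map τ.toLinearMap, ?_, hinv, by rwa [hfr]⟩
    intro h
    rw [h, finrank_bot] at hfr
    omega
  · have h6 := LinearMap.BilinForm.finrank_orthogonal (B_nondeg h2) (W.map τ.toLinearMap)
    rw [hfr, Module.finrank_fintype_fun_eq_card, card_E] at h6
    refine ⟨(B F).orthogonal (W.map τ.toLinearMap), ?_, ?_, by omega⟩
    · intro h
      rw [h, finrank_bot] at h6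
      omega
    · intro g x hx
      rw [LinearMap.BilinForm.mem_orthogonal_iff] at hx ⊢
      intro w hw
      have h7 : A g *ᵥ (A g⁻¹ *ᵥ w) = w := by
        rw [Matrix.mulVec_mulVec, ← map_mul, mul_inv_cancel, map_one, Matrix.one_mulVec]
      change B F w (A g *ᵥ x) = 0
      rw [← h7, hB]
      exact hx _ (hinv g⁻¹ w hw)

/-- a fixed vector -/
theorem exists_fixed (hB : ∀ g x y, B F (A g *ᵥ x) (A g *ᵥ y) = B F x y) : ∃ n : E → F, n ≠ 0 ∧ ∀ g, A g *ᵥ n = n := by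
  obtain ⟨U, hU0, hU, h5⟩ := exists_small hJ h2 A hB
  obtain ⟨n, hn, hn0⟩ := (Submodule.ne_bot_iff U).1 hU0
  exact ⟨n, hn0, fun g => fixed_of_small hJ h2 A hU h5 g n hn⟩

end Small

/-- the action of a group of symplectic matrices on the spin module -/
def CH (h2 : (2 : F) = 0) {P : Subgroup (GL (Fin 3 ⊕ Fin 3) F)} (hP : P ≤ spGL 3 F) : P →* Matrix E E F where
  toFun g := C ((g : GL (Fin 3 ⊕ Fin 3) F) : Matrix (Fin 3 ⊕ Fin 3) (Fin 3 ⊕ Fin 3) F)
  map_one' := by rw [OneMemClass.coe_one, Units.val_one, C_one]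
  map_mul' a b := by rw [Subgroup.coe_mul, Units.val_mul, C_mul h2 (sy_of_mem (hP a.2)) (sy_of_mem (hP b.2))]

theorem B_inv (h2 : (2 : F) = 0) {g : Matrix (Fin 3 ⊕ Fin 3) (Fin 3 ⊕ Fin 3) F} (hg : Sy g) (x y : E → F) :
    B F (C g *ᵥ x) (C g *ᵥ y) = B F x y := by
  rw [B_apply, B_apply]
  conv_rhs => rw [← C_form h2 hg]
  rw [← Matrix.mulVec_mulVec, ← Matrix.mulVec_mulVec, Matrix.dotProduct_mulVec x, Matrix.vecMul_transpose]

/-- a small residual maximal subgroup fixes no vector of the spin module -/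
theorem false_of_le [Fintype F] (h2 : (2 : F) = 0) {H P : Subgroup (GL (Fin 3 ⊕ Fin 3) F)} (S : Hyp 3 H P)
    {n : E → F} (hn : n ≠ 0) (hfix : ∀ g ∈ H, C (g : Matrix (Fin 3 ⊕ Fin 3) (Fin 3 ⊕ Fin 3) F) *ᵥ n = n)
    {c : Fˣ} (hc : c ≠ c⁻¹) {B : ℕ} (hB : Nat.card H ≤ B)
    (hlt : Fintype.card F ^ 8 * B < Nat.card (spGL 3 F)) : False := by
  have h1 : H ≤ lineStab h2 n := fun g hg => mem_lineStab.2 ⟨S.H_le hg, 1, by rw [Units.val_one, one_smul, hfix g hg]⟩
  have h3 := S.eq_of_le h1 lineStab_le (lineStab_ne h2 hn hc)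
  have h4 := card_le h2 n
  rw [h3] at h4
  exact absurd hlt (not_lt.2 (h4.trans (Nat.mul_le_mul_left _ hB)))

/-- a vector fixed by a normal subgroup of index at most two gives a vector fixed by the group -/
theorem exists_fixed_of_index (h2 : (2 : F) = 0) {H P : Subgroup (GL (Fin 3 ⊕ Fin 3) F)} (hH : H ≤ spGL 3 F)
    (hPH : P ≤ H) (hnorm : ∀ g ∈ H, ∀ x ∈ P, g⁻¹ * x * g ∈ P)
    (hidx : ∀ a ∈ H, ∀ b ∈ H, a ∉ P → b ∉ P → a * b ∈ P)
    {n : E → F} (hn : n ≠ 0) (hfix : ∀ g ∈ P, C (g : Matrix (Fin 3 ⊕ Fin 3) (Fin 3 ⊕ Fin 3) F) *ᵥ n = n) :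
    ∃ n' : E → F, n' ≠ 0 ∧ ∀ g ∈ H, C (g : Matrix (Fin 3 ⊕ Fin 3) (Fin 3 ⊕ Fin 3) F) *ᵥ n' = n' := by
  by_cases hall : ∀ g ∈ H, C (g : Matrix (Fin 3 ⊕ Fin 3) (Fin 3 ⊕ Fin 3) F) *ᵥ n = n
  · exact ⟨n, hn, hall⟩
  · push Not at hall
    obtain ⟨h, hh, hne⟩ := hall
    have hhP : h ∉ P := fun hp => hne (hfix h hp)
    have hmul : ∀ a ∈ H, ∀ b ∈ H, ∀ x : E → F, C ((a * b : GL (Fin 3 ⊕ Fin 3) F) : Matrix (Fin 3 ⊕ Fin 3) (Fin 3 ⊕ Fin 3) F) *ᵥ x =
        C (a : Matrix (Fin 3 ⊕ Fin 3) (Fin 3 ⊕ Fin 3) F) *ᵥ (C (b : Matrix (Fin 3 ⊕ Fin 3) (Fin 3 ⊕ Fin 3) F) *ᵥ x) := by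
      intro a ha b hb x
      rw [Units.val_mul, C_mul h2 (sy_of_mem (hH ha)) (sy_of_mem (hH hb)), Matrix.mulVec_mulVec]
    have hPh : ∀ g ∈ P, C (g : Matrix (Fin 3 ⊕ Fin 3) (Fin 3 ⊕ Fin 3) F) *ᵥ
        (C (h : Matrix (Fin 3 ⊕ Fin 3) (Fin 3 ⊕ Fin 3) F) *ᵥ n) = C (h : Matrix (Fin 3 ⊕ Fin 3) (Fin 3 ⊕ Fin 3) F) *ᵥ n := by
      intro g hg
      have h1 := hfix _ (hnorm h hh g hg)
      rw [← hmul g (hPH hg) h hh]
      have e : g * h = h * (h⁻¹ * g * h) := by group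
      rw [e, hmul h hh _ (hPH (hnorm h hh g hg)), h1]
    have hfixP : ∀ g ∈ P, C (g : Matrix (Fin 3 ⊕ Fin 3) (Fin 3 ⊕ Fin 3) F) *ᵥ
        (n + C (h : Matrix (Fin 3 ⊕ Fin 3) (Fin 3 ⊕ Fin 3) F) *ᵥ n) =
        n + C (h : Matrix (Fin 3 ⊕ Fin 3) (Fin 3 ⊕ Fin 3) F) *ᵥ n := by
      intro g hg
      rw [Matrix.mulVec_add, hfix g hg, hPh g hg]
    have hfixh : C (h : Matrix (Fin 3 ⊕ Fin 3) (Fin 3 ⊕ Fin 3) F) *ᵥ
        (n + C (h : Matrix (Fin 3 ⊕ Fin 3) (Fin 3 ⊕ Fin 3) F) *ᵥ n) =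
        n + C (h : Matrix (Fin 3 ⊕ Fin 3) (Fin 3 ⊕ Fin 3) F) *ᵥ n := by
      rw [Matrix.mulVec_add, ← hmul h hh h hh, hfix _ (hidx h hh h hh hhP hhP), add_comm]
    refine ⟨n + C (h : Matrix (Fin 3 ⊕ Fin 3) (Fin 3 ⊕ Fin 3) F) *ᵥ n, ?_, ?_⟩
    · intro h0
      apply hne
      funext i
      have h3 := congrFun h0 i
      rw [Pi.add_apply, Pi.zero_apply] at h3
      linear_combination h3 - n i * h2
    · intro g hg
      by_cases hgP : g ∈ P
      · exact hfixP g hgP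
      · have h4 : g * h⁻¹ ∈ P := hidx g hg h⁻¹ (inv_mem hh) hgP (fun h' => hhP (by simpa using inv_mem h'))
        have e : g = (g * h⁻¹) * h := by group
        rw [e, hmul _ (hPH h4) h hh, hfixh, hfixP _ h4]

/-- **N5.** -/
theorem jtwo_two [Fintype F] {H P : Subgroup (GL (Fin 3 ⊕ Fin 3) F)} (S : Hyp 3 H P) (h2 : (2 : F) = 0)
    (hJ : Spor.IsoJ2 (Soc P)) : False := by
  obtain ⟨e⟩ := hJ
  have hJP : Spor.IsoJ2 P := ⟨(socEquiv h2 S).trans e⟩
  have hcard : Nat.card P = 604800 := by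
    rw [Nat.card_congr ((socEquiv h2 S).trans e).toEquiv]
    exact S1619.result.2.2.2
  have hcardH : Nat.card H ≤ 2 * Nat.card P := (card_H_le h2 S).trans (H4.JT.j2_aut_card hJP)
  obtain ⟨n, hn, hfix⟩ := exists_fixed hJP h2 (CH h2 S.P_le) (fun g x y => B_inv h2 (sy_of_mem (S.P_le g.2)) x y)
  have hnorm : ∀ g ∈ H, ∀ x ∈ P, g⁻¹ * x * g ∈ P := by
    intro g hg x hx
    have h1 := S.core.normal g⁻¹ (inv_mem hg) x hx
    rwa [inv_inv] at h1
  have hidx : ∀ a ∈ H, ∀ b ∈ H, a ∉ P → b ∉ P → a * b ∈ P := by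
    intro a ha b hb haP hbP
    have h1 : Nat.card (P.subgroupOf H) * (P.subgroupOf H).index = Nat.card H := Subgroup.card_mul_index _
    rw [Nat.card_congr (Subgroup.subgroupOfEquivOfLe S.core.le).toEquiv] at h1
    have h3 : (P.subgroupOf H).index ≤ 2 := by
      rw [← h1, mul_comm 2, hcard] at hcardH
      omega
    have h4 : (P.subgroupOf H).index ≠ 1 := by
      intro h
      rw [Subgroup.index_eq_one, Subgroup.subgroupOf_eq_top] at h
      exact haP (h ha)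
    have h5 : (P.subgroupOf H).index ≠ 0 := Subgroup.index_ne_zero_of_finite
    have h6 : (P.subgroupOf H).index = 2 := by omega
    have h7 := (Subgroup.mul_mem_iff_of_index_two h6 (a := ⟨a, ha⟩) (b := ⟨b, hb⟩)).2
      (by simp only [Subgroup.mem_subgroupOf]; exact iff_of_false haP hbP)
    exact h7
  obtain ⟨n', hn', hfix'⟩ := exists_fixed_of_index h2 S.H_le S.core.le hnorm hidx hn (fun g hg => hfix ⟨g, hg⟩)
  -- the field is not F_2
  have h4 : 4 ≤ Fintype.card F := by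
    have hch : CharP F 2 := (CharTwo.of_one_ne_zero_of_two_eq_zero one_ne_zero h2)
    obtain ⟨m, -, hm⟩ := FiniteField.card F 2
    rcases Nat.lt_or_ge (m : ℕ) 2 with h | h
    · exfalso
      have hm1 : (m : ℕ) = 1 := by
        have := m.pos
        omega
      rw [hm1, pow_one] at hm
      have h5 : 604800 ∣ Nat.card (spGL 3 F) := by
        rw [← hcard]
        exact Subgroup.card_dvd_of_le S.P_le
      rw [card_sp6', hm] at h5
      revert h5
      decide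
    · rw [hm]
      calc 4 = 2 ^ 2 := rfl
        _ ≤ 2 ^ (m : ℕ) := Nat.pow_le_pow_right (by norm_num) h
  obtain ⟨c, hc⟩ : ∃ c : Fˣ, c ≠ c⁻¹ := by
    classical
    have h6 : 1 < Fintype.card Fˣ := by
      rw [Fintype.card_units]
      omega
    obtain ⟨c, hc⟩ := Fintype.exists_ne_of_one_lt_card h6 1
    refine ⟨c, fun h => hc ?_⟩
    apply Units.ext
    rw [Units.val_one]
    have h7 : (c : F) * c = 1 := by
      rw [← Units.val_mul, eq_inv_iff_mul_eq_one.1 h, Units.val_one]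
    have h8 : ((c : F) - 1) ^ 2 = 0 := by
      linear_combination h7 + (1 - (c : F)) * h2
    exact sub_eq_zero.1 (pow_eq_zero_iff two_ne_zero |>.1 h8)
  rw [hcard] at hcardH
  exact false_of_le h2 S hn' hfix' hc hcardH (num_bound h4 (by norm_num))

end Cfsg.Agent.H914.S6.Spin.J
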