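import Cfsg.Agent.H914.SixBase
import Cfsg.Agent.H871.Par9
import Cfsg.Agent.H871.Par8
import Cfsg.Agent.H871.Par7
import Cfsg.Agent.H937.T2Fields

/-!
# Socles excluded from `Sp₆` by parity (helper914)

Mathieu groups, `J₁` (`p = 11`), `PSL₃(4)`, alternating groups of degree at least 8 in odd characteristic.
-/

set_option autoImplicit false
set_option linter.unusedSectionVars false
set_option maxHeartbeats 400000

namespace Cfsg.Agent.H914.S6

open Matrix Cfsg Cfsg.Geo Cfsg.Agent.H915.LD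
open scoped MatrixGroups

universe u v

section kill

variable {F : Type u} [Field F] [Fintype F] {H P : Subgroup (GL (Fin 3 ⊕ Fin 3) F)}

theorem fixA_hyp (S : Hyp 3 H P) : FixA P := H937.T2.fixA_of_spGL S.max S.core

theorem kill_mathieu (S : Hyp 3 H P) {T : Type v} [Group T] (e : Soc P ≃* T) (h1 : H871.Par.Frob11 T)
    (h2 : H871.Par.Quat9 T) : False := by
  have hne : Nonempty (Fin 3 ⊕ Fin 3) := ⟨Sum.inl 0⟩
  have h6 : Fintype.card (Fin 3 ⊕ Fin 3) = 6 := rfl
  by_cases h11 : (11 : F) = 0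
  · have hnot : ∀ k : ℕ, 0 < k → k < 11 → (k : F) ≠ 0 := by
      intro k h0 hk h
      have h3 : CharP F 11 := by
        have h4 := CharP.exists F
        obtain ⟨q, hq⟩ := h4
        have h5 : q ∣ 11 := (CharP.cast_eq_zero_iff F q 11).1 (by exact_mod_cast h11)
        have h7 : q.Prime := CharP.char_is_prime F q
        rw [Nat.prime_dvd_prime_iff_eq h7 (by norm_num)] at h5
        subst h5
        exact hq
      rw [CharP.cast_eq_zero_iff F 11] at h
      exact absurd (Nat.le_of_dvd h0 h) (by omega)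
    have h2F : (2 : F) ≠ 0 := by exact_mod_cast hnot 2 (by norm_num) (by norm_num)
    have h3F : (3 : F) ≠ 0 := by exact_mod_cast hnot 3 (by norm_num) (by norm_num)
    have := (H871.Par.pa_of_fixA (fixA_hyp S) h2F e).of_quat9 h2F h3F h2
    omega
  · have := (H871.Par.pd_of_sd S.toCore S.sd e).of_frob11 h11 h1
    omega

theorem kill_m11 (S : Hyp 3 H P) (h : Spor.IsoM11 (Soc P)) : False := by
  obtain ⟨e⟩ := h
  exact kill_mathieu S e H871.Par.frob11_M11 H871.Par.quat9_M11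

theorem kill_m12 (S : Hyp 3 H P) (h : Spor.IsoM12 (Soc P)) : False := by
  obtain ⟨e⟩ := h
  exact kill_mathieu S e H871.Par.frob11_M12 H871.Par.quat9_M12

theorem kill_m22 (S : Hyp 3 H P) (h : Spor.IsoM22 (Soc P)) : False := by
  obtain ⟨e⟩ := h
  exact kill_mathieu S e H871.Par.frob11_M22 H871.Par.quat9_M22

theorem kill_m23 (S : Hyp 3 H P) (h : Spor.IsoM23 (Soc P)) : False := by
  obtain ⟨e⟩ := h
  exact kill_mathieu S e H871.Par.frob11_M23 H871.Par.quat9_M23

theorem kill_m24 (S : Hyp 3 H P) (h : Spor.IsoM24 (Soc P)) : False := by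
  obtain ⟨e⟩ := h
  exact kill_mathieu S e H871.Par.frob11_M24 H871.Par.quat9_M24

theorem kill_j1_odd (S : Hyp 3 H P) (h2 : (2 : F) ≠ 0) (h : Spor.IsoJ1 (Soc P)) : False := by
  have hne : Nonempty (Fin 3 ⊕ Fin 3) := ⟨Sum.inl 0⟩
  have h6 : Fintype.card (Fin 3 ⊕ Fin 3) = 6 := rfl
  obtain ⟨e⟩ := h
  have := (H871.Par.pa_of_fixA (fixA_hyp S) h2 e).of_frob8 h2 H871.Par.frob8_J1
  omega

theorem kill_alt_odd (S : Hyp 3 H P) (h2 : (2 : F) ≠ 0) {m : ℕ} (hm : 8 ≤ m)
    (h : Nonempty (Soc P ≃* alternatingGroup (Fin m))) : False := by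
  have hne : Nonempty (Fin 3 ⊕ Fin 3) := ⟨Sum.inl 0⟩
  have h6 : Fintype.card (Fin 3 ⊕ Fin 3) = 6 := rfl
  obtain ⟨e⟩ := h
  have := (H871.Par.pa_of_fixA (fixA_hyp S) h2 e).of_frob8 h2 (H871.Par.frob8_alt hm)
  omega

theorem kill_l34 (S : Hyp 3 H P) (h2 : (2 : F) ≠ 0) {K : Type v} [Field K] [Fintype K] (hK : Fintype.card K = 4)
    (h : Nonempty (Soc P ≃* Matrix.ProjectiveSpecialLinearGroup (Fin 3) K)) : False := by
  have hne : Nonempty (Fin 3 ⊕ Fin 3) := ⟨Sum.inl 0⟩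
  have h6 : Fintype.card (Fin 3 ⊕ Fin 3) = 6 := rfl
  obtain ⟨e⟩ := h
  have := (H871.Par.pa_of_fixA (fixA_hyp S) h2 e).psl34 h2 hK (MulEquiv.refl _)
  omega

end kill

end Cfsg.Agent.H914.S6
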