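import Cfsg.Agent.H914.SixBase
import Cfsg.Agent.H918.U43.Main
import Cfsg.Agent.H95.JT.Core

/-!
# Socles excluded from `Sp₆`: `PSU₄(3)`, `J₃` (helper914)
-/

set_option autoImplicit false
set_option linter.unusedSectionVars false
set_option maxHeartbeats 400000

namespace Cfsg.Agent.H914.S6

open Matrix Cfsg Cfsg.Geo Cfsg.Agent.H915.LD
open scoped MatrixGroups

universe u v

section kill

variable {F : Type u} [Field F] [Fintype F] {H P : Subgroup (GL (Fin 3 ⊕ Fin 3) F)}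

theorem not_three_dvd (S : Hyp 3 H P) : ¬ 3 ∣ Nat.card ((scalars (Fin 3 ⊕ Fin 3) F).subgroupOf P) := by
  intro h
  have : Fact (Nat.Prime 3) := ⟨Nat.prime_three⟩
  obtain ⟨x, hx⟩ := exists_prime_orderOf_dvd_card' 3 h
  have h1 : (x : P) * (x : P) = 1 := by
    apply Subtype.ext
    have h2 : ((x : P) : GL (Fin 3 ⊕ Fin 3) F) ∈ scalars (Fin 3 ⊕ Fin 3) F := Subgroup.mem_subgroupOf.1 x.2
    rcases scalar_cases S.m_pos (S.P_le (x : P).2) h2 with h3 | h3
    · rw [Subgroup.coe_mul, h3, mul_one]; rfl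
    · rw [Subgroup.coe_mul, h3, neg_mul_neg, mul_one]; rfl
  have h2 : x ^ 2 = 1 := by
    rw [pow_two]
    exact Subtype.ext h1
  have h3 := orderOf_dvd_of_pow_eq_one h2
  rw [hx] at h3
  omega

theorem kill_u43 (S : Hyp 3 H P) (h3 : (3 : F) ≠ 0) {K : Type v} [Field K] [Fintype K] (hK : Fintype.card K = 9)
    (h : Nonempty (Soc P ≃* Cfsg.PSU 4 K 3)) : False := by
  have h6 : Fintype.card (Fin 3 ⊕ Fin 3) = 6 := rfl
  obtain ⟨e⟩ := h
  exact not_three_dvd S (H918.U43.three_dvd (by exact_mod_cast h3) hK e (by omega))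

theorem kill_j3 (S : Hyp 3 H P) (p : ℕ) [hp : Fact p.Prime] [CharP F p] (h : Spor.IsoJ3 (Soc P)) : False := by
  have h6 : Fintype.card (Fin 3 ⊕ Fin 3) = 6 := rfl
  have := (H95.JT.j3 p S.toCore h (by omega)).2.1
  omega

end kill

end Cfsg.Agent.H914.S6
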