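import Cfsg.Agent.H914.SixBase
import Cfsg.Agent.H937.T2Fields
import Cfsg.Agent.H689.Six.U42
import Cfsg.Agent.H916.T8
import Cfsg.Agent.H614.AMod.Main
import Cfsg.Agent.H878.Sz.MainP3
import Cfsg.Agent.H659.J1Not11

/-!
# Socles excluded from `Sp₆`: `PSU₄(2)`, `PSp₆(2)`, `PΩ₈⁺(2)`, `A_m` (`m ≥ 8`), `J₁`, `Suz` (helper914)
-/

set_option autoImplicit false
set_option linter.unusedSectionVars false
set_option maxHeartbeats 400000

namespace Cfsg.Agent.H914.S6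

open Matrix Cfsg Cfsg.Geo Cfsg.Agent.H915.LD
open scoped MatrixGroups

universe u v

section kill

variable {F : Type u} [Field F] [Fintype F] {H P : Subgroup (GL (Fin 3 ⊕ Fin 3) F)}

theorem kill_u42 (S : Hyp 3 H P) (p : ℕ) [hp : Fact p.Prime] [CharP F p] (h5 : 5 ≤ p) {K : Type} [Field K]
    [Fintype K] (hK : Fintype.card K = 4) (h : Nonempty (Soc P ≃* Cfsg.PSU 4 K 2)) : False := by
  obtain ⟨e⟩ := h
  exact H689.Six.u42_six p h5 S.toCore (H937.T2.fixA_of_spGL S.max S.core) rfl hK e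

theorem kill_s62 (S : Hyp 3 H P) (p : ℕ) [hp : Fact p.Prime] [CharP F p] (h2 : (2 : F) ≠ 0) {K : Type} [Field K]
    [Fintype K] (hK : Fintype.card K = 2) (h : Nonempty (Soc P ≃* Cfsg.PSp 3 K)) : False := by
  have h6 : Fintype.card (Fin 3 ⊕ Fin 3) = 6 := rfl
  obtain ⟨e⟩ := h
  have := (H916.T8.sp hK S.toCore p e h2 (by omega)).1
  omega

theorem kill_o82 (S : Hyp 3 H P) (p : ℕ) [hp : Fact p.Prime] [CharP F p] (h2 : (2 : F) ≠ 0) {K : Type} [Field K]
    [Fintype K] (hK : Fintype.card K = 2) (h : Nonempty (Soc P ≃* Cfsg.POmega K (Cfsg.quadFormPlus 4 K))) : False := by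
  have h6 : Fintype.card (Fin 3 ⊕ Fin 3) = 6 := rfl
  obtain ⟨e⟩ := h
  have := (H916.T8.om hK S.toCore p e h2 (by omega)).1
  omega

theorem kill_j1 (S : Hyp 3 H P) (p : ℕ) [hp : Fact p.Prime] [CharP F p] (h11 : p ≠ 11)
    (h : Spor.IsoJ1 (Soc P)) : False := by
  have h6 : Fintype.card (Fin 3 ⊕ Fin 3) = 6 := rfl
  exact H659.J1.not_core S.toCore h p h11 (by omega)

theorem kill_suz (S : Hyp 3 H P) (p : ℕ) [hp : Fact p.Prime] [CharP F p] (h : Spor.IsoSuz (Soc P)) : False := by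
  have h6 : Fintype.card (Fin 3 ⊕ Fin 3) = 6 := rfl
  obtain ⟨e⟩ := h
  by_cases h3 : p = 3
  · subst h3
    have := (H878.Sz.core_Suz_three S.toCore e (by omega)).1
    omega
  · have := (H878.Sz.core_Suz S.toCore e (by omega) p h3).1
    omega

/-- `A_m`, `m ≥ 8` -/
theorem kill_alt (S : Hyp 3 H P) (p : ℕ) [hp : Fact p.Prime] [CharP F p] {m : ℕ} (hm : 8 ≤ m)
    (h82 : ¬ (m = 8 ∧ p = 2)) (h : Nonempty (Soc P ≃* alternatingGroup (Fin m))) : False := by
  have h6 : Fintype.card (Fin 3 ⊕ Fin 3) = 6 := rfl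
  obtain ⟨e⟩ := h
  rcases H614.AMod.Main.alt_cases S.toCore p e hm (by omega) h82 with h | h | h
  · rcases h.dim S.toCore hm p with ⟨-, h⟩ | ⟨h7, h⟩
    · omega
    · have h8 : m = 8 := by omega
      refine h82 ⟨h8, ?_⟩
      rw [h8] at h7
      have h9 : p ∣ 2 ^ 3 := by exact_mod_cast h7
      exact (Nat.prime_dvd_prime_iff_eq hp.out Nat.prime_two).1 (hp.out.dvd_of_dvd_pow h9)
  · have := h.n8
    omega
  · omega

end kill

end Cfsg.Agent.H914.S6
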