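import Cfsg.Agent.H914.SixKA
import Cfsg.Agent.H161.G2Elems
import Cfsg.Agent.H161.G2Emb
import Cfsg.Agent.H638.G2Iso

/-!
# `G₂(4)` is not a socle in `Sp₆` in odd characteristic (helper914)

`SL₃(4) < G₂(4)`, `2^4:SL₂(4) < SL₃(4)`.
-/

set_option autoImplicit false
set_option linter.unusedSectionVars false
set_option maxHeartbeats 400000

namespace Cfsg.Agent.H914.S6

open Matrix Cfsg Cfsg.Geo Cfsg.Agent.H915.LD
open scoped MatrixGroups

universe u v w

/-- `SL₃(4)` -/
theorem PA_sl34 {F : Type u} [Field F] {n : ℕ} {T : Type v} [Group T] (h : H871.Par.PA F n T) (h2 : (2 : F) ≠ 0)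
    {K : Type w} [Field K] [Fintype K] (hK : Fintype.card K = 4) (φ : Matrix.SpecialLinearGroup (Fin 3) K →* T)
    (hφ : Function.Injective φ) : 10 ≤ n := by
  have hpow : ∀ x : K, x ^ 4 = x := by
    intro x
    rw [← hK]; exact FiniteField.pow_card x
  have hchar : CharP K 2 := by
    obtain ⟨p, hp⟩ := CharP.exists K
    have : Fact p.Prime := ⟨CharP.char_is_prime K p⟩
    have h1 : p ∣ Fintype.card K := by
      obtain ⟨n, -, hn⟩ := FiniteField.card K p
      rw [hn]; exact dvd_pow_self _ n.pos.ne'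
    rw [hK] at h1
    have h2 : p ∣ 2 := this.out.dvd_of_dvd_pow (show p ∣ 2 ^ 2 from h1)
    rw [(Nat.prime_dvd_prime_iff_eq this.out Nat.prime_two).1 h2] at hp
    exact hp
  have hex : ∃ x : K, x ≠ 0 ∧ x ≠ 1 := by
    classical
    by_contra hcon
    push Not at hcon
    have h1 : (Finset.univ : Finset K) ⊆ {0, 1} := by
      intro x _
      rw [Finset.mem_insert, Finset.mem_singleton]
      by_cases h0 : x = 0
      · exact Or.inl h0
      · exact Or.inr (hcon x h0)
    have h2 := Finset.card_le_card h1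
    rw [Finset.card_univ, hK] at h2
    have h3 : ({0, 1} : Finset K).card ≤ 2 := Finset.card_le_two
    omega
  obtain ⟨w, hw0, hw1⟩ := hex
  have hw : w ^ 2 + w + 1 = 0 := by
    have h1 : w * (w - 1) * (w ^ 2 + w + 1) = 0 := by linear_combination hpow w
    exact (mul_eq_zero.1 h1).resolve_left (mul_ne_zero hw0 (sub_ne_zero.2 hw1))
  refine (h.sub φ hφ).sixteen h2 hw H871.Par.tr3 H871.Par.tr3_add ?_ ?_
  · intro x y hxy
    have h1 : x.1 = y.1 := congrFun (congrFun (congrArg Subtype.val hxy) 0) 2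
    have h3 : x.2 = y.2 := congrFun (congrFun (congrArg Subtype.val hxy) 1) 2
    exact Prod.ext h1 h3
  · intro a b c d hdet
    let g : SpecialLinearGroup (Fin 3) K := ⟨!![a, b, 0; c, d, 0; 0, 0, 1], by
      simp [Matrix.det_fin_three]; linear_combination hdet⟩
    refine ⟨g, fun x => ?_⟩
    rw [mul_inv_eq_iff_eq_mul]
    apply Subtype.ext
    change !![a, b, 0; c, d, 0; 0, 0, 1] * !![1, 0, x.1; 0, 1, x.2; 0, 0, 1] =
      !![1, 0, a * x.1 + b * x.2; 0, 1, c * x.1 + d * x.2; 0, 0, 1] * !![a, b, 0; c, d, 0; 0, 0, 1]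
    ext i j
    fin_cases i <;> fin_cases j <;> simp [Matrix.mul_apply, Fin.sum_univ_three]

section G2
open Cfsg.Agent.H161.Oct

/-- the homomorphism from `SL₃(q)` -/
noncomputable def slToG2 (F : Type v) [Field F] : Matrix.SpecialLinearGroup (Fin 3) F →* ↥(Cfsg.Lie.G2 F) where
  toFun P := ⟨(toE F).symm (slM F P), by
    rw [← toE_mem, MulEquiv.apply_symm_apply]; exact slM_mem P⟩
  map_one' := by
    apply Subtype.ext
    show (toE F).symm (slM F 1) = 1
    rw [map_one, map_one]
  map_mul' P Q := by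
    apply Subtype.ext
    show (toE F).symm (slM F (P * Q)) = (toE F).symm (slM F P) * (toE F).symm (slM F Q)
    rw [map_mul, map_mul]

theorem slToG2_inj (F : Type v) [Field F] : Function.Injective (slToG2 F) := by
  intro P Q h
  have h1 : (toE F).symm (slM F P) = (toE F).symm (slM F Q) := congrArg Subtype.val h
  exact slM_inj ((toE F).symm.injective h1)

end G2

section kill

variable {F : Type u} [Field F] [Fintype F] {H P : Subgroup (GL (Fin 3 ⊕ Fin 3) F)}

theorem kill_g24 (S : Hyp 3 H P) (h2 : (2 : F) ≠ 0) {K : Type} [Field K] [Fintype K] (hK : Fintype.card K = 4)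
    (h : Nonempty (Soc P ≃* Cfsg.Lie.chevG2.group K)) : False := by
  have hne : Nonempty (Fin 3 ⊕ Fin 3) := ⟨Sum.inl 0⟩
  have h6 : Fintype.card (Fin 3 ⊕ Fin 3) = 6 := rfl
  obtain ⟨e⟩ := h
  obtain ⟨f⟩ := H638.G2Iso.equiv (F := K)
  have := PA_sl34 (H871.Par.pa_of_fixA (fixA_hyp S) h2 (e.trans f.symm)) h2 hK (slToG2 K) (slToG2_inj K)
  omega

end kill

end Cfsg.Agent.H914.S6
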