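import Cfsg.Agent.H914.SpinM
import Cfsg.Agent.H914.SixA5b

/-!
# N3: `L₂(13)` is not a residual socle of `Sp₆(2^a)` (helper914)

`thirteen_two` : `Hyp 3 H P`, characteristic two, `Soc P ≃* PSL₂(13)` is absurd.
-/

set_option autoImplicit false
set_option linter.unusedSectionVars false
set_option maxHeartbeats 400000

namespace Cfsg.Agent.H914.S6.Spin.L

open Matrix Cfsg Cfsg.Geo Cfsg.Agent.H915.LD Module Cfsg.Agent.H464.Sl2
open scoped MatrixGroups

universe u v

local instance fact13'' : Fact (Nat.Prime 13) := ⟨by norm_num⟩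

theorem u_eq_pow13 (n : ℕ) : u (n : ZMod 13) = u 1 ^ n := by
  induction n with
  | zero => rw [Nat.cast_zero, u_zero, pow_zero]
  | succ n ih => rw [Nat.cast_succ, u_add, ih, pow_succ]

theorem gen_top13 {C : Subgroup (Matrix.SpecialLinearGroup (Fin 2) (ZMod 13))} (hu : u 1 ∈ C) (hw : w 1 ∈ C) : C = ⊤ := by
  have hu' : ∀ x : ZMod 13, u x ∈ C := by
    intro x
    have : u x = u 1 ^ x.val := by rw [← u_eq_pow13, ZMod.natCast_zmod_val]
    rw [this]
    exact C.pow_mem hu _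
  have hwm : w (-1 : (ZMod 13)ˣ) = (w 1)⁻¹ := by
    rw [eq_inv_iff_mul_eq_one, w_mul_w]
    have : (-(1 / (-1 : (ZMod 13)ˣ)) : (ZMod 13)ˣ) = 1 := by
      rw [one_div, inv_neg, inv_one, neg_neg]
    rw [this, t_one]
  have hw' : ∀ c : (ZMod 13)ˣ, w c ∈ C := by
    intro c
    rw [w_eq c, hwm]
    exact C.mul_mem (C.mul_mem (hu' _) (C.mul_mem (C.mul_mem hw (hu' _)) (C.inv_mem hw))) (hu' _)
  rw [eq_top_iff]
  intro g _
  rcases bruhat g with ⟨x, a, rfl⟩ | ⟨x, c, y, rfl⟩
  · refine C.mul_mem (hu' _) ?_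
    have : t a = (w 1)⁻¹ * w a := by rw [eq_inv_mul_iff_mul_eq, w_one_mul_t]
    rw [this]
    exact C.mul_mem (C.inv_mem hw) (hw' _)
  · exact C.mul_mem (C.mul_mem (hu' _) (hw' _)) (hu' _)

theorem card_sl13 : Nat.card (Matrix.SpecialLinearGroup (Fin 2) (ZMod 13)) ≤ 2184 := by
  let f : (ZMod 13 × (ZMod 13)ˣ) ⊕ (ZMod 13 × (ZMod 13)ˣ × ZMod 13) → Matrix.SpecialLinearGroup (Fin 2) (ZMod 13) :=
    Sum.elim (fun p => u p.1 * t p.2) (fun p => u p.1 * w p.2.1 * u p.2.2)
  have hf : Function.Surjective f := by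
    intro g
    rcases bruhat g with ⟨x, a, rfl⟩ | ⟨x, c, y, rfl⟩
    · exact ⟨Sum.inl (x, a), rfl⟩
    · exact ⟨Sum.inr (x, c, y), rfl⟩
  have h1 := Nat.card_le_card_of_surjective f hf
  rw [Nat.card_eq_fintype_card (α := (ZMod 13 × (ZMod 13)ˣ) ⊕ (ZMod 13 × (ZMod 13)ˣ × ZMod 13)), Fintype.card_sum,
    Fintype.card_prod, Fintype.card_prod, Fintype.card_prod, ZMod.card_units_eq_totient, ZMod.card,
    Nat.totient_prime (by norm_num)] at h1
  exact h1

/-- few automorphisms -/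
theorem card_mulAut {T : Type v} [Group T] (f : Matrix.SpecialLinearGroup (Fin 2) (ZMod 13) →* T)
    (hf : Function.Surjective f) : Nat.card (MulAut T) ≤ 2184 * 2184 := by
  have hfin : Finite T := Finite.of_surjective f hf
  have h1 : Nat.card T ≤ 2184 := (Nat.card_le_card_of_surjective f hf).trans card_sl13
  have h2 : Nat.card (MulAut T) ≤ Nat.card (T × T) := by
    refine Nat.card_le_card_of_injective (fun α : MulAut T => (α (f (u 1)), α (f (w 1)))) ?_
    intro α β hab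
    have ha : α (f (u 1)) = β (f (u 1)) := congrArg Prod.fst hab
    have hb : α (f (w 1)) = β (f (w 1)) := congrArg Prod.snd hab
    have h3 : (α.toMonoidHom.comp f).eqLocus (β.toMonoidHom.comp f) = ⊤ := gen_top13 ha hb
    ext x
    obtain ⟨y, rfl⟩ := hf x
    have h4 : y ∈ (α.toMonoidHom.comp f).eqLocus (β.toMonoidHom.comp f) := by
      rw [h3]
      exact Subgroup.mem_top y
    exact h4
  rw [Nat.card_prod] at h2
  exact h2.trans (Nat.mul_le_mul h1 h1)

theorem neg_one_mem_center : (-1 : Matrix.SpecialLinearGroup (Fin 2) (ZMod 13)) ∈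
    Subgroup.center (Matrix.SpecialLinearGroup (Fin 2) (ZMod 13)) := by
  rw [Subgroup.mem_center_iff]
  intro g
  rw [mul_neg, neg_mul, mul_one, one_mul]

theorem u_not_center : u (1 : ZMod 13) ∉ Subgroup.center (Matrix.SpecialLinearGroup (Fin 2) (ZMod 13)) := by
  intro h
  have h1 := Subgroup.mem_center_iff.1 h (w 1)
  have h3 := congrFun (congrFun (congrArg (fun g : Matrix.SpecialLinearGroup (Fin 2) (ZMod 13) => g.1) h1) 0) 0
  simp only [Matrix.SpecialLinearGroup.coe_mul, u_coe, w_coe] at h3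
  simp [Matrix.mul_apply] at h3

/-- **N3.** -/
theorem thirteen_two {F : Type u} [Field F] [Fintype F] {H P : Subgroup (GL (Fin 3 ⊕ Fin 3) F)} (S : Hyp 3 H P)
    (h2 : (2 : F) = 0) (e : Soc P ≃* Matrix.ProjectiveSpecialLinearGroup (Fin 2) (ZMod 13)) : False := by
  let e' : Matrix.ProjectiveSpecialLinearGroup (Fin 2) (ZMod 13) ≃* P := ((socEquiv h2 S).trans e).symm
  let f : Matrix.SpecialLinearGroup (Fin 2) (ZMod 13) →* P :=
    e'.toMonoidHom.comp (QuotientGroup.mk' (Subgroup.center (Matrix.SpecialLinearGroup (Fin 2) (ZMod 13))))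
  have hf : Function.Surjective f := e'.surjective.comp (QuotientGroup.mk'_surjective _)
  have hker : ∀ g, f g = 1 → g ∈ Subgroup.center (Matrix.SpecialLinearGroup (Fin 2) (ZMod 13)) := by
    intro g hg
    have h1 : e' (QuotientGroup.mk' (Subgroup.center (Matrix.SpecialLinearGroup (Fin 2) (ZMod 13))) g) = 1 := hg
    rw [MulEquiv.map_eq_one_iff] at h1
    exact (QuotientGroup.eq_one_iff g).1 h1
  have hcen : f (-1) = 1 := by
    change e' (QuotientGroup.mk' (Subgroup.center (Matrix.SpecialLinearGroup (Fin 2) (ZMod 13))) (-1)) = 1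
    rw [MulEquiv.map_eq_one_iff]
    exact (QuotientGroup.eq_one_iff _).2 neg_one_mem_center
  have hu : f (u 1) ≠ 1 := fun h => u_not_center (hker _ h)
  have hord : orderOf (f (u 1)) = 13 := by
    apply orderOf_eq_prime _ hu
    rw [← map_pow, ← u_eq_pow13]
    have : ((13 : ℕ) : ZMod 13) = 0 := by decide
    rw [this, u_zero, map_one]
  -- the field is not F_2
  have h4 : 4 ≤ Fintype.card F := by
    have hch : CharP F 2 := (CharTwo.of_one_ne_zero_of_two_eq_zero one_ne_zero h2)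
    obtain ⟨n, -, hn⟩ := FiniteField.card F 2
    rcases Nat.lt_or_ge (n : ℕ) 2 with h | h
    · exfalso
      have hn1 : (n : ℕ) = 1 := by
        have := n.pos
        omega
      rw [hn1, pow_one] at hn
      have h5 : 13 ∣ Nat.card (spGL 3 F) := by
        have h6 : 13 ∣ Nat.card P := by
          rw [← hord]
          exact orderOf_dvd_natCard _
        exact h6.trans (Subgroup.card_dvd_of_le S.P_le)
      rw [card_sp6', hn] at h5
      revert h5
      decide
    · rw [hn]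
      calc 4 = 2 ^ 2 := rfl
        _ ≤ 2 ^ (n : ℕ) := Nat.pow_le_pow_right (by norm_num) h
  -- the fixed line
  let k := AlgebraicClosure F
  have h2k : (2 : k) = 0 := by
    have := congrArg (algebraMap F k) h2
    rwa [map_ofNat, map_zero] at this
  let ρ : Matrix.SpecialLinearGroup (Fin 2) (ZMod 13) →* GL (Fin 3 ⊕ Fin 3) k :=
    (Matrix.GeneralLinearGroup.map (algebraMap F k)).comp (P.subtype.comp f)
  have hρ : ∀ g, (ρ g : Matrix (Fin 3 ⊕ Fin 3) (Fin 3 ⊕ Fin 3) k) =
      ((f g : GL (Fin 3 ⊕ Fin 3) F) : Matrix (Fin 3 ⊕ Fin 3) (Fin 3 ⊕ Fin 3) F).map (algebraMap F k) := fun _ => rfl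
  have hsp : ∀ g, ρ g ∈ spGL 3 k := fun g => mem_of_sy (by
    rw [hρ]
    exact (sy_of_mem (S.P_le (f g).2)).map _)
  obtain ⟨n, hn⟩ := exists_fix1 h2k ρ hsp (by
    change Matrix.GeneralLinearGroup.map (algebraMap F k) (f (-1) : GL (Fin 3 ⊕ Fin 3) F) = 1
    rw [hcen, OneMemClass.coe_one, map_one]) (by
    intro h
    apply hu
    apply Subtype.ext
    apply Units.ext
    have h5 : ((ρ (u 1) : GL (Fin 3 ⊕ Fin 3) k) : Matrix (Fin 3 ⊕ Fin 3) (Fin 3 ⊕ Fin 3) k) = 1 := by
      rw [h, Units.val_one]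
    rw [hρ] at h5
    apply Matrix.map_injective (algebraMap F k).injective
    refine h5.trans ?_
    ext i j
    change (1 : Matrix (Fin 3 ⊕ Fin 3) (Fin 3 ⊕ Fin 3) k) i j =
      algebraMap F k ((1 : Matrix (Fin 3 ⊕ Fin 3) (Fin 3 ⊕ Fin 3) F) i j)
    rw [Matrix.one_apply, Matrix.one_apply]
    split_ifs
    · rw [map_one]
    · rw [map_zero])
  obtain ⟨m, hm⟩ := Fix1.exists f hf hρ hn
  -- an element `c ≠ c⁻¹`
  obtain ⟨c, hc⟩ : ∃ c : Fˣ, c ≠ c⁻¹ := by
    classical
    have h6 : 1 < Fintype.card Fˣ := by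
      rw [Fintype.card_units]
      omega
    obtain ⟨c, hc⟩ := Fintype.exists_ne_of_one_lt_card h6 1
    refine ⟨c, fun h => hc ?_⟩
    apply Units.ext
    rw [Units.val_one]
    have h7 : (c : F) * c = 1 := by
      rw [← Units.val_mul, eq_inv_iff_mul_eq_one.1 h, Units.val_one]
    have h8 : ((c : F) - 1) ^ 2 = 0 := by
      linear_combination h7 + (1 - (c : F)) * h2
    exact sub_eq_zero.1 (pow_eq_zero_iff two_ne_zero |>.1 h8)
  refine false_of_line h2 S hm hc (B := 2184 * 2184) ?_ (num_bound h4 (by norm_num))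
  exact (card_H_le' h2 S e).trans (card_mulAut
    (QuotientGroup.mk' (Subgroup.center (Matrix.SpecialLinearGroup (Fin 2) (ZMod 13)))) (QuotientGroup.mk'_surjective _))

end Cfsg.Agent.H914.S6.Spin.L
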