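import Cfsg.Agent.H914.SixRow
import Cfsg.Agent.H914.SixThirteen
import Cfsg.Agent.H464.L2Num
import Cfsg.Agent.H830.Sl2Type
import Cfsg.Agent.H156.SN.Main

/-!
# The rows `PSL₂(7)`, `PSL₂(11)`, `PSL₂(13)` of `Sp₆` (helper914)
-/

set_option autoImplicit false
set_option linter.unusedSectionVars false
set_option maxHeartbeats 400000

namespace Cfsg.Agent.H914.S6

open Matrix Cfsg Cfsg.Geo Cfsg.Agent.H915.LD
open scoped MatrixGroups

universe u v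

section l2

variable {F : Type u} [Field F] [Fintype F] {H P : Subgroup (GL (Fin 3 ⊕ Fin 3) F)}

theorem card_six : Fintype.card (Fin 3 ⊕ Fin 3) = 6 := rfl

/-- the row `PSL₂(7)` -/
theorem row_l27 (S : Hyp 3 H P) (p : ℕ) [hp : Fact p.Prime] [CharP F p] (hp7 : p ≠ 7) {K : Type v} [Field K]
    [Fintype K] (hK : Fintype.card K = 7) (e : Soc P ≃* Matrix.ProjectiveSpecialLinearGroup (Fin 2) K) :
    (Fintype.card F = p ∧ p ≠ 7 ∧ (p % 16 = 1 ∨ p % 16 = 15 ∨ p % 16 = 7 ∨ p % 16 = 9)) ∨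
      (Fintype.card F = p ^ 2 ∧ p ≠ 3 ∧ (p % 16 = 3 ∨ p % 16 = 13 ∨ p % 16 = 5 ∨ p % 16 = 11)) := by
  obtain ⟨h2, h | ⟨-, h, h'⟩ | ⟨-, h, h'⟩⟩ := H464.Sl2.l2_7_6 p S.toCore hK hp7 e card_six
  · exfalso
    have hpK : ¬ p ∣ Fintype.card K := by
      rw [hK]
      intro h3
      exact hp7 ((Nat.prime_dvd_prime_iff_eq hp.out (by norm_num)).1 h3)
    exact S.noQ (H830.Sl2Form.l2_fixQ p h2 S.toCore (by omega) (by omega) hpK e h.1 S.sd).1
  · exact Or.inl ⟨h, hp7, by omega⟩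
  · right
    refine ⟨h, ?_, by omega⟩
    rintro rfl
    have : Fact (Nat.Prime 7) := ⟨by norm_num⟩
    obtain ⟨f⟩ := psl_zmod hK 2
    exact H156.SNT.seven_nine S ⟨e.trans f⟩ (by rw [h]; norm_num)

theorem Row6.l27 (S : Hyp 3 H P) (p : ℕ) [hp : Fact p.Prime] [CharP F p] (hp7 : p ≠ 7) {K : Type v} [Field K]
    [Fintype K] (hK : Fintype.card K = 7) (e : Nonempty (Soc P ≃* Matrix.ProjectiveSpecialLinearGroup (Fin 2) K)) :
    Row6 p F (Soc P) := by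
  obtain ⟨e⟩ := e
  have : Fact (Nat.Prime 7) := ⟨by norm_num⟩
  obtain ⟨f⟩ := psl_zmod hK 2
  exact Or.inr (Or.inl ⟨⟨e.trans f⟩, row_l27 S p hp7 hK e⟩)

/-- no row `PSL₂(11)` -/
theorem row_l211 (S : Hyp 3 H P) (p : ℕ) [hp : Fact p.Prime] [CharP F p] (hp11 : p ≠ 11) {K : Type v} [Field K]
    [Fintype K] (hK : Fintype.card K = 11) (e : Nonempty (Soc P ≃* Matrix.ProjectiveSpecialLinearGroup (Fin 2) K)) :
    False := by
  obtain ⟨e⟩ := e
  exact (H464.Sl2.l2_11_6 p S.toCore hK hp11 e card_six).2.1 S.sd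

/-- the row `PSL₂(13)` -/
theorem Row6.l213 (S : Hyp 3 H P) (p : ℕ) [hp : Fact p.Prime] [CharP F p] (hp13 : p ≠ 13) {K : Type v} [Field K]
    [Fintype K] (hK : Fintype.card K = 13) (e : Nonempty (Soc P ≃* Matrix.ProjectiveSpecialLinearGroup (Fin 2) K)) :
    Row6 p F (Soc P) := by
  obtain ⟨e⟩ := e
  have : Fact (Nat.Prime 13) := ⟨by norm_num⟩
  obtain ⟨f⟩ := psl_zmod hK 2
  refine Or.inr (Or.inr (Or.inl ⟨⟨e.trans f⟩, ?_⟩))
  obtain ⟨-, -, h | h⟩ := H464.Sl2.l2_13_6 p S.toCore hK hp13 e card_six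
  · exact Or.inl ⟨h.1, by omega⟩
  · refine Or.inr ⟨h.1, ?_, by omega⟩
    rintro rfl
    have h2 : (2 : F) = 0 := by
      have := CharP.cast_eq_zero F 2
      exact_mod_cast this
    exact Spin.L.thirteen_two S h2 (e.trans f)

end l2

end Cfsg.Agent.H914.S6
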