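import Cfsg.Agent.H914.SixRow
import Cfsg.Agent.H659.U3Stage
import Cfsg.Agent.H936.U33Two
import Cfsg.Agent.H476.JTwo.Main
import Cfsg.Agent.H937.T2Fields

/-!
# The row `PSU₃(3)` of `Sp₆` (helper914)
-/

set_option autoImplicit false
set_option linter.unusedSectionVars false
set_option maxHeartbeats 400000

namespace Cfsg.Agent.H914.S6

open Matrix Cfsg Cfsg.Geo Cfsg.Agent.H915.LD
open scoped MatrixGroups

universe u v

section u33

variable {F : Type u} [Field F] [Fintype F] {H P : Subgroup (GL (Fin 3 ⊕ Fin 3) F)}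

/-- the row `PSU₃(3)` -/
theorem Row6.u33 (S : Hyp 3 H P) (p : ℕ) [hp : Fact p.Prime] [CharP F p] (hp3 : p ≠ 3) {K : Type} [Field K]
    [Fintype K] (hK : Fintype.card K = 9) (e : Nonempty (Soc P ≃* Cfsg.PSU 3 K 3)) :
    Row6 p F (Soc P) := by
  have hc6 : Fintype.card (Fin 3 ⊕ Fin 3) = 6 := rfl
  refine Or.inr (Or.inr (Or.inr (Or.inr (Or.inl ⟨⟨K, inferInstance, inferInstance, hK, e⟩, ?_⟩))))
  by_cases hp2 : p = 2
  · subst hp2
    obtain ⟨-, -, hfr⟩ := H936.U33Two.u33_two S.toCore hK e (by omega)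
    exact Or.inl (S.toCore.card_eq 2 hfr)
  · right
    obtain ⟨e'⟩ := e
    obtain ⟨-, h | h⟩ := H659.U3.u33_stage S.toCore p hp2 hp3 (by omega) hK e'
    · have hF := S.toCore.card_eq p h.2.2
      refine ⟨hF, ?_⟩
      have hp2' : p % 2 = 1 := hp.out.eq_two_or_odd.resolve_left hp2
      have hp3' : p % 3 ≠ 0 := fun h =>
        hp3 ((Nat.prime_dvd_prime_iff_eq Nat.prime_three hp.out).1 (Nat.dvd_of_mod_eq_zero h)).symm
      by_contra hcon
      have key : ∀ r < 60, r % 2 = 1 → r % 3 ≠ 0 →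
          ¬ (r = 7 ∨ r = 53 ∨ r = 17 ∨ r = 43 ∨ r % 12 = 1 ∨ r % 12 = 11) →
          (r % 12 = 5 ∨ r % 12 = 7) ∧ (r % 5 = 0 ∨ r % 5 = 1 ∨ r % 5 = 4) := by
        intro r hr h1 h2 h3
        clear hcon
        interval_cases r <;> omega
      have h := key (p % 60) (Nat.mod_lt _ (by norm_num))
      rw [Nat.mod_mod_of_dvd p (by norm_num : 2 ∣ 60), Nat.mod_mod_of_dvd p (by norm_num : 3 ∣ 60),
        Nat.mod_mod_of_dvd p (by norm_num : 12 ∣ 60), Nat.mod_mod_of_dvd p (by norm_num : 5 ∣ 60)] at h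
      obtain ⟨h1, h2⟩ := h hp2' hp3' hcon
      exact H476.JTwo.u33_hall S p hF hK ⟨e'⟩ h1 h2
    · omega

end u33

end Cfsg.Agent.H914.S6
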