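import Mathlib

/-!
# Elementary abelian groups of order eight with all involutions conjugate (helper914)

* `rk_add` : orthogonal idempotents add ranks
* `seven_ranks` : commuting involutions `A, B, C` (char `≠ 2`), the eight multiplicities and the ranks of `(1 - X)/2`
* `two_cubed_rep` : `ρ : G →* End V`, commuting involutions `a, b, c` of `G` with all seven products conjugate and
  `ρ a ≠ 1`: `dim V = ν + 7 m` with `m ≥ 1`; the `(-1)`-space of an involution has dimension `4 m`
-/

set_option autoImplicit false
set_option linter.unusedSectionVars false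
set_option maxHeartbeats 400000

namespace Cfsg.Agent.H914.S6

open Module

variable {F : Type*} [Field F] {V : Type*} [AddCommGroup V] [Module F V] [FiniteDimensional F V]

/-- rank of an endomorphism -/
noncomputable def rk (f : Module.End F V) : ℕ := finrank F (LinearMap.range f)

theorem rk_add {P Q : Module.End F V} (hP : P * P = P) (hQ : Q * Q = Q) (hPQ : P * Q = 0) (hQP : Q * P = 0) :
    rk (P + Q) = rk P + rk Q := by
  have h1 : LinearMap.range (P + Q) = LinearMap.range P ⊔ LinearMap.range Q := by
    apply le_antisymm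
    · rintro _ ⟨x, rfl⟩
      exact Submodule.add_mem_sup ⟨x, rfl⟩ ⟨x, rfl⟩
    · refine sup_le ?_ ?_
      · rintro _ ⟨x, rfl⟩
        refine ⟨P x, ?_⟩
        rw [LinearMap.add_apply, ← Module.End.mul_apply, ← Module.End.mul_apply, hP, hQP]
        simp
      · rintro _ ⟨x, rfl⟩
        refine ⟨Q x, ?_⟩
        rw [LinearMap.add_apply, ← Module.End.mul_apply, ← Module.End.mul_apply, hQ, hPQ]
        simp
  have h2 : LinearMap.range P ⊓ LinearMap.range Q = ⊥ := by
    rw [eq_bot_iff]
    rintro x ⟨⟨y, rfl⟩, ⟨z, hz⟩⟩
    have h3 : P (P y) = P (Q z) := by rw [hz]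
    rw [← Module.End.mul_apply, ← Module.End.mul_apply, hP, hPQ] at h3
    rw [h3]
    simp
  unfold rk
  rw [h1]
  have := Submodule.finrank_sup_add_finrank_inf_eq (LinearMap.range P) (LinearMap.range Q)
  rw [h2, finrank_bot] at this
  omega

theorem rk_conj {A B g g' : Module.End F V} (h : g * g' = 1) (h' : g' * g = 1) (e : B = g * A * g') : rk B = rk A := by
  have key : ∀ {A B g g' : Module.End F V}, g * g' = 1 → g' * g = 1 → B = g * A * g' → rk B ≤ rk A := by
    intro A B g g' h h' e
    unfold rk
    have h1 : LinearMap.range B ≤ (LinearMap.range A).map g := by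
      rintro _ ⟨x, rfl⟩
      exact ⟨A (g' x), ⟨_, rfl⟩, by rw [e]; rfl⟩
    exact (Submodule.finrank_mono h1).trans (Submodule.finrank_map_le _ _)
  refine le_antisymm (key h h' e) (key (g := g') (g' := g) h' h ?_)
  rw [e, mul_assoc, mul_assoc, h', mul_one, ← mul_assoc, h', one_mul]

variable (h2 : (2 : F) ≠ 0)
include h2

/-- the half of `1 + c A` -/
noncomputable def hf (A : Module.End F V) : Module.End F V := (2 : F)⁻¹ • (1 + A)

omit h2 [FiniteDimensional F V] in
theorem hf_comm {A B : Module.End F V} (h : A * B = B * A) : hf A * hf B = hf B * hf A := by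
  unfold hf
  rw [smul_mul_smul_comm, smul_mul_smul_comm]
  congr 1
  rw [mul_add, add_mul, add_mul, mul_add, add_mul, add_mul, h]
  simp only [one_mul, mul_one]
  abel

omit [FiniteDimensional F V] in
theorem hf_mul_self {A : Module.End F V} (h : A * A = 1) : hf A * hf A = hf A := by
  unfold hf
  rw [smul_mul_smul_comm, mul_add, add_mul, add_mul, h, one_mul, mul_one, one_mul]
  have : (1 + A + (A + 1) : Module.End F V) = (2 : F) • (1 + A) := by rw [two_smul]; abel
  rw [this, smul_smul, mul_assoc, inv_mul_cancel₀ h2, mul_one]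

omit h2 [FiniteDimensional F V] in
theorem hf_mul_neg {A : Module.End F V} (h : A * A = 1) : hf A * hf (-A) = 0 := by
  unfold hf
  rw [smul_mul_smul_comm, mul_add, add_mul, add_mul, mul_neg, mul_neg, h, one_mul, mul_one, one_mul]
  have : (1 + A + (-A + -1) : Module.End F V) = 0 := by abel
  rw [this, smul_zero]

omit [FiniteDimensional F V] in
theorem hf_add_neg (A : Module.End F V) : hf A + hf (-A) = 1 := by
  unfold hf
  rw [← smul_add]
  have : (1 + A + (1 + -A) : Module.End F V) = (2 : F) • 1 := by rw [two_smul]; abel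
  rw [this, smul_smul, inv_mul_cancel₀ h2, one_smul]

/-- splitting the rank of `P` by an involution commuting with it -/
theorem rk_split {P A : Module.End F V} (hP : P * P = P) (hA : A * A = 1) (hPA : P * A = A * P) :
    rk P = rk (P * hf A) + rk (P * hf (-A)) := by
  have hc1 : P * hf A = hf A * P := by
    unfold hf
    rw [mul_smul_comm, smul_mul_assoc, mul_add, add_mul, hPA, one_mul, mul_one]
  have hc2 : P * hf (-A) = hf (-A) * P := by
    unfold hf
    rw [mul_smul_comm, smul_mul_assoc, mul_add, add_mul, mul_neg, neg_mul, hPA, one_mul, mul_one]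
  have hA' : (-A) * (-A) = 1 := by rw [neg_mul_neg, hA]
  have e1 : P = P * hf A + P * hf (-A) := by rw [← mul_add, hf_add_neg h2, mul_one]
  conv_lhs => rw [e1]
  apply rk_add
  · calc P * hf A * (P * hf A) = P * (hf A * P) * hf A := by simp only [mul_assoc]
      _ = (P * P) * (hf A * hf A) := by rw [← hc1]; simp only [mul_assoc]
      _ = _ := by rw [hP, hf_mul_self h2 hA]
  · calc P * hf (-A) * (P * hf (-A)) = P * (hf (-A) * P) * hf (-A) := by simp only [mul_assoc]
      _ = (P * P) * (hf (-A) * hf (-A)) := by rw [← hc2]; simp only [mul_assoc]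
      _ = _ := by rw [hP, hf_mul_self h2 hA']
  · calc P * hf A * (P * hf (-A)) = P * (hf A * P) * hf (-A) := by simp only [mul_assoc]
      _ = (P * P) * (hf A * hf (-A)) := by rw [← hc1]; simp only [mul_assoc]
      _ = _ := by rw [hf_mul_neg hA, mul_zero]
  · calc P * hf (-A) * (P * hf A) = P * (hf (-A) * P) * hf A := by simp only [mul_assoc]
      _ = (P * P) * (hf (-A) * hf A) := by rw [← hc2]; simp only [mul_assoc]
      _ = _ := by
        have := hf_mul_neg (A := -A) hA'
        rw [neg_neg] at this
        rw [this, mul_zero]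

/-- sign -/
def sn (b : Bool) (X : Module.End F V) : Module.End F V := if b then -X else X

/-- the projection on a character -/
noncomputable def Yp (A B C : Module.End F V) (a b c : Bool) : Module.End F V := hf (sn a A) * hf (sn b B) * hf (sn c C)

/-- the multiplicity of a character -/
noncomputable def ml (A B C : Module.End F V) (a b c : Bool) : ℕ := rk (Yp A B C a b c)

omit h2 [FiniteDimensional F V] in
theorem sn_comm {X Y : Module.End F V} (b : Bool) (h : X * Y = Y * X) : sn b X * Y = Y * sn b X := by
  cases b
  · exact h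
  · change (-X) * Y = Y * (-X)
    rw [neg_mul, mul_neg, h]

omit h2 [FiniteDimensional F V] in
theorem mul_hf_sn {A : Module.End F V} (hA : A * A = 1) (b : Bool) : A * hf (sn b A) = sn b (hf (sn b A)) := by
  cases b
  · change A * hf A = hf A
    unfold hf
    rw [mul_smul_comm, mul_add, hA, mul_one, add_comm]
  · change A * hf (-A) = -hf (-A)
    unfold hf
    rw [mul_smul_comm, mul_add, mul_neg, hA, mul_one, ← smul_neg]
    congr 1
    abel

omit h2 [FiniteDimensional F V] in
theorem hf_comm' {X Y : Module.End F V} (h : X * Y = Y * X) : X * hf Y = hf Y * X := by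
  unfold hf
  rw [smul_mul_assoc, mul_smul_comm, add_mul, mul_add, h, one_mul, mul_one]

omit h2 [FiniteDimensional F V] in
theorem sn_mul (b : Bool) (X Y : Module.End F V) : sn b X * Y = sn b (X * Y) := by
  cases b
  · rfl
  · exact neg_mul _ _

omit h2 [FiniteDimensional F V] in
theorem mul_sn (b : Bool) (X Y : Module.End F V) : X * sn b Y = sn b (X * Y) := by
  cases b
  · rfl
  · exact mul_neg _ _

section com

variable {A B C : Module.End F V} (hA : A * A = 1) (hB : B * B = 1) (hC : C * C = 1)
    (hAB : A * B = B * A) (hAC : A * C = C * A) (hBC : B * C = C * B)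

include hA in
omit h2 [FiniteDimensional F V] in
theorem A_Yp (a b c : Bool) : A * Yp A B C a b c = sn a (Yp A B C a b c) := by
  unfold Yp
  rw [← mul_assoc, ← mul_assoc, mul_hf_sn hA, sn_mul, sn_mul]

include hB hAB in
omit h2 [FiniteDimensional F V] in
theorem B_Yp (a b c : Bool) : B * Yp A B C a b c = sn b (Yp A B C a b c) := by
  unfold Yp
  rw [← mul_assoc, ← mul_assoc, hf_comm' (sn_comm a hAB).symm, mul_assoc _ B, mul_hf_sn hB, mul_sn, sn_mul]

include hC hAC hBC in
omit h2 [FiniteDimensional F V] in
theorem C_Yp (a b c : Bool) : C * Yp A B C a b c = sn c (Yp A B C a b c) := by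
  unfold Yp
  rw [← mul_assoc, ← mul_assoc, hf_comm' (sn_comm a hAC).symm, mul_assoc _ C, hf_comm' (sn_comm b hBC).symm,
    ← mul_assoc, mul_assoc _ C, mul_hf_sn hC, mul_sn]

omit [FiniteDimensional F V] in
theorem hf_neg_Y {X Y : Module.End F V} (b : Bool) (h : X * Y = sn b Y) : hf (-X) * Y = if b then Y else 0 := by
  unfold hf
  rw [smul_mul_assoc, add_mul, one_mul, neg_mul, h]
  cases b
  · simp [sn]
  · simp only [sn, if_true, neg_neg]
    rw [← two_smul F Y, smul_smul, inv_mul_cancel₀ h2, one_smul]

include hA hB hC hAB hAC hBC in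
theorem split3 {P : Module.End F V} (hP : P * P = P) (hPA : P * A = A * P) (hPB : P * B = B * P)
    (hPC : P * C = C * P) :
      rk P = rk (P * Yp A B C false false false) + rk (P * Yp A B C false false true) +
        rk (P * Yp A B C false true false) + rk (P * Yp A B C false true true) +
        (rk (P * Yp A B C true false false) + rk (P * Yp A B C true false true) +
        rk (P * Yp A B C true true false) + rk (P * Yp A B C true true true)) := by
  have hnn : ∀ {X : Module.End F V}, X * X = 1 → (-X) * (-X) = 1 := fun h => by rw [neg_mul_neg, h]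
  have hcomm : ∀ {X Y : Module.End F V}, X * Y = Y * X → hf X * Y = Y * hf X := by
    intro X Y h
    unfold hf
    rw [smul_mul_assoc, mul_smul_comm, add_mul, mul_add, h, one_mul, mul_one]
  have idem : ∀ {P X : Module.End F V}, P * P = P → X * X = 1 → P * X = X * P → (P * hf X) * (P * hf X) = P * hf X := by
    intro P X hP hX hPX
    have hc : P * hf X = hf X * P := by
      unfold hf
      rw [mul_smul_comm, smul_mul_assoc, mul_add, add_mul, hPX, one_mul, mul_one]
    calc P * hf X * (P * hf X) = P * (hf X * P) * hf X := by simp only [mul_assoc]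
      _ = (P * P) * (hf X * hf X) := by rw [← hc]; simp only [mul_assoc]
      _ = _ := by rw [hP, hf_mul_self h2 hX]
  have com : ∀ {P X Y : Module.End F V}, P * Y = Y * P → X * Y = Y * X → (P * hf X) * Y = Y * (P * hf X) := by
    intro P X Y h h'
    rw [mul_assoc, hcomm h', ← mul_assoc, h, mul_assoc]
  have ncomm : ∀ {X Y : Module.End F V}, X * Y = Y * X → (-X) * Y = Y * (-X) := fun h => by rw [neg_mul, mul_neg, h]
  have ncomm' : ∀ {X Y : Module.End F V}, X * Y = Y * X → X * (-Y) = (-Y) * X := fun h => by rw [neg_mul, mul_neg, h]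
  rw [rk_split h2 hP hA hPA]
  rw [rk_split h2 (idem hP hA hPA) hB (com hPB hAB),
    rk_split h2 (idem hP (hnn hA) (ncomm' hPA)) hB (com hPB (ncomm hAB))]
  rw [rk_split h2 (idem (idem hP hA hPA) hB (com hPB hAB)) hC (com (com hPC hAC) hBC),
    rk_split h2 (idem (idem hP hA hPA) (hnn hB) (ncomm' (com hPB hAB))) hC (com (com hPC hAC) (ncomm hBC)),
    rk_split h2 (idem (idem hP (hnn hA) (ncomm' hPA)) hB (com hPB (ncomm hAB))) hC (com (com hPC (ncomm hAC)) hBC),
    rk_split h2 (idem (idem hP (hnn hA) (ncomm' hPA)) (hnn hB) (ncomm' (com hPB (ncomm hAB)))) hC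
      (com (com hPC (ncomm hAC)) (ncomm hBC))]
  have e : ∀ x y z : Module.End F V, P * x * y * z = P * (x * y * z) := fun x y z => by simp only [mul_assoc]
  simp only [e]
  simp only [Yp, sn, if_true]
  simp only [Bool.false_eq_true, if_false]
  ring

omit h2 [FiniteDimensional F V] in
theorem hf_idem_neg {X : Module.End F V} (hX : X * X = 1) (h2 : (2 : F) ≠ 0) : hf (-X) * hf (-X) = hf (-X) :=
  hf_mul_self h2 (by rw [neg_mul_neg, hX])

include hA hB hC hAB hAC hBC in
/-- the ranks of the `(-1)`-projections -/
theorem seven_ranks :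
    finrank F V = ml A B C false false false + ml A B C false false true + ml A B C false true false +
      ml A B C false true true + (ml A B C true false false + ml A B C true false true + ml A B C true true false +
      ml A B C true true true) ∧
    rk (hf (-A)) = ml A B C true false false + ml A B C true false true + ml A B C true true false + ml A B C true true true ∧
    rk (hf (-B)) = ml A B C false true false + ml A B C false true true + ml A B C true true false + ml A B C true true true ∧
    rk (hf (-C)) = ml A B C false false true + ml A B C false true true + ml A B C true false true + ml A B C true true true ∧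
    rk (hf (-(A * B))) = ml A B C false true false + ml A B C false true true + ml A B C true false false + ml A B C true false true ∧
    rk (hf (-(A * C))) = ml A B C false false true + ml A B C false true true + ml A B C true false false + ml A B C true true false ∧
    rk (hf (-(B * C))) = ml A B C false false true + ml A B C false true false + ml A B C true false true + ml A B C true true false ∧
    rk (hf (-(A * B * C))) = ml A B C false false true + ml A B C false true false + ml A B C true false false +
      ml A B C true true true := by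
  have hone : rk (1 : Module.End F V) = finrank F V := by
    unfold rk
    have : LinearMap.range (1 : Module.End F V) = ⊤ := LinearMap.range_id
    rw [this, finrank_top]
  have hzero : rk (0 : Module.End F V) = 0 := by
    unfold rk
    have : LinearMap.range (0 : Module.End F V) = ⊥ := LinearMap.range_zero
    rw [this, finrank_bot]
  have yA := A_Yp (B := B) (C := C) hA
  have yB := B_Yp (C := C) hB hAB
  have yC := C_Yp hC hAC hBC
  have go : ∀ {X : Module.End F V}, X * X = 1 → X * A = A * X → X * B = B * X → X * C = C * X →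
      ∀ s : Bool → Bool → Bool → Bool, (∀ a b c, X * Yp A B C a b c = sn (s a b c) (Yp A B C a b c)) →
      rk (hf (-X)) = (if s false false false then ml A B C false false false else 0) +
        (if s false false true then ml A B C false false true else 0) +
        (if s false true false then ml A B C false true false else 0) +
        (if s false true true then ml A B C false true true else 0) +
        ((if s true false false then ml A B C true false false else 0) +
        (if s true false true then ml A B C true false true else 0) +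
        (if s true true false then ml A B C true true false else 0) +
        (if s true true true then ml A B C true true true else 0)) := by
    intro X hX hXA hXB hXC s hs
    have nc : ∀ {Y : Module.End F V}, X * Y = Y * X → hf (-X) * Y = Y * hf (-X) := by
      intro Y h
      refine (hf_comm' ?_).symm
      rw [mul_neg, neg_mul, h]
    rw [split3 h2 hA hB hC hAB hAC hBC (hf_idem_neg hX h2) (nc hXA) (nc hXB) (nc hXC)]
    have key : ∀ a b c, rk (hf (-X) * Yp A B C a b c) = if s a b c then ml A B C a b c else 0 := by
      intro a b c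
      rw [hf_neg_Y h2 _ (hs a b c)]
      split_ifs
      · rfl
      · exact hzero
    simp only [key]
  have snn : ∀ (a b : Bool) (X : Module.End F V), sn a (sn b X) = sn (xor a b) X := by
    intro a b X
    cases a <;> cases b <;> simp [sn]
  have hAB' : A * B * (A * B) = 1 := by
    rw [mul_assoc, ← mul_assoc B, ← hAB, mul_assoc A B, hB, mul_one, hA]
  have hAC' : A * C * (A * C) = 1 := by
    rw [mul_assoc, ← mul_assoc C, ← hAC, mul_assoc A C, hC, mul_one, hA]
  have hBC' : B * C * (B * C) = 1 := by
    rw [mul_assoc, ← mul_assoc C, ← hBC, mul_assoc B C, hC, mul_one, hB]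
  have cAB_A : A * B * A = A * (A * B) := by rw [mul_assoc, ← hAB]
  have cAB_B : A * B * B = B * (A * B) := by rw [← mul_assoc B, ← hAB]
  have cAB_C : A * B * C = C * (A * B) := by rw [mul_assoc, hBC, ← mul_assoc, hAC, mul_assoc]
  have cAC_A : A * C * A = A * (A * C) := by rw [mul_assoc, ← hAC]
  have cAC_B : A * C * B = B * (A * C) := by rw [mul_assoc, ← hBC, ← mul_assoc, hAB, mul_assoc]
  have cAC_C : A * C * C = C * (A * C) := by rw [← mul_assoc C, ← hAC]
  have cBC_A : B * C * A = A * (B * C) := by rw [mul_assoc, ← hAC, ← mul_assoc, ← hAB, mul_assoc]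
  have cBC_B : B * C * B = B * (B * C) := by rw [mul_assoc, ← hBC]
  have cBC_C : B * C * C = C * (B * C) := by rw [← mul_assoc C, ← hBC]
  have hABC' : A * B * C * (A * B * C) = 1 := by
    calc A * B * C * (A * B * C) = A * B * (C * (A * B)) * C := by simp only [mul_assoc]
      _ = A * B * (A * B * C) * C := by rw [cAB_C]
      _ = (A * B * (A * B)) * (C * C) := by simp only [mul_assoc]
      _ = _ := by rw [hAB', hC, mul_one]
  refine ⟨?_, ?_, ?_, ?_, ?_, ?_, ?_, ?_⟩
  · have := split3 h2 hA hB hC hAB hAC hBC (P := 1) (mul_one 1) (by rw [one_mul, mul_one]) (by rw [one_mul, mul_one])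
      (by rw [one_mul, mul_one])
    simp only [one_mul] at this
    rw [← hone]
    exact this
  · rw [go hA rfl hAB hAC (fun a _ _ => a) (fun a b c => yA a b c)]
    simp
  · rw [go hB hAB.symm rfl hBC (fun _ b _ => b) (fun a b c => yB a b c)]
    simp
    ring
  · rw [go hC hAC.symm hBC.symm rfl (fun _ _ c => c) (fun a b c => yC a b c)]
    simp
    ring
  · rw [go hAB' cAB_A cAB_B cAB_C (fun a b _ => xor a b) (fun a b c => by
      rw [mul_assoc, yB, mul_sn, yA, snn, Bool.xor_comm])]
    simp
    try ring
  · rw [go hAC' cAC_A cAC_B cAC_C (fun a _ c => xor a c) (fun a b c => by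
      rw [mul_assoc, yC, mul_sn, yA, snn, Bool.xor_comm])]
    simp
    try ring
  · rw [go hBC' cBC_A cBC_B cBC_C (fun _ b c => xor b c) (fun a b c => by
      rw [mul_assoc, yC, mul_sn, yB, snn, Bool.xor_comm])]
    simp
    try ring
  · rw [go hABC' (by rw [mul_assoc (A * B), ← hAC, ← mul_assoc, cAB_A, mul_assoc, mul_assoc])
      (by rw [mul_assoc (A * B), ← hBC, ← mul_assoc, cAB_B, mul_assoc])
      (by rw [← mul_assoc C, ← cAB_C]) (fun a b c => xor (xor a b) c) (fun a b c => by
      rw [mul_assoc, yC, mul_sn, mul_assoc, yB, mul_sn, yA, snn, snn]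
      congr 1
      cases a <;> cases b <;> cases c <;> rfl)]
    simp
    try ring

end com

/-- **`2³` with all involutions conjugate**: `dim V = ν + 7 m`, `m ≥ 1`; the `(-1)`-space of an involution has
dimension `4 m` -/
theorem two_cubed_rep {G : Type*} [Group G] (ρ : G →* Module.End F V) {a b c : G} (ha : a * a = 1) (hb : b * b = 1)
    (hc : c * c = 1) (hab : a * b = b * a) (hac : a * c = c * a) (hbc : b * c = c * b) (h1 : IsConj a b)
    (h2' : IsConj a c) (h3 : IsConj a (a * b)) (h4 : IsConj a (a * c)) (h5 : IsConj a (b * c))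
    (h6 : IsConj a (a * b * c)) (hne : ρ a ≠ 1) :
    ∃ m ν : ℕ, 1 ≤ m ∧ finrank F V = ν + 7 * m ∧ rk (hf (-ρ a)) = 4 * m := by
  have hcon : ∀ {x : G}, IsConj a x → rk (hf (-ρ x)) = rk (hf (-ρ a)) := by
    intro x hx
    obtain ⟨g, hg⟩ := isConj_iff.1 hx
    have hg1 : ρ g * ρ g⁻¹ = 1 := by rw [← map_mul, mul_inv_cancel, map_one]
    have hg2 : ρ g⁻¹ * ρ g = 1 := by rw [← map_mul, inv_mul_cancel, map_one]
    refine rk_conj hg1 hg2 ?_
    rw [← hg, map_mul, map_mul]
    unfold hf
    rw [mul_smul_comm, smul_mul_assoc, mul_add, add_mul, mul_one, hg1, mul_neg, neg_mul]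
  have hm : ∀ x y : G, ρ (x * y) = ρ x * ρ y := fun x y => map_mul ρ x y
  have sq : ∀ {x : G}, x * x = 1 → ρ x * ρ x = 1 := fun h => by rw [← map_mul, h, map_one]
  have cm : ∀ {x y : G}, x * y = y * x → ρ x * ρ y = ρ y * ρ x := fun h => by rw [← map_mul, h, map_mul]
  obtain ⟨e0, e1, e2, e3, e4, e5, e6, e7⟩ := seven_ranks h2 (sq ha) (sq hb) (sq hc) (cm hab) (cm hac) (cm hbc)
  have c1 := hcon h1
  have c2 := hcon h2'
  have c3 := hcon h3
  have c4 := hcon h4
  have c5 := hcon h5
  have c6 := hcon h6
  rw [hm] at c3 c4 c5
  rw [hm, hm] at c6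
  have hpos : rk (hf (-ρ a)) ≠ 0 := by
    intro h0
    unfold rk at h0
    rw [Submodule.finrank_eq_zero, LinearMap.range_eq_bot] at h0
    apply hne
    unfold hf at h0
    rcases smul_eq_zero.1 h0 with h | h
    · exact absurd h (inv_ne_zero h2)
    · rw [← sub_eq_add_neg, sub_eq_zero] at h
      exact h.symm
  refine ⟨ml (ρ a) (ρ b) (ρ c) true false false, ml (ρ a) (ρ b) (ρ c) false false false, ?_, ?_, ?_⟩ <;> omega

omit V [AddCommGroup V] [Module F V] [FiniteDimensional F V] in
/-- the same for a linear group -/
theorem two_cubed_gl {ι : Type*} [Fintype ι] [DecidableEq ι] {G : Type*} [Group G]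
    (ρ : G →* Matrix.GeneralLinearGroup ι F) {a b c : G} (ha : a * a = 1) (hb : b * b = 1)
    (hc : c * c = 1) (hab : a * b = b * a) (hac : a * c = c * a) (hbc : b * c = c * b) (h1 : IsConj a b)
    (h2' : IsConj a c) (h3 : IsConj a (a * b)) (h4 : IsConj a (a * c)) (h5 : IsConj a (b * c))
    (h6 : IsConj a (a * b * c)) (hne : ρ a ≠ 1) : ∃ m ν : ℕ, 1 ≤ m ∧ Fintype.card ι = ν + 7 * m := by
  let R : G →* Module.End F (ι → F) :=
    (Matrix.toLinAlgEquiv' : Matrix ι ι F ≃ₐ[F] _).toAlgHom.toRingHom.toMonoidHom.comp ((Units.coeHom _).comp ρ)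
  obtain ⟨m, ν, h7, h8, -⟩ := two_cubed_rep h2 R ha hb hc hab hac hbc h1 h2' h3 h4 h5 h6 (by
    intro h
    apply hne
    apply Units.ext
    have h9 : Matrix.toLin' ((ρ a : Matrix.GeneralLinearGroup ι F) : Matrix ι ι F) = LinearMap.id := h
    rw [← Matrix.toLin'_one] at h9
    exact Matrix.toLin'.injective h9)
  refine ⟨m, ν, h7, ?_⟩
  rw [Module.finrank_fintype_fun_eq_card] at h8
  exact h8

end Cfsg.Agent.H914.S6
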