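import Cfsg.Agent.H914.SixRA
import Cfsg.Agent.H914.SixRB
import Cfsg.Agent.H914.SixRC
import Cfsg.Agent.H914.SixKA
import Cfsg.Agent.H914.SixKB
import Cfsg.Agent.H914.SixKC
import Cfsg.Agent.H914.SixKG
import Cfsg.Agent.H914.SixJTwo
import Cfsg.Agent.H936.SixA7
import Cfsg.Agent.H793.TD.Main
import Cfsg.Agent.H936.List12c
import Cfsg.Agent.H875.PslRows
import Cfsg.Agent.S0256

/-!
# The cross characteristic rows of `Sp₆` (helper914)
-/

set_option autoImplicit false
set_option linter.unusedSectionVars false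
set_option maxHeartbeats 400000

namespace Cfsg.Agent.H914.S6

open Matrix Cfsg Cfsg.Geo Cfsg.Agent.H915.LD
open scoped MatrixGroups

universe u v w

section cross

variable {F : Type u} [Field F] [Fintype F] {H P : Subgroup (GL (Fin 3 ⊕ Fin 3) F)}

theorem two_ne (p : ℕ) [hp : Fact p.Prime] [CharP F p] (h2 : p ≠ 2) : (2 : F) ≠ 0 := by
  intro h
  have h1 : ((2 : ℕ) : F) = 0 := by exact_mod_cast h
  exact h2 ((Nat.prime_dvd_prime_iff_eq hp.out Nat.prime_two).1 ((CharP.cast_eq_zero_iff F p 2).1 h1))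

theorem three_ne (p : ℕ) [hp : Fact p.Prime] [CharP F p] (h2 : p ≠ 3) : (3 : F) ≠ 0 := by
  intro h
  have h1 : ((3 : ℕ) : F) = 0 := by exact_mod_cast h
  exact h2 ((Nat.prime_dvd_prime_iff_eq hp.out Nat.prime_three).1 ((CharP.cast_eq_zero_iff F p 3).1 h1))

/-- no row `A₆` -/
theorem kill_a6 (S : Hyp 3 H P) (p : ℕ) [hp : Fact p.Prime] [CharP F p]
    (h : Nonempty (Soc P ≃* alternatingGroup (Fin 6))) : False := by
  have h6 : Fintype.card (Fin 3 ⊕ Fin 3) = 6 := rfl
  obtain ⟨e⟩ := h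
  by_cases hp3 : p = 3
  · subst hp3
    obtain ⟨K, _, _, hK, _, ⟨f⟩⟩ := H937.T2.exists_nine e
    have := (H875.PslRows.sp_six 3 S.max S.core f).2
    omega
  · have := H937.T2.a6_dims p S.toCore e (not_three_dvd S) hp3
    rw [h6] at this
    simp at this

/-- the row `A₇` -/
theorem row_a7 (S : Hyp 3 H P) (p : ℕ) [hp : Fact p.Prime] [CharP F p]
    (h7 : p = 2 → ∀ (_ : Soc P ≃* alternatingGroup (Fin 7)), FixQ P)
    (h : Nonempty (Soc P ≃* alternatingGroup (Fin 7))) : Fintype.card F = 9 := by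
  have h6 : Fintype.card (Fin 3 ⊕ Fin 3) = 6 := rfl
  obtain ⟨e⟩ := h
  by_cases hp2 : p = 2
  · exact (S.noQ (h7 hp2 e)).elim
  · by_cases hZ : (scalars (Fin 3 ⊕ Fin 3) F).subgroupOf P = ⊥
    · exact (H936.SixA7.a7_simple S.toCore (two_ne p hp2) (fixA_hyp S) h6 hZ e).elim
    · exact (H793.TD.a7_double p S.toCore hp2 (fixA_hyp S) h6 hZ e).2

open H936.List12 H912.Bd in
/-- **The cross characteristic rows.** -/
theorem Row6.cross (S : Hyp 3 H P) (p : ℕ) [hp : Fact p.Prime] [CharP F p] (hL : ¬ IsLieTypeChar p (Soc P))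
    (h7 : p = 2 → ∀ (_ : Soc P ≃* alternatingGroup (Fin 7)), FixQ P)
    (hJ : p ≠ 2 → Spor.IsoJ2 (Soc P) → ((Fintype.card F = p ∧ (p % 5 = 0 ∨ p % 5 = 1 ∨ p % 5 = 4)) ∨
      (Fintype.card F = p ^ 2 ∧ (p % 5 = 2 ∨ p % 5 = 3))))
    (hc : CandD p (Fintype.card (Fin 3 ⊕ Fin 3)) (Soc P)) : Row6 p F (Soc P) := by
  have h6 : Fintype.card (Fin 3 ⊕ Fin 3) = 6 := rfl
  rw [h6] at hc
  have hpp := hp.out
  unfold CandD at hc
  rcases hc with h | h | h | ⟨-, h, -⟩ | h
  · -- alternating groups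
    obtain ⟨m, h1, h2, h3, h4, h5, h⟩ := h
    by_cases hm : m = 5
    · subst hm
      exact Row6.a5 S p h
    by_cases hm : m = 6
    · subst hm
      exact (kill_a6 S p h).elim
    by_cases hm : m = 7
    · subst hm
      exact Or.inr (Or.inr (Or.inr (Or.inl ⟨h, row_a7 S p h7 h⟩)))
    have hm8 : 8 ≤ m := by omega
    by_cases h82 : m = 8 ∧ p = 2
    · obtain ⟨rfl, rfl⟩ := h82
      exfalso
      apply hL
      have hz : Fact (Nat.Prime 2) := ⟨Nat.prime_two⟩
      obtain ⟨f⟩ := S0256.result (F := ZMod 2) (ZMod.card 2)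
      obtain ⟨e⟩ := h
      exact lie_of_isL Nat.prime_two (q := 2) (m := 4) (dvd_refl 2) (by norm_num) (by norm_num)
        ⟨ZMod 2, inferInstance, inferInstance, ZMod.card 2, ⟨e.trans f.symm⟩⟩
    · exact (kill_alt S p hm8 h82 h).elim
  · -- classical groups
    unfold LieC at h
    rcases h with ⟨q, h1, h2, h3, K, _, _, hK, h⟩ | ⟨-, h, -⟩ | ⟨h1, -, K, _, _, hK, h⟩ | ⟨-, h, -⟩ |
      ⟨h1, h2, -, K, _, _, hK, h⟩ | ⟨-, h, -⟩ | ⟨-, h, -⟩ | ⟨-, h, -⟩ | ⟨-, h, -⟩
    · simp only [Finset.mem_insert, Finset.mem_singleton] at h1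
      rcases h1 with rfl | rfl | rfl | rfl | rfl | rfl | rfl | rfl
      · exact Row6.l27 S p (by rintro rfl; exact h2 (dvd_refl _)) hK h
      · norm_num at h3
      · exact (row_l211 S p (by rintro rfl; exact h2 (dvd_refl _)) hK h).elim
      · exact Row6.l213 S p (by rintro rfl; exact h2 (dvd_refl _)) hK h
      · norm_num at h3
      · norm_num at h3
      · norm_num at h3
      · norm_num at h3
    · omega
    · exact Row6.u33 S p h1 (by rw [hK]; norm_num) h
    · omega
    · refine (kill_u42 S p ?_ (by rw [hK]; norm_num) h).elim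
      have := hpp.two_le
      have : p ≠ 4 := by rintro rfl; revert hpp; decide
      omega
    · omega
    · omega
    · omega
    · omega
  · -- exceptional multipliers
    unfold MultD at h
    rcases h with ⟨h1, -, h⟩ | ⟨h1, -, K, _, _, hK, h⟩
    · have h20 : (2 : F) ≠ 0 := two_ne p h1
      rcases h with h | ⟨K, _, _, hK, h⟩ | ⟨h3, K, _, _, hK, h⟩ | ⟨K, _, _, hK, h⟩ | ⟨K, _, _, hK, h⟩ |
        ⟨K, _, _, hK, h⟩
      · have h7 : p ≠ 7 := by
          rintro rfl
          exact hL (lie_of_isL hpp (dvd_refl 7) le_rfl (by norm_num) h)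
        obtain ⟨K, _, _, hK, h⟩ := h
        exact Row6.l27 S p h7 hK h
      · exact (kill_l34 S h20 hK h).elim
      · refine (kill_u42 S p ?_ (by rw [hK]; norm_num) h).elim
        have := hpp.two_le
        have : p ≠ 4 := by rintro rfl; revert hpp; decide
        omega
      · exact (kill_s62 S p h20 hK h).elim
      · exact (kill_o82 S p h20 hK h).elim
      · exact (kill_g24 S h20 hK h).elim
    · exact (kill_u43 S (three_ne p h1) (by rw [hK]; norm_num) h).elim
  · omega
  · -- sporadic groups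
    unfold SporC at h
    rcases h with h | h | h | h | h | h | h | h | h
    · exact (kill_m11 S h).elim
    · exact (kill_m12 S h).elim
    · exact (kill_m22 S h).elim
    · exact (kill_m23 S h).elim
    · exact (kill_m24 S h).elim
    · by_cases h11 : p = 11
      · exact (kill_j1_odd S (two_ne p (by omega)) h).elim
      · exact (kill_j1 S p h11 h).elim
    · have hp2 : p ≠ 2 := by
        rintro rfl
        exact Spin.J.jtwo_two S (by exact_mod_cast CharP.cast_eq_zero F 2) h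
      refine Or.inr (Or.inr (Or.inr (Or.inr (Or.inr (Or.inl ⟨h, ?_⟩)))))
      rcases hJ hp2 h with h' | h'
      · exact Or.inl h'
      · exact Or.inr ⟨h'.1, hp2, h'.2⟩
    · exact (kill_j3 S p h).elim
    · exact (kill_suz S p h).elim

end cross

end Cfsg.Agent.H914.S6
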