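import Cfsg.Agent.H914.SixRow
import Cfsg.Agent.H151.Six.Red
import Cfsg.Agent.H151.Six.RankOne
import Cfsg.Agent.H875.PslRows
import Cfsg.Agent.H911.AdForm
import Cfsg.Agent.H911.AdAltIrr
import Cfsg.Agent.H130.U4.Final
import Cfsg.Agent.H991.SzDim.Main

/-!
# Own characteristic rows of `Sp₆`: `PSL₂`, `PSL₃`, `PSL₄`, `PSU₃`, `PSU₄`, `Sz`, Ree (helper914)
-/

set_option autoImplicit false
set_option linter.unusedSectionVars false
set_option maxHeartbeats 400000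

namespace Cfsg.Agent.H914.S6

open Matrix Cfsg Cfsg.Geo Cfsg.Agent.H915.LD
open scoped MatrixGroups

universe u v w

section dc

variable {F : Type u} [Field F] [Fintype F] {H P : Subgroup (GL (Fin 3 ⊕ Fin 3) F)}

theorem dc_psl2 (S : Hyp 3 H P) (p : ℕ) [hp : Fact p.Prime] [CharP F p] {K : Type} [Field K] [Fintype K] [CharP K p]
    (h4 : 4 ≤ Fintype.card K) (h : Nonempty (Soc P ≃* Matrix.ProjectiveSpecialLinearGroup (Fin 2) K)) :
    Nonempty (Soc P ≃* Matrix.ProjectiveSpecialLinearGroup (Fin 2) F) ∧ 7 ≤ p := by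
  obtain ⟨e⟩ := h
  exact H875.PslRows.sp_six p S.max S.core e

theorem dc_psl3 (S : Hyp 3 H P) (p : ℕ) [hp : Fact p.Prime] [CharP F p] {K : Type} [Field K] [Fintype K] [CharP K p]
    (h : Nonempty (Soc P ≃* Matrix.ProjectiveSpecialLinearGroup (Fin 3) K)) : False := by
  have h6 : Fintype.card (Fin 3 ⊕ Fin 3) = 6 := rfl
  obtain ⟨e⟩ := h
  have := (H911.Ad.sd_psl3 p S.toCore S.sd e (by omega)).2.2.1
  omega

theorem dc_psl4 (S : Hyp 3 H P) (p : ℕ) [hp : Fact p.Prime] [CharP F p] {K : Type} [Field K] [Fintype K] [CharP K p]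
    (h : Nonempty (Soc P ≃* Matrix.ProjectiveSpecialLinearGroup (Fin 4) K)) : False := by
  have h6 : Fintype.card (Fin 3 ⊕ Fin 3) = 6 := rfl
  obtain ⟨e⟩ := h
  exact S.noQ (H911.Ad.sd_psl4 p S.toCore S.sd e (by omega)).2.2.1

theorem dc_psu3 (S : Hyp 3 H P) (p : ℕ) [hp : Fact p.Prime] [CharP F p] {K : Type} [Field K] [Fintype K] [CharP K p]
    (hK : Fintype.card K = Fintype.card F ^ 2) (h2 : Fintype.card F ≠ 2)
    (h : Nonempty (Soc P ≃* PSU 3 K (Fintype.card F))) : False := by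
  obtain ⟨e⟩ := h
  exact H151.Six.psu3_not_six p rfl S hK h2 e

theorem dc_psu4 (S : Hyp 3 H P) (p : ℕ) [hp : Fact p.Prime] [CharP F p] {K : Type} [Field K] [Fintype K] [CharP K p]
    {q : ℕ} (hK : Fintype.card K = q ^ 2) (h : Nonempty (Soc P ≃* PSU 4 K q)) : False := by
  obtain ⟨e⟩ := h
  exact S.noQ (H130.U4.u4_six (p := p) S.toCore S.sd hK e rfl)

theorem dc_sz (S : Hyp 3 H P) [CharP F 2] {K : Type} [Field K] [Fintype K] {m : ℕ} (hm : 1 ≤ m)
    (hK : Fintype.card K = 2 ^ (2 * m + 1)) (h : Nonempty (Soc P ≃* Lie.Sz K (2 ^ (m + 1)))) : False := by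
  obtain ⟨e⟩ := h
  exact H991.SzDim.sz_six S.toCore.absIrred S.toCore.perfect hm hK e rfl

theorem dc_ree (S : Hyp 3 H P) [CharP F 3] {K : Type} [Field K] [Fintype K] {m : ℕ} (hm : 1 ≤ m)
    (hK : Fintype.card K = 3 ^ (2 * m + 1)) (hKF : Fintype.card K = Fintype.card F)
    (h : Nonempty (Soc P ≃* Lie.twistedG2 K (3 ^ m))) : False := by
  obtain ⟨e⟩ := h
  exact H151.Six.ree_not_six S hm hK hKF e

end dc

end Cfsg.Agent.H914.S6
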