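import Cfsg.Agent.H914.SixRow
import Cfsg.Agent.H914.SixA5d
import Cfsg.Agent.H937.T2Fields
import Cfsg.Agent.S0253

/-!
# The row `A₅` of `Sp₆` (helper914)
-/

set_option autoImplicit false
set_option linter.unusedSectionVars false
set_option maxHeartbeats 400000

namespace Cfsg.Agent.H914.S6

open Matrix Cfsg Cfsg.Geo Cfsg.Agent.H915.LD
open scoped MatrixGroups

universe u v

section a5

variable {F : Type u} [Field F] [Fintype F] {H P : Subgroup (GL (Fin 3 ⊕ Fin 3) F)}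

/-- the row `A₅` -/
theorem row_a5 (S : Hyp 3 H P) (p : ℕ) [hp : Fact p.Prime] [CharP F p] (e : Soc P ≃* alternatingGroup (Fin 5)) :
    Fintype.card F = p ∧ (p % 40 = 3 ∨ p % 40 = 37 ∨ p % 40 = 13 ∨ p % 40 = 27 ∨ p % 8 = 1 ∨ p % 8 = 7) := by
  obtain ⟨h2, h5, hF, hneg⟩ := H937.T2.sp_six_a5_neg p S.max S.core e
  refine ⟨hF, ?_⟩
  obtain ⟨e5⟩ := S0253.result (F := ZMod 5) (ZMod.card 5)
  by_contra hcon
  have hodd : p % 2 = 1 := hp.out.eq_two_or_odd.resolve_left h2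
  have h5' : p % 5 ≠ 0 := fun h =>
    h5 ((Nat.prime_dvd_prime_iff_eq Nat.prime_five hp.out).1 (Nat.dvd_of_mod_eq_zero h)).symm
  have h8 : p % 8 = 3 ∨ p % 8 = 5 := by omega
  have h51 : p % 5 = 1 ∨ p % 5 = 4 := by omega
  obtain ⟨τ, hτ⟩ := exists_tau (F := F) p h2 h51
  have h7 : 7 ≤ p := by
    have := hp.out.two_le
    omega
  exact a5_false' S p h7 hneg (e.trans e5.symm) (not_sq_two p hF h8) hτ

theorem Row6.a5 (S : Hyp 3 H P) (p : ℕ) [hp : Fact p.Prime] [CharP F p]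
    (e : Nonempty (Soc P ≃* alternatingGroup (Fin 5))) : Row6 p F (Soc P) := by
  obtain ⟨e⟩ := e
  exact Or.inl ⟨⟨e⟩, row_a5 S p e⟩

end a5

end Cfsg.Agent.H914.S6
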