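import Cfsg.Agent.H914.SixBase
import Cfsg.Agent.LieClassical.FieldTransfer
import Cfsg.Prelude.Def_Spor_J2
import Cfsg.Statements.S5806

/-!
# The conclusion of `S5806` in terms of the socle (helper914)

`Row6 p F T`, isomorphism lemmas, residues.
-/

set_option autoImplicit false
set_option linter.unusedSectionVars false
set_option maxHeartbeats 400000

namespace Cfsg.Agent.H914.S6

open Matrix Cfsg Cfsg.Geo Cfsg.Agent.H915.LD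
open scoped MatrixGroups

universe u v

/-- the list of `S5806` -/
def Row6 (p : ℕ) (F : Type u) [Field F] [Fintype F] (T : Type v) [Group T] : Prop :=
  (Nonempty (T ≃* alternatingGroup (Fin 5)) ∧ Fintype.card F = p ∧ (p % 40 = 3 ∨ p % 40 = 37 ∨ p % 40 = 13 ∨ p % 40 = 27 ∨ p % 8 = 1 ∨ p % 8 = 7)) ∨
  (Nonempty (T ≃* Matrix.ProjectiveSpecialLinearGroup (Fin 2) (ZMod 7)) ∧ ((Fintype.card F = p ∧ p ≠ 7 ∧ (p % 16 = 1 ∨ p % 16 = 15 ∨ p % 16 = 7 ∨ p % 16 = 9)) ∨ (Fintype.card F = p ^ 2 ∧ p ≠ 3 ∧ (p % 16 = 3 ∨ p % 16 = 13 ∨ p % 16 = 5 ∨ p % 16 = 11)))) ∨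
  (Nonempty (T ≃* Matrix.ProjectiveSpecialLinearGroup (Fin 2) (ZMod 13)) ∧ ((Fintype.card F = p ∧ (p % 13 = 1 ∨ p % 13 = 12 ∨ p % 13 = 3 ∨ p % 13 = 10 ∨ p % 13 = 4 ∨ p % 13 = 9)) ∨ (Fintype.card F = p ^ 2 ∧ p ≠ 2 ∧ (p % 13 = 2 ∨ p % 13 = 11 ∨ p % 13 = 5 ∨ p % 13 = 8 ∨ p % 13 = 6 ∨ p % 13 = 7)))) ∨
  (Nonempty (T ≃* alternatingGroup (Fin 7)) ∧ Fintype.card F = 9) ∨
  ((∃ (K : Type) (_ : Field K) (_ : Fintype K), Fintype.card K = 9 ∧ Nonempty (T ≃* Cfsg.PSU 3 K 3)) ∧ (Fintype.card F = 2 ∨ (Fintype.card F = p ∧ (p % 60 = 7 ∨ p % 60 = 53 ∨ p % 60 = 17 ∨ p % 60 = 43 ∨ p % 12 = 1 ∨ p % 12 = 11)))) ∨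
  (Cfsg.Spor.IsoJ2 T ∧ ((Fintype.card F = p ∧ (p % 5 = 0 ∨ p % 5 = 1 ∨ p % 5 = 4)) ∨ (Fintype.card F = p ^ 2 ∧ p ≠ 2 ∧ (p % 5 = 2 ∨ p % 5 = 3)))) ∨
  (Nonempty (T ≃* Matrix.ProjectiveSpecialLinearGroup (Fin 2) F) ∧ 7 ≤ p) ∨
  (Nonempty (T ≃* Cfsg.Lie.G2 F) ∧ p = 2 ∧ Fintype.card F ≠ 2)

theorem psl_zmod {r : ℕ} [hr : Fact r.Prime] {K : Type v} [Field K] [Fintype K] (hK : Fintype.card K = r) (m : ℕ) :
    Nonempty (Matrix.ProjectiveSpecialLinearGroup (Fin m) K ≃* Matrix.ProjectiveSpecialLinearGroup (Fin m) (ZMod r)) := by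
  have h : Fintype.card K = Fintype.card (ZMod r) := by rw [hK, ZMod.card]
  exact ⟨LieClassical.FieldTransfer.pslCongr (FiniteField.ringEquivOfCardEq (K := K) (K' := ZMod r) h)⟩

/-- a root of `x² = x + 1` if `p ≡ ±1 (mod 5)` -/
theorem exists_tau {F : Type u} [Field F] (p : ℕ) [hp : Fact p.Prime] [CharP F p] (h2 : p ≠ 2)
    (h5 : p % 5 = 1 ∨ p % 5 = 4) : ∃ τ : F, τ * τ = τ + 1 := by
  have hfive : Fact (Nat.Prime 5) := ⟨Nat.prime_five⟩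
  have h1 : IsSquare ((p : ℕ) : ZMod 5) := by
    have h3 : ((p : ℕ) : ZMod 5) = ((p % 5 : ℕ) : ZMod 5) := (ZMod.natCast_mod p 5).symm
    rw [h3]
    rcases h5 with h | h
    · rw [h]
      exact ⟨1, by norm_num⟩
    · rw [h]
      exact ⟨2, by norm_num⟩
  have h3 : IsSquare ((5 : ℕ) : ZMod p) := (ZMod.exists_sq_eq_prime_iff_of_mod_four_eq_one (by norm_num) h2).1 h1
  obtain ⟨s, hs⟩ := h3
  let f : ZMod p →+* F := ZMod.castHom (dvd_refl p) F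
  have hfs : (f s) * (f s) = 5 := by
    have h4 : f ((5 : ℕ) : ZMod p) = 5 := by rw [map_natCast]; norm_num
    rw [← map_mul, ← hs, h4]
  have h2F : (2 : F) ≠ 0 := by
    intro h
    have h4 : ((2 : ℕ) : F) = 0 := by exact_mod_cast h
    rw [CharP.cast_eq_zero_iff F p] at h4
    exact h2 ((Nat.prime_dvd_prime_iff_eq hp.out Nat.prime_two).1 h4)
  refine ⟨(1 + f s) / 2, ?_⟩
  field_simp
  linear_combination hfs

theorem not_sq_two {F : Type u} [Field F] [Fintype F] (p : ℕ) (hF : Fintype.card F = p) (h8 : p % 8 = 3 ∨ p % 8 = 5) :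
    ¬ IsSquare (2 : F) := by
  rw [FiniteField.isSquare_two_iff, hF]
  omega

end Cfsg.Agent.H914.S6
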