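import Mathlib

/-!
# The fifth symmetric power of the natural representation of `SL₂` (helper914)

* `s5 a b c d` : the `6 × 6` matrix of `[[a, b], [c, d]]` on binary forms of degree five
* `sym5 : SL₂(R) →* GL₆(R)`, `trace_sym5 : tr = t⁵ - 4 t³ + 3 t`
-/

set_option autoImplicit false
set_option linter.unusedSectionVars false

namespace Cfsg.Agent.H914.S6

open Matrix

variable {R : Type*} [CommRing R]

/-- the fifth symmetric power -/
def s5 (a b c d : R) : Matrix (Fin 6) (Fin 6) R :=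
  !![d ^ 5,
      5 * (c * d ^ 4),
      10 * (c ^ 2 * d ^ 3),
      10 * (c ^ 3 * d ^ 2),
      5 * (c ^ 4 * d),
      c ^ 5;
    b * d ^ 4,
      4 * (b * c * d ^ 3) + a * d ^ 4,
      6 * (b * c ^ 2 * d ^ 2) + 4 * (a * c * d ^ 3),
      4 * (b * c ^ 3 * d) + 6 * (a * c ^ 2 * d ^ 2),
      b * c ^ 4 + 4 * (a * c ^ 3 * d),
      a * c ^ 4;
    b ^ 2 * d ^ 3,
      3 * (b ^ 2 * c * d ^ 2) + 2 * (a * b * d ^ 3),
      3 * (b ^ 2 * c ^ 2 * d) + 6 * (a * b * c * d ^ 2) + a ^ 2 * d ^ 3,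
      b ^ 2 * c ^ 3 + 6 * (a * b * c ^ 2 * d) + 3 * (a ^ 2 * c * d ^ 2),
      2 * (a * b * c ^ 3) + 3 * (a ^ 2 * c ^ 2 * d),
      a ^ 2 * c ^ 3;
    b ^ 3 * d ^ 2,
      2 * (b ^ 3 * c * d) + 3 * (a * b ^ 2 * d ^ 2),
      b ^ 3 * c ^ 2 + 6 * (a * b ^ 2 * c * d) + 3 * (a ^ 2 * b * d ^ 2),
      3 * (a * b ^ 2 * c ^ 2) + 6 * (a ^ 2 * b * c * d) + a ^ 3 * d ^ 2,
      3 * (a ^ 2 * b * c ^ 2) + 2 * (a ^ 3 * c * d),
      a ^ 3 * c ^ 2;
    b ^ 4 * d,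
      b ^ 4 * c + 4 * (a * b ^ 3 * d),
      4 * (a * b ^ 3 * c) + 6 * (a ^ 2 * b ^ 2 * d),
      6 * (a ^ 2 * b ^ 2 * c) + 4 * (a ^ 3 * b * d),
      4 * (a ^ 3 * b * c) + a ^ 4 * d,
      a ^ 4 * c;
    b ^ 5,
      5 * (a * b ^ 4),
      10 * (a ^ 2 * b ^ 3),
      10 * (a ^ 3 * b ^ 2),
      5 * (a ^ 4 * b),
      a ^ 5]

/-- the rational normal curve -/
def vv (x y : R) : Fin 6 → R := ![y ^ 5, x * y ^ 4, x ^ 2 * y ^ 3, x ^ 3 * y ^ 2, x ^ 4 * y, x ^ 5]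

theorem s5_vv (a b c d x y : R) : s5 a b c d *ᵥ vv x y = vv (a * x + b * y) (c * x + d * y) := by
  ext j
  fin_cases j <;> simp [s5, vv, Matrix.mulVec, dotProduct, Fin.sum_univ_succ] <;> ring

theorem s5_map {S : Type*} [CommRing S] (f : R →+* S) (a b c d : R) :
    (s5 a b c d).map f = s5 (f a) (f b) (f c) (f d) := by
  ext i j
  fin_cases i <;> fin_cases j <;> simp [s5, map_ofNat]

theorem eq_of_vv {A B : Matrix (Fin 6) (Fin 6) R}
    (h : (A.map (Polynomial.C : R →+* Polynomial R)) *ᵥ vv Polynomial.X 1 =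
      (B.map (Polynomial.C : R →+* Polynomial R)) *ᵥ vv Polynomial.X 1) : A = B := by
  have key : ∀ (M : Matrix (Fin 6) (Fin 6) R) (j i : Fin 6),
      (((M.map (Polynomial.C : R →+* Polynomial R)) *ᵥ vv Polynomial.X 1) j).coeff i = M j i := by
    intro M j i
    have e1 : ((M.map (Polynomial.C : R →+* Polynomial R)) *ᵥ vv Polynomial.X 1) j =
        ∑ k : Fin 6, Polynomial.C (M j k) * Polynomial.X ^ (k : ℕ) := by
      simp [vv, Matrix.mulVec, dotProduct, Fin.sum_univ_succ]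
    rw [e1, Polynomial.finsetSum_coeff]
    simp only [Polynomial.coeff_C_mul, Polynomial.coeff_X_pow, Fin.val_inj]
    simp
  ext j i
  rw [← key A, ← key B, h]

theorem s5_mul (a b c d a' b' c' d' : R) :
    s5 (a * a' + b * c') (a * b' + b * d') (c * a' + d * c') (c * b' + d * d') = s5 a b c d * s5 a' b' c' d' := by
  apply eq_of_vv
  rw [Matrix.map_mul, s5_map, s5_map, s5_map, ← Matrix.mulVec_mulVec, s5_vv, s5_vv, s5_vv]
  congr 1 <;> simp only [map_add, map_mul] <;> ring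

theorem s5_one : s5 (1 : R) 0 0 1 = 1 := by
  ext i j
  fin_cases i <;> fin_cases j <;> simp [s5]

theorem trace_s5 (a b c d : R) : (s5 a b c d).trace =
    (a + d) ^ 5 - 4 * (a + d) ^ 3 * (a * d - b * c) + 3 * (a + d) * (a * d - b * c) ^ 2 := by
  simp [s5, Matrix.trace, Fin.sum_univ_succ]
  ring

/-- the hom to matrices -/
def sym5M : SpecialLinearGroup (Fin 2) R →* Matrix (Fin 6) (Fin 6) R where
  toFun g := s5 (g 0 0) (g 0 1) (g 1 0) (g 1 1)
  map_one' := by simp [s5_one]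
  map_mul' g h := by
    rw [← s5_mul]
    simp [Matrix.mul_apply, Fin.sum_univ_two]

/-- the fifth symmetric power of the natural representation -/
def sym5 : SpecialLinearGroup (Fin 2) R →* GL (Fin 6) R := sym5M.toHomUnits

theorem coe_sym5 (g : SpecialLinearGroup (Fin 2) R) :
    (sym5 g : Matrix (Fin 6) (Fin 6) R) = s5 (g 0 0) (g 0 1) (g 1 0) (g 1 1) := rfl

theorem trace_sym5 (g : SpecialLinearGroup (Fin 2) R) : (sym5 g : Matrix (Fin 6) (Fin 6) R).trace =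
    (g 0 0 + g 1 1) ^ 5 - 4 * (g 0 0 + g 1 1) ^ 3 + 3 * (g 0 0 + g 1 1) := by
  have hd : g 0 0 * g 1 1 - g 0 1 * g 1 0 = 1 := by
    have := g.2
    rwa [Matrix.det_fin_two] at this
  rw [coe_sym5, trace_s5, hd]
  ring

theorem trace_sym5_inv (g : SpecialLinearGroup (Fin 2) R) :
    (sym5 g⁻¹ : Matrix (Fin 6) (Fin 6) R).trace = (sym5 g : Matrix (Fin 6) (Fin 6) R).trace := by
  rw [trace_sym5, trace_sym5]
  have h1 : g⁻¹ 0 0 = g 1 1 := by simp [SpecialLinearGroup.coe_inv, Matrix.adjugate_fin_two]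
  have h2 : g⁻¹ 1 1 = g 0 0 := by simp [SpecialLinearGroup.coe_inv, Matrix.adjugate_fin_two]
  rw [h1, h2, add_comm (g 1 1)]

end Cfsg.Agent.H914.S6
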