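import Cfsg.Agent.S5647

/-!
# Decompositions into non-degenerate subspaces: general dimension (helper914, after helper875)

The proof of `S5647` (helper875) does not use the lower bound on the dimension.
-/

set_option autoImplicit false
open Cfsg

namespace Cfsg.Agent.H914.SpFrames

open Cfsg.Agent.H875 Cfsg.Agent.ClassicalGeometry.SympBasic
  Cfsg.Agent.ClassicalGeometry.SympSiegel Cfsg.Agent.S5647

/-- The stabiliser of a decomposition into pairwise orthogonal non-degenerate subspaces of equal dimension `k` is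
maximal in `Sp_2m(q)`, unless `k = 2` and `q = 2` (any `m`). -/
theorem frame_maximal {F : Type*} [Field F] [Fintype F] (m : ℕ) {t : ℕ} (k : ℕ) (D : Fin t → Submodule F (Fin m ⊕ Fin m → F)) (hD : Cfsg.Geo.IsNondegenerateMDecomposition (Cfsg.sympForm m F) k D) (hex : ¬ (k = 2 ∧ Fintype.card F = 2)) : Cfsg.Geo.IsMaximalIn (Cfsg.spGL m F) (Cfsg.Geo.decompositionStabilizer D ⊓ Cfsg.spGL m F) := by
  classical
  obtain ⟨P, hP⟩ := exists_isProj hD.decomp.indep hD.decomp.iSup_eq_top
  have hne : ∀ l, ∃ w ∈ D l, w ≠ 0 := by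
    intro l
    apply Submodule.exists_mem_ne_zero_of_ne_bot
    intro h
    have h2 := hD.decomp.finrank_eq l
    rw [h, finrank_bot] at h2
    exact absurd h2.symm hD.decomp.pos.ne'
  have hbig : ∀ i, Big (D i) := fun i =>
    big_of (hD.nondegenerate i) (hD.decomp.finrank_eq i) hD.decomp.pos hex
  apply isMaximalIn_of
  · -- properness
    have ht := hD.decomp.two_le
    let i₀ : Fin t := ⟨0, by omega⟩
    let i₁ : Fin t := ⟨1, by omega⟩
    have h01 : i₀ ≠ i₁ := fun h => by
      have := congrArg Fin.val h
      simp [i₀, i₁] at this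
    obtain ⟨x, hx, hx0⟩ := hne i₀
    obtain ⟨y, hy, hy0⟩ := hne i₁
    obtain ⟨⟨z, hz, hzx⟩, -⟩ := hD.nondegenerate i₀ x hx hx0
    refine ⟨transv (x + y) 1, fun hmem => ?_⟩
    obtain ⟨σ, hσ⟩ := smul_mem_of_mem_decompositionStabilizer hmem
    have h1 := hσ i₀ z hz
    have hzy : sympForm m F z y = 0 := hD.orthogonal i₀ i₁ h01 z hz y hy
    rw [transv_smul, one_mul, sympForm_add_right, hzy, add_zero] at h1
    by_cases hs : σ i₀ = i₀
    · rw [hs] at h1
      have h2 := hP.ne i₁ i₀ (Ne.symm h01) _ h1
      rw [map_add, map_smul, map_add, hP.ne i₁ i₀ (Ne.symm h01) _ hz,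
        hP.ne i₁ i₀ (Ne.symm h01) _ hx, hP.same i₁ _ hy, zero_add, zero_add] at h2
      rcases smul_eq_zero.1 h2 with h3 | h3
      · exact hzx h3
      · exact hy0 h3
    · have h2 := hP.ne i₀ (σ i₀) (Ne.symm hs) _ h1
      rw [map_add, map_smul, map_add, hP.same i₀ _ hz, hP.same i₀ _ hx,
        hP.ne i₀ i₁ h01 _ hy, add_zero] at h2
      have h3 := congrArg (fun v => sympForm m F v x) h2
      simp only [sympForm_add_left, sympForm_smul_left, sympForm_self, mul_zero, add_zero,
        sympForm_zero_left] at h3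
      exact hzx h3
  · -- maximality
    intro M hM ⟨g, hgM, hg⟩
    by_contra htop
    apply hg
    -- every image of a block vector has at most one non-zero component
    have hone : ∀ i, ∀ x ∈ D i, ∀ a b, a ≠ b → P a (g • x) ≠ 0 → P b (g • x) = 0 := by
      intro i x hx a b hab ha
      by_contra hb
      apply htop
      refine eq_top_of_two_components hD hP hbig hM (u := g • x) ?_ hab ha hb
      exact Full.smul (fun c => hM (transv_mem_dec hD i hx c)) hgM
    have hblock : ∀ i, ∃ j, ∀ x ∈ D i, g • x ∈ D j := by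
      intro i
      obtain ⟨x₀, hx₀, hx₀0⟩ := hne i
      have hgx₀ : g • x₀ ≠ 0 := smul_ne_zero' g hx₀0
      obtain ⟨j, hj⟩ : ∃ j, P j (g • x₀) ≠ 0 := by
        by_contra hcon
        push Not at hcon
        apply hgx₀
        rw [← hP.sum (g • x₀)]
        exact Finset.sum_eq_zero fun j _ => hcon j
      refine ⟨j, fun x hx => ?_⟩
      have hzero : ∀ l, l ≠ j → P l (g • x) = 0 := by
        intro l hl
        by_contra hl0
        have h1 : P j (g • x) = 0 := hone i x hx l j hl hl0
        have h2 : P l (g • x₀) = 0 := hone i x₀ hx₀ j l (Ne.symm hl) hj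
        have h3 := hone i (x₀ + x) ((D i).add_mem hx₀ hx) j l (Ne.symm hl) (by
          rw [smul_add', map_add, h1, add_zero]; exact hj)
        rw [smul_add', map_add, h2, zero_add] at h3
        exact hl0 h3
      rw [← hP.sum (g • x), Finset.sum_eq_single j]
      · exact hP.mem j _
      · intro l _ hl
        exact hzero l hl
      · intro h; exact absurd (Finset.mem_univ j) h
    choose s hs using hblock
    have hinj : Function.Injective (fun x : Fin m ⊕ Fin m → F => g • x) := fun x y hxy =>
      smul_left_cancel g hxy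
    let L : (Fin m ⊕ Fin m → F) →ₗ[F] (Fin m ⊕ Fin m → F) :=
      Matrix.toLin' ((g : Matrix (Fin m ⊕ Fin m) (Fin m ⊕ Fin m) F))
    have hL : ∀ x, L x = g • x := fun x => rfl
    have hmap : ∀ i, (D i).map L = D (s i) := by
      intro i
      apply Submodule.eq_of_le_of_finrank_eq
      · rintro _ ⟨x, hx, rfl⟩
        exact hs i x hx
      · rw [hD.decomp.finrank_eq (s i), ← hD.decomp.finrank_eq i]
        exact (Submodule.equivMapOfInjective _ hinj (D i)).finrank_eq.symm
    have hsinj : Function.Injective s := by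
      intro i j hij
      by_contra hne'
      have h1 : (D i).map L = (D j).map L := by rw [hmap, hmap, hij]
      obtain ⟨x, hx, hx0⟩ := hne i
      have h2 : L x ∈ (D j).map L := by rw [← h1]; exact ⟨x, hx, rfl⟩
      obtain ⟨y, hy, hyx⟩ := h2
      have h3 : y = x := hinj hyx
      rw [h3] at hy
      have h4 := hP.ne i j hne' x hy
      rw [hP.same i x hx] at h4
      exact hx0 h4
    let σ : Equiv.Perm (Fin t) := Equiv.ofBijective s
      (Finite.injective_iff_bijective.1 hsinj)
    exact mem_decompositionStabilizer_of hD.decomp σ (fun i x hx => hs i x hx)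

end Cfsg.Agent.H914.SpFrames
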