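import Cfsg.Agent.H914.SixBase

/-!
# The 8-dimensional (spin) module of `Sp_6(F)` in characteristic two (helper914)

`d3`, `cauchy_binet` : the determinant of a product of a `3 × 6` and a `6 × 3` matrix
-/

set_option autoImplicit false
set_option linter.unusedSectionVars false
set_option maxHeartbeats 400000

namespace Cfsg.Agent.H914.S6.Spin

universe u

/-- the determinant of three vectors -/
def d3 {R : Type u} [CommRing R] (u v w : Fin 3 → R) : R :=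
  u 0 * (v 1 * w 2 - v 2 * w 1) - v 0 * (u 1 * w 2 - u 2 * w 1) + w 0 * (u 1 * v 2 - u 2 * v 1)

variable {R : Type u} [CommRing R]

theorem det_eq_d3 (A : Matrix (Fin 3) (Fin 3) R) : A.det = d3 (fun r => A r 0) (fun r => A r 1) (fun r => A r 2) := by
  rw [Matrix.det_fin_three]
  unfold d3
  ring

theorem det_eq_d3' (A : Matrix (Fin 3) (Fin 3) R) : A.det = d3 (A 0) (A 1) (A 2) := by
  rw [← Matrix.det_transpose, det_eq_d3]
  rfl

/-- the Cauchy-Binet formula, `3 × 6` -/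
theorem cauchy_binet (p q x y : Fin 3 → Fin 3 → R) :
    d3 (fun r => ∑ i, (p i r * x i 0 + q i r * y i 0)) (fun r => ∑ i, (p i r * x i 1 + q i r * y i 1))
      (fun r => ∑ i, (p i r * x i 2 + q i r * y i 2)) =
    (d3 (p 0) (p 1) (p 2) * d3 (x 0) (x 1) (x 2) + d3 (p 0) (p 1) (q 2) * d3 (x 0) (x 1) (y 2) +
     d3 (p 0) (q 1) (p 2) * d3 (x 0) (y 1) (x 2) + d3 (p 0) (q 1) (q 2) * d3 (x 0) (y 1) (y 2) +
     d3 (q 0) (p 1) (p 2) * d3 (y 0) (x 1) (x 2) + d3 (q 0) (p 1) (q 2) * d3 (y 0) (x 1) (y 2) +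
     d3 (q 0) (q 1) (p 2) * d3 (y 0) (y 1) (x 2) + d3 (q 0) (q 1) (q 2) * d3 (y 0) (y 1) (y 2)) +
    ((d3 (p 0) (q 0) (p 1) * d3 (x 0) (y 0) (x 1) + d3 (p 2) (q 2) (p 1) * d3 (x 2) (y 2) (x 1)) +
     (d3 (p 0) (q 0) (q 1) * d3 (x 0) (y 0) (y 1) + d3 (p 2) (q 2) (q 1) * d3 (x 2) (y 2) (y 1)) +
     (d3 (p 0) (q 0) (p 2) * d3 (x 0) (y 0) (x 2) + d3 (p 1) (q 1) (p 2) * d3 (x 1) (y 1) (x 2)) +
     (d3 (p 0) (q 0) (q 2) * d3 (x 0) (y 0) (y 2) + d3 (p 1) (q 1) (q 2) * d3 (x 1) (y 1) (y 2)) +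
     (d3 (p 1) (q 1) (p 0) * d3 (x 1) (y 1) (x 0) + d3 (p 2) (q 2) (p 0) * d3 (x 2) (y 2) (x 0)) +
     (d3 (p 1) (q 1) (q 0) * d3 (x 1) (y 1) (y 0) + d3 (p 2) (q 2) (q 0) * d3 (x 2) (y 2) (y 0))) := by
  simp only [Fin.sum_univ_three, d3]
  ring

end Cfsg.Agent.H914.S6.Spin
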