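import Cfsg.Agent.H914.SpinA

/-!
# The 8-dimensional (spin) module of `Sp_6` in characteristic two (helper914)

`ix ε r` : the coordinate `r` or its dual; `C g` : the matrix of the `3 × 3` minors of `g` at these triples.

* `C_mul` : `C (g * h) = C g * C h` for `g`, `h` symplectic, characteristic two
* `C_one`, `C_transpose`
-/

set_option autoImplicit false
set_option linter.unusedSectionVars false
set_option maxHeartbeats 400000

namespace Cfsg.Agent.H914.S6.Spin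

open Matrix

universe u

/-- the index set of the spin module -/
abbrev E : Type := Bool × Bool × Bool

/-- the coordinate `r`, or its dual -/
def cr (b : Bool) (r : Fin 3) : Fin 3 ⊕ Fin 3 := bif b then Sum.inr r else Sum.inl r

@[simp] theorem cr_false (r : Fin 3) : cr false r = Sum.inl r := rfl
@[simp] theorem cr_true (r : Fin 3) : cr true r = Sum.inr r := rfl

/-- the triple of coordinates of `ε` -/
def ix (ε : E) : Fin 3 → Fin 3 ⊕ Fin 3 := ![cr ε.1 0, cr ε.2.1 1, cr ε.2.2 2]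

theorem ix_zero (ε : E) : ix ε 0 = cr ε.1 0 := rfl
theorem ix_one (ε : E) : ix ε 1 = cr ε.2.1 1 := rfl
theorem ix_two (ε : E) : ix ε 2 = cr ε.2.2 2 := rfl

variable {R : Type u} [CommRing R]

/-- the matrix of the `3 × 3` minors -/
def C (g : Matrix (Fin 3 ⊕ Fin 3) (Fin 3 ⊕ Fin 3) R) : Matrix E E R := Matrix.of fun δ ε =>
  d3 (fun r => g (ix δ r) (ix ε 0)) (fun r => g (ix δ r) (ix ε 1)) (fun r => g (ix δ r) (ix ε 2))

theorem C_apply (g : Matrix (Fin 3 ⊕ Fin 3) (Fin 3 ⊕ Fin 3) R) (δ ε : E) : C g δ ε =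
    d3 (fun r => g (ix δ r) (ix ε 0)) (fun r => g (ix δ r) (ix ε 1)) (fun r => g (ix δ r) (ix ε 2)) := rfl

theorem d3_transpose (M : Fin 3 → Fin 3 → R) :
    d3 (fun r => M r 0) (fun r => M r 1) (fun r => M r 2) = d3 (M 0) (M 1) (M 2) := by
  unfold d3
  ring

theorem C_apply' (g : Matrix (Fin 3 ⊕ Fin 3) (Fin 3 ⊕ Fin 3) R) (δ ε : E) : C g δ ε =
    d3 (fun s => g (ix δ 0) (ix ε s)) (fun s => g (ix δ 1) (ix ε s)) (fun s => g (ix δ 2) (ix ε s)) :=
  d3_transpose (fun r s => g (ix δ r) (ix ε s))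

theorem C_transpose (g : Matrix (Fin 3 ⊕ Fin 3) (Fin 3 ⊕ Fin 3) R) : C gᵀ = (C g)ᵀ := by
  ext δ ε
  rw [Matrix.transpose_apply, C_apply, C_apply]
  simp only [Matrix.transpose_apply]
  exact d3_transpose (fun r s => g (ix ε s) (ix δ r))

theorem C_one : C (1 : Matrix (Fin 3 ⊕ Fin 3) (Fin 3 ⊕ Fin 3) R) = 1 := by
  ext ⟨a, b, c⟩ ⟨a', b', c'⟩
  rw [C_apply]
  simp only [d3, ix_zero, ix_one, ix_two, Matrix.one_apply]
  rcases a <;> rcases b <;> rcases c <;> rcases a' <;> rcases b' <;> rcases c' <;> simp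

/-- symplectic matrices -/
def Sy (g : Matrix (Fin 3 ⊕ Fin 3) (Fin 3 ⊕ Fin 3) R) : Prop := gᵀ * J (Fin 3) R * g = J (Fin 3) R

theorem Sy.right {g : Matrix (Fin 3 ⊕ Fin 3) (Fin 3 ⊕ Fin 3) R} (h : Sy g) :
    g * J (Fin 3) R * gᵀ = J (Fin 3) R := by
  have hJ : J (Fin 3) R * J (Fin 3) R = -1 := J_squared _ _
  have h2 : (-(J (Fin 3) R * gᵀ * J (Fin 3) R)) * g = 1 := by
    rw [Matrix.neg_mul, Matrix.mul_assoc, Matrix.mul_assoc, ← Matrix.mul_assoc _ (J (Fin 3) R), h, hJ, neg_neg]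
  have h3 := mul_eq_one_comm.1 h2
  rw [Matrix.mul_neg, ← Matrix.mul_assoc, ← Matrix.mul_assoc] at h3
  have h4 : g * J (Fin 3) R * gᵀ * (J (Fin 3) R * J (Fin 3) R) = -J (Fin 3) R := by
    rw [← Matrix.mul_assoc, ← neg_neg (g * J (Fin 3) R * gᵀ * J (Fin 3) R), h3, Matrix.neg_mul, Matrix.one_mul]
  rw [hJ, Matrix.mul_neg, Matrix.mul_one] at h4
  exact neg_injective h4

/-- the rows of a symplectic matrix -/
theorem Sy.row {g : Matrix (Fin 3 ⊕ Fin 3) (Fin 3 ⊕ Fin 3) R} (h : Sy g) (a b : Fin 3 ⊕ Fin 3) :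
    ∑ i, (g a (Sum.inr i) * g b (Sum.inl i) - g a (Sum.inl i) * g b (Sum.inr i)) = J (Fin 3) R a b := by
  have h1 := congrFun (congrFun h.right a) b
  rw [← h1]
  simp only [Matrix.mul_apply, Matrix.transpose_apply, Fintype.sum_sum_type, J, Matrix.fromBlocks_apply₁₁,
    Matrix.fromBlocks_apply₁₂, Matrix.fromBlocks_apply₂₁, Matrix.fromBlocks_apply₂₂, Matrix.zero_apply,
    Matrix.neg_apply, Matrix.one_apply, Fin.sum_univ_three]
  simp
  ring

/-- the columns of a symplectic matrix -/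
theorem Sy.col {g : Matrix (Fin 3 ⊕ Fin 3) (Fin 3 ⊕ Fin 3) R} (h : Sy g) (a b : Fin 3 ⊕ Fin 3) :
    ∑ i, (g (Sum.inr i) a * g (Sum.inl i) b - g (Sum.inl i) a * g (Sum.inr i) b) = J (Fin 3) R a b := by
  have h1 := congrFun (congrFun h a) b
  rw [← h1]
  simp only [Matrix.mul_apply, Matrix.transpose_apply, Fintype.sum_sum_type, J, Matrix.fromBlocks_apply₁₁,
    Matrix.fromBlocks_apply₁₂, Matrix.fromBlocks_apply₂₁, Matrix.fromBlocks_apply₂₂, Matrix.zero_apply,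
    Matrix.neg_apply, Matrix.one_apply, Fin.sum_univ_three]
  simp
  ring

theorem Sy.transpose {g : Matrix (Fin 3 ⊕ Fin 3) (Fin 3 ⊕ Fin 3) R} (h : Sy g) : Sy gᵀ := by
  unfold Sy
  rw [Matrix.transpose_transpose]
  exact h.right

theorem Sy.mul {g h : Matrix (Fin 3 ⊕ Fin 3) (Fin 3 ⊕ Fin 3) R} (hg : Sy g) (hh : Sy h) : Sy (g * h) := by
  unfold Sy at *
  rw [Matrix.transpose_mul, Matrix.mul_assoc, Matrix.mul_assoc, ← Matrix.mul_assoc (J (Fin 3) R),
    ← Matrix.mul_assoc gᵀ, ← Matrix.mul_assoc gᵀ, hg, ← Matrix.mul_assoc, hh]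

theorem J_ix (ε : E) (r s : Fin 3) : J (Fin 3) R (ix ε r) (ix ε s) = 0 := by
  obtain ⟨a, b, c⟩ := ε
  fin_cases r <;> fin_cases s <;> rcases a <;> rcases b <;> rcases c <;> simp [ix, J]

/-- the contraction relation -/
theorem contr {p q : Fin 3 → Fin 3 → R} (h : ∀ r s, ∑ i, (q i r * p i s - p i r * q i s) = 0) (v : Fin 3 → R) :
    d3 (p 0) (q 0) v + d3 (p 1) (q 1) v + d3 (p 2) (q 2) v = 0 := by
  have h1 := h 1 0
  have h2 := h 2 0
  have h3 := h 2 1
  simp only [Fin.sum_univ_three] at h1 h2 h3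
  unfold d3
  linear_combination v 2 * h1 - v 1 * h2 + v 0 * h3

theorem d3_self_left (u v : Fin 3 → R) : d3 u v u = 0 := by
  unfold d3
  ring

theorem d3_self_right (u v : Fin 3 → R) : d3 u v v = 0 := by
  unfold d3
  ring

theorem pair_zero (h2 : (2 : R) = 0) {a a' b b' : R} (ha : a + a' = 0) (hb : b + b' = 0) : a * b + a' * b' = 0 := by
  linear_combination (b' ) * ha + a * hb - a * b' * h2

/-- **Multiplicativity of the spin module** -/
theorem C_mul (h2 : (2 : R) = 0) {g h : Matrix (Fin 3 ⊕ Fin 3) (Fin 3 ⊕ Fin 3) R} (hg : Sy g) (hh : Sy h) :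
    C (g * h) = C g * C h := by
  ext δ ε
  have key := cauchy_binet (fun i r => g (ix δ r) (Sum.inl i)) (fun i r => g (ix δ r) (Sum.inr i))
    (fun i c => h (Sum.inl i) (ix ε c)) (fun i c => h (Sum.inr i) (ix ε c))
  have hA := contr (p := fun i r => g (ix δ r) (Sum.inl i)) (q := fun i r => g (ix δ r) (Sum.inr i))
    (fun r s => (hg.row (ix δ r) (ix δ s)).trans (J_ix δ r s))
  have hB := contr (p := fun i c => h (Sum.inl i) (ix ε c)) (q := fun i c => h (Sum.inr i) (ix ε c))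
    (fun r s => (hh.col (ix ε r) (ix ε s)).trans (J_ix ε r s))
  have e : ∀ c, (fun r => (g * h) (ix δ r) c) = fun r => ∑ i, (g (ix δ r) (Sum.inl i) * h (Sum.inl i) c +
      g (ix δ r) (Sum.inr i) * h (Sum.inr i) c) := by
    intro c
    funext r
    rw [Matrix.mul_apply, Fintype.sum_sum_type, Finset.sum_add_distrib]
  rw [C_apply, e, e, e]
  beta_reduce at key hA hB
  rw [key, Matrix.mul_apply]
  have e2 : ∀ η, C g δ η * C h η ε = d3 (fun r => g (ix δ r) (ix η 0)) (fun r => g (ix δ r) (ix η 1))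
      (fun r => g (ix δ r) (ix η 2)) * d3 (fun s => h (ix η 0) (ix ε s)) (fun s => h (ix η 1) (ix ε s))
      (fun s => h (ix η 2) (ix ε s)) := fun η => by rw [C_apply g, C_apply' h]
  simp only [e2, Fintype.sum_prod_type, Fintype.sum_bool, ix_zero, ix_one, ix_two, cr_true, cr_false]
  have zA1 := hA (fun r => g (ix δ r) (Sum.inl 1))
  have zA2 := hA (fun r => g (ix δ r) (Sum.inr 1))
  have zA3 := hA (fun r => g (ix δ r) (Sum.inl 2))
  have zA4 := hA (fun r => g (ix δ r) (Sum.inr 2))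
  have zA5 := hA (fun r => g (ix δ r) (Sum.inl 0))
  have zA6 := hA (fun r => g (ix δ r) (Sum.inr 0))
  have zB1 := hB (fun c => h (Sum.inl 1) (ix ε c))
  have zB2 := hB (fun c => h (Sum.inr 1) (ix ε c))
  have zB3 := hB (fun c => h (Sum.inl 2) (ix ε c))
  have zB4 := hB (fun c => h (Sum.inr 2) (ix ε c))
  have zB5 := hB (fun c => h (Sum.inl 0) (ix ε c))
  have zB6 := hB (fun c => h (Sum.inr 0) (ix ε c))
  simp only [d3_self_left, d3_self_right, add_zero, zero_add] at zA1 zA2 zA3 zA4 zA5 zA6 zB1 zB2 zB3 zB4 zB5 zB6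
  rw [pair_zero h2 zA1 zB1, pair_zero h2 zA2 zB2, pair_zero h2 zA3 zB3, pair_zero h2 zA4 zB4,
    pair_zero h2 zA5 zB5, pair_zero h2 zA6 zB6]
  ring

end Cfsg.Agent.H914.S6.Spin
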