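import Cfsg.Agent.H914.SpinB

/-!
# Lines fixed in the spin module (helper914)

* `Sy.gl`, `sy_of_mem`, `mem_of_sy` : symplectic matrices and `spGL 3 F`
* `C_form` : the form `C J` is invariant
* `lineStab` : the stabiliser in `spGL 3 F` of a line of the spin module
* `false_of_line` : a residual maximal subgroup does not fix a line if it is small
-/

set_option autoImplicit false
set_option linter.unusedSectionVars false
set_option maxHeartbeats 400000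

namespace Cfsg.Agent.H914.S6.Spin

open Matrix Cfsg Cfsg.Geo Cfsg.Agent.H915.LD
open scoped MatrixGroups

universe u

section Ring

variable {R : Type u} [CommRing R]

theorem Sy.J : Sy (J (Fin 3) R) := by
  unfold Sy
  rw [Matrix.J_transpose, Matrix.neg_mul, Matrix.J_squared, neg_neg, Matrix.one_mul]

theorem Sy.one : Sy (1 : Matrix (Fin 3 ⊕ Fin 3) (Fin 3 ⊕ Fin 3) R) := by
  unfold Sy
  rw [Matrix.transpose_one, Matrix.one_mul, Matrix.mul_one]

/-- the invariant form of the spin module -/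
theorem C_form (h2 : (2 : R) = 0) {g : Matrix (Fin 3 ⊕ Fin 3) (Fin 3 ⊕ Fin 3) R} (hg : Sy g) :
    (C g)ᵀ * C (Matrix.J (Fin 3) R) * C g = C (Matrix.J (Fin 3) R) := by
  rw [← C_transpose, ← C_mul h2 hg.transpose Sy.J, ← C_mul h2 (hg.transpose.mul Sy.J) hg, hg]

/-- the opposite triple -/
def bar (ε : E) : E := (!ε.1, !ε.2.1, !ε.2.2)

theorem C_J_apply (h2 : (2 : R) = 0) (δ ε : E) : C (Matrix.J (Fin 3) R) δ ε = if δ = bar ε then 1 else 0 := by
  have hneg : (-1 : R) = 1 := by linear_combination (-1 : R) * h2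
  obtain ⟨a, b, c⟩ := δ
  obtain ⟨a', b', c'⟩ := ε
  rw [C_apply]
  simp only [d3, ix_zero, ix_one, ix_two, Matrix.J]
  rcases a <;> rcases b <;> rcases c <;> rcases a' <;> rcases b' <;> rcases c' <;> simp [bar, hneg]

theorem C_J_mulVec (h2 : (2 : R) = 0) (n : E → R) (ε : E) : (C (Matrix.J (Fin 3) R) *ᵥ n) ε = n (bar ε) := by
  simp only [Matrix.mulVec, dotProduct, C_J_apply h2]
  have : ∀ x : E, (if ε = bar x then (1 : R) else 0) * n x = if x = bar ε then n x else 0 := by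
    intro x
    have h : (ε = bar x) ↔ (x = bar ε) := by
      constructor
      · rintro rfl
        simp [bar]
      · rintro rfl
        simp [bar]
    by_cases hx : x = bar ε
    · rw [if_pos (h.2 hx), if_pos hx, one_mul]
    · rw [if_neg (fun h' => hx (h.1 h')), if_neg hx, zero_mul]
  simp only [this, Finset.sum_ite_eq', Finset.mem_univ, if_true]

end Ring

section Field

variable {F : Type u} [Field F]

theorem sy_of_mem {g : GL (Fin 3 ⊕ Fin 3) F} (hg : g ∈ spGL 3 F) :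
    Sy (g : Matrix (Fin 3 ⊕ Fin 3) (Fin 3 ⊕ Fin 3) F) := transpose_J hg

theorem mem_of_sy {g : GL (Fin 3 ⊕ Fin 3) F} (hg : Sy (g : Matrix (Fin 3 ⊕ Fin 3) (Fin 3 ⊕ Fin 3) F)) :
    g ∈ spGL 3 F := by
  rw [H931.mem_spGL_iff]
  intro u v
  unfold sympForm
  conv_rhs => rw [← hg]
  rw [← Matrix.mulVec_mulVec, ← Matrix.mulVec_mulVec, Matrix.dotProduct_mulVec u, Matrix.vecMul_transpose]

/-- the diagonal symplectic matrix -/
def dg (d : Fin 3 → Fˣ) : Matrix (Fin 3 ⊕ Fin 3) (Fin 3 ⊕ Fin 3) F :=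
  Matrix.diagonal (Sum.elim (fun i => (d i : F)) fun i => ((d i)⁻¹ : Fˣ))

theorem sy_dg (d : Fin 3 → Fˣ) : Sy (dg d) := by
  unfold Sy dg
  rw [Matrix.diagonal_transpose]
  ext i j
  rw [Matrix.mul_diagonal, Matrix.diagonal_mul]
  rcases i with i | i <;> rcases j with j | j <;> simp [Matrix.J, Matrix.one_apply]
  · by_cases h : i = j
    · subst h
      simp
    · simp [h]
  · by_cases h : i = j
    · subst h
      simp
    · simp [h]

theorem dg_mul_inv (d : Fin 3 → Fˣ) : dg d * dg (fun i => (d i)⁻¹) = 1 := by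
  unfold dg
  rw [Matrix.diagonal_mul_diagonal, ← Matrix.diagonal_one]
  congr 1
  funext i
  rcases i with i | i <;> simp

/-- the diagonal matrix as an element of `GL` -/
def dgU (d : Fin 3 → Fˣ) : GL (Fin 3 ⊕ Fin 3) F :=
  ⟨dg d, dg fun i => (d i)⁻¹, dg_mul_inv d, by simpa using dg_mul_inv fun i => (d i)⁻¹⟩

theorem dgU_mem (d : Fin 3 → Fˣ) : dgU d ∈ spGL 3 F := mem_of_sy (sy_dg d)

/-- the weight -/
def wt (d : Fin 3 → Fˣ) (ε : E) : Fˣ := (bif ε.1 then (d 0)⁻¹ else d 0) * (bif ε.2.1 then (d 1)⁻¹ else d 1) *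
  (bif ε.2.2 then (d 2)⁻¹ else d 2)

theorem C_dg (d : Fin 3 → Fˣ) : C (dg d) = Matrix.diagonal fun ε => (wt d ε : F) := by
  ext ⟨a, b, c⟩ ⟨a', b', c'⟩
  rw [C_apply]
  simp only [d3, ix_zero, ix_one, ix_two, dg, Matrix.diagonal_apply, wt]
  rcases a <;> rcases b <;> rcases c <;> rcases a' <;> rcases b' <;> rcases c' <;> simp <;> ring

theorem C_dg_mulVec (d : Fin 3 → Fˣ) (n : E → F) (ε : E) : (C (dg d) *ᵥ n) ε = wt d ε * n ε := by
  rw [C_dg, Matrix.mulVec_diagonal]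

/-- the stabiliser of a line of the spin module -/
def lineStab (h2 : (2 : F) = 0) (n : E → F) : Subgroup (GL (Fin 3 ⊕ Fin 3) F) where
  carrier := {g | g ∈ spGL 3 F ∧ ∃ c : Fˣ, C (g : Matrix (Fin 3 ⊕ Fin 3) (Fin 3 ⊕ Fin 3) F) *ᵥ n = (c : F) • n}
  mul_mem' := by
    rintro a b ⟨ha, c, hc⟩ ⟨hb, d, hd⟩
    refine ⟨mul_mem ha hb, c * d, ?_⟩
    rw [Units.val_mul, C_mul h2 (sy_of_mem ha) (sy_of_mem hb), ← Matrix.mulVec_mulVec, hd, Matrix.mulVec_smul, hc,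
      smul_smul, Units.val_mul, mul_comm (d : F)]
  one_mem' := ⟨one_mem _, 1, by rw [Units.val_one, C_one, Matrix.one_mulVec, Units.val_one, one_smul]⟩
  inv_mem' := by
    rintro a ⟨ha, c, hc⟩
    refine ⟨inv_mem ha, c⁻¹, ?_⟩
    have h1 : C ((a⁻¹ : GL (Fin 3 ⊕ Fin 3) F) : Matrix (Fin 3 ⊕ Fin 3) (Fin 3 ⊕ Fin 3) F) *ᵥ
        (C (a : Matrix (Fin 3 ⊕ Fin 3) (Fin 3 ⊕ Fin 3) F) *ᵥ n) = n := by
      rw [Matrix.mulVec_mulVec, ← C_mul h2 (sy_of_mem (inv_mem ha)) (sy_of_mem ha), ← Units.val_mul, inv_mul_cancel,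
        Units.val_one, C_one, Matrix.one_mulVec]
    rw [hc, Matrix.mulVec_smul] at h1
    calc _ = ((c⁻¹ : Fˣ) : F) • ((c : F) • (C ((a⁻¹ : GL (Fin 3 ⊕ Fin 3) F) : Matrix (Fin 3 ⊕ Fin 3) (Fin 3 ⊕ Fin 3) F) *ᵥ n)) := by
          rw [smul_smul, ← Units.val_mul, inv_mul_cancel, Units.val_one, one_smul]
      _ = _ := by rw [h1]

theorem mem_lineStab {h2 : (2 : F) = 0} {n : E → F} {g : GL (Fin 3 ⊕ Fin 3) F} : g ∈ lineStab h2 n ↔
    g ∈ spGL 3 F ∧ ∃ c : Fˣ, C (g : Matrix (Fin 3 ⊕ Fin 3) (Fin 3 ⊕ Fin 3) F) *ᵥ n = (c : F) • n := Iff.rfl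

theorem lineStab_le {h2 : (2 : F) = 0} {n : E → F} : lineStab h2 n ≤ spGL 3 F := fun _ h => h.1

end Field

end Cfsg.Agent.H914.S6.Spin
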