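import Cfsg.Agent.H914.SpinC

/-!
# A residual maximal subgroup of `Sp_6(F)`, `F` of characteristic two, fixing a line of the spin module (helper914)

* `lineStab_ne` : the stabiliser of a line is proper, `|F| ≥ 4`
* `card_le` : its index is at most `|F|^8`
* `false_of_line`
-/

set_option autoImplicit false
set_option linter.unusedSectionVars false
set_option maxHeartbeats 400000

namespace Cfsg.Agent.H914.S6.Spin

open Matrix Cfsg Cfsg.Geo Cfsg.Agent.H915.LD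
open scoped MatrixGroups

universe u

variable {F : Type u} [Field F]

theorem bar_ne (ε : E) : bar ε ≠ ε := by
  obtain ⟨a, b, c⟩ := ε
  rcases a <;> simp [bar]

theorem bar_bar (ε : E) : bar (bar ε) = ε := by
  obtain ⟨a, b, c⟩ := ε
  simp [bar]

theorem lineStab_ne (h2 : (2 : F) = 0) {n : E → F} (hn : n ≠ 0) {c : Fˣ} (hc : c ≠ c⁻¹) :
    lineStab h2 n ≠ spGL 3 F := by
  intro h
  obtain ⟨ε, hε⟩ := Function.ne_iff.1 hn
  rw [Pi.zero_apply] at hε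
  have key : ∀ (d : Fin 3 → Fˣ) (ε' : E), n ε' ≠ 0 → wt d ε' = wt d ε := by
    intro d ε' hε'
    have h1 : dgU d ∈ lineStab h2 n := by
      rw [h]
      exact dgU_mem d
    obtain ⟨-, e, he⟩ := mem_lineStab.1 h1
    have h3 := congrFun he ε
    have h4 := congrFun he ε'
    change (C (dg d) *ᵥ n) ε = _ at h3
    change (C (dg d) *ᵥ n) ε' = _ at h4
    rw [C_dg_mulVec, Pi.smul_apply, smul_eq_mul] at h3 h4
    apply Units.ext
    rw [mul_right_cancel₀ hε h3, mul_right_cancel₀ hε' h4]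
  have hc' : ∀ a b : Bool, (bif a then c⁻¹ else c) = (bif b then c⁻¹ else c) → a = b := by
    intro a b hab
    rcases a <;> rcases b
    · rfl
    · exact absurd hab hc
    · exact absurd hab.symm hc
    · rfl
  have hsup : ∀ ε' : E, n ε' ≠ 0 → ε' = ε := by
    intro ε' hε'
    have k1 := key ![c, 1, 1] ε' hε'
    have k2 := key ![1, c, 1] ε' hε'
    have k3 := key ![1, 1, c] ε' hε'
    obtain ⟨a, b, e⟩ := ε'
    obtain ⟨a', b', e'⟩ := ε
    simp only [wt, Matrix.cons_val_zero, Matrix.cons_val_one, Matrix.cons_val, inv_one, Bool.cond_self, mul_one,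
      one_mul] at k1 k2 k3
    rw [hc' a a' k1, hc' b b' k2, hc' e e' k3]
  have hJ : (⟨Matrix.J (Fin 3) F, -Matrix.J (Fin 3) F, by rw [Matrix.mul_neg, Matrix.J_squared, neg_neg],
      by rw [Matrix.neg_mul, Matrix.J_squared, neg_neg]⟩ : GL (Fin 3 ⊕ Fin 3) F) ∈ lineStab h2 n := by
    rw [h]
    exact mem_of_sy Sy.J
  obtain ⟨-, e, he⟩ := mem_lineStab.1 hJ
  have h3 := congrFun he (bar ε)
  change (C (Matrix.J (Fin 3) F) *ᵥ n) (bar ε) = _ at h3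
  rw [C_J_mulVec h2, bar_bar, Pi.smul_apply, smul_eq_mul] at h3
  have h4 : n (bar ε) = 0 := by
    by_contra h5
    exact bar_ne ε (hsup _ h5)
  rw [h4, mul_zero] at h3
  exact hε h3

/-- the action of `spGL 3 F` on the spin module -/
@[reducible] def act (h2 : (2 : F) = 0) : MulAction (spGL 3 F) (E → F) where
  smul g n := C ((g : GL (Fin 3 ⊕ Fin 3) F) : Matrix (Fin 3 ⊕ Fin 3) (Fin 3 ⊕ Fin 3) F) *ᵥ n
  one_smul n := by
    change C ((1 : GL (Fin 3 ⊕ Fin 3) F) : Matrix (Fin 3 ⊕ Fin 3) (Fin 3 ⊕ Fin 3) F) *ᵥ n = n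
    rw [Units.val_one, C_one, Matrix.one_mulVec]
  mul_smul a b n := by
    change C (((a : GL (Fin 3 ⊕ Fin 3) F) * (b : GL (Fin 3 ⊕ Fin 3) F) : GL (Fin 3 ⊕ Fin 3) F) :
      Matrix (Fin 3 ⊕ Fin 3) (Fin 3 ⊕ Fin 3) F) *ᵥ n = C _ *ᵥ (C _ *ᵥ n)
    rw [Units.val_mul, C_mul h2 (sy_of_mem a.2) (sy_of_mem b.2), Matrix.mulVec_mulVec]

theorem card_le (h2 : (2 : F) = 0) [Fintype F] (n : E → F) :
    Nat.card (spGL 3 F) ≤ Fintype.card F ^ 8 * Nat.card (lineStab h2 n) := by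
  classical
  let A := act h2 (F := F)
  have h1 : Nat.card (MulAction.orbit (spGL 3 F) n) * Nat.card (MulAction.stabilizer (spGL 3 F) n) =
      Nat.card (spGL 3 F) := by
    rw [← Nat.card_prod]
    exact Nat.card_congr (MulAction.orbitProdStabilizerEquivGroup (spGL 3 F) n)
  have h3 : Nat.card (MulAction.orbit (spGL 3 F) n) ≤ Fintype.card F ^ 8 := by
    have h4 := Nat.card_le_card_of_injective (Subtype.val : MulAction.orbit (spGL 3 F) n → (E → F))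
      Subtype.val_injective
    have h5 : Nat.card (E → F) = Fintype.card F ^ 8 := by
      rw [Nat.card_eq_fintype_card, Fintype.card_fun]
      rfl
    rwa [h5] at h4
  have h6 : Nat.card (MulAction.stabilizer (spGL 3 F) n) ≤ Nat.card (lineStab h2 n) := by
    refine Nat.card_le_card_of_injective (fun g => (⟨((g : spGL 3 F) : GL (Fin 3 ⊕ Fin 3) F), ?_⟩ : lineStab h2 n)) ?_
    · refine mem_lineStab.2 ⟨(g : spGL 3 F).2, 1, ?_⟩
      rw [Units.val_one, one_smul]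
      exact MulAction.mem_stabilizer_iff.1 g.2
    · intro a b hab
      exact Subtype.ext (Subtype.ext (congrArg (fun x : lineStab h2 n => (x : GL (Fin 3 ⊕ Fin 3) F)) hab))
  rw [← h1]
  exact Nat.mul_le_mul h3 h6

/-- `n` spans the space of vectors fixed by `P` -/
structure FixOne (P : Subgroup (GL (Fin 3 ⊕ Fin 3) F)) (n : E → F) : Prop where
  ne : n ≠ 0
  fix : ∀ g ∈ P, C (g : Matrix (Fin 3 ⊕ Fin 3) (Fin 3 ⊕ Fin 3) F) *ᵥ n = n
  uniq : ∀ n' : E → F, (∀ g ∈ P, C (g : Matrix (Fin 3 ⊕ Fin 3) (Fin 3 ⊕ Fin 3) F) *ᵥ n' = n') → ∃ c : F, n' = c • n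

theorem FixOne.le_lineStab {H P : Subgroup (GL (Fin 3 ⊕ Fin 3) F)} (h2 : (2 : F) = 0) {n : E → F}
    (hn : FixOne P n) (hH : H ≤ spGL 3 F) (hP : P ≤ spGL 3 F)
    (hnorm : ∀ g ∈ H, ∀ x ∈ P, g⁻¹ * x * g ∈ P) : H ≤ lineStab h2 n := by
  intro g hg
  refine mem_lineStab.2 ⟨hH hg, ?_⟩
  have hinv : C (g : Matrix (Fin 3 ⊕ Fin 3) (Fin 3 ⊕ Fin 3) F) *
      C ((g⁻¹ : GL (Fin 3 ⊕ Fin 3) F) : Matrix (Fin 3 ⊕ Fin 3) (Fin 3 ⊕ Fin 3) F) = 1 := by
    rw [← C_mul h2 (sy_of_mem (hH hg)) (sy_of_mem (inv_mem (hH hg))), ← Units.val_mul, mul_inv_cancel, Units.val_one,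
      C_one]
  have hinv' : C ((g⁻¹ : GL (Fin 3 ⊕ Fin 3) F) : Matrix (Fin 3 ⊕ Fin 3) (Fin 3 ⊕ Fin 3) F) *
      C (g : Matrix (Fin 3 ⊕ Fin 3) (Fin 3 ⊕ Fin 3) F) = 1 := mul_eq_one_comm.1 hinv
  obtain ⟨c, hc⟩ := hn.uniq (C (g : Matrix (Fin 3 ⊕ Fin 3) (Fin 3 ⊕ Fin 3) F) *ᵥ n) (fun x hx => by
    have h1 := hn.fix _ (hnorm g hg x hx)
    rw [Units.val_mul, Units.val_mul, C_mul h2 ((sy_of_mem (inv_mem (hH hg))).mul (sy_of_mem (hP hx)))
      (sy_of_mem (hH hg)), C_mul h2 (sy_of_mem (inv_mem (hH hg))) (sy_of_mem (hP hx))] at h1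
    have h3 := congrArg (fun v => C (g : Matrix (Fin 3 ⊕ Fin 3) (Fin 3 ⊕ Fin 3) F) *ᵥ v) h1
    rw [Matrix.mulVec_mulVec, ← Matrix.mul_assoc, ← Matrix.mul_assoc, hinv, Matrix.one_mul] at h3
    rw [Matrix.mulVec_mulVec, h3])
  have hc0 : c ≠ 0 := by
    rintro rfl
    rw [zero_smul] at hc
    apply hn.ne
    calc n = (C ((g⁻¹ : GL (Fin 3 ⊕ Fin 3) F) : Matrix (Fin 3 ⊕ Fin 3) (Fin 3 ⊕ Fin 3) F) *
      C (g : Matrix (Fin 3 ⊕ Fin 3) (Fin 3 ⊕ Fin 3) F)) *ᵥ n := by rw [hinv', Matrix.one_mulVec]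
      _ = 0 := by rw [← Matrix.mulVec_mulVec, hc, Matrix.mulVec_zero]
  exact ⟨Units.mk0 c hc0, hc⟩

/-- **A small residual maximal subgroup has not exactly one fixed line.** -/
theorem false_of_line [Fintype F] (h2 : (2 : F) = 0) {H P : Subgroup (GL (Fin 3 ⊕ Fin 3) F)} (S : Hyp 3 H P)
    {n : E → F} (hn : FixOne P n) {c : Fˣ} (hc : c ≠ c⁻¹) {B : ℕ} (hB : Nat.card H ≤ B)
    (hlt : Fintype.card F ^ 8 * B < Nat.card (spGL 3 F)) : False := by
  have hnorm : ∀ g ∈ H, ∀ x ∈ P, g⁻¹ * x * g ∈ P := by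
    intro g hg x hx
    have h1 := S.core.normal g⁻¹ (inv_mem hg) x hx
    rwa [inv_inv] at h1
  have h1 := hn.le_lineStab h2 S.H_le S.P_le hnorm
  have h3 := S.eq_of_le h1 lineStab_le (lineStab_ne h2 hn.ne hc)
  have h4 := card_le h2 n
  rw [h3] at h4
  exact absurd hlt (not_lt.2 (h4.trans (Nat.mul_le_mul_left _ hB)))

end Cfsg.Agent.H914.S6.Spin
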