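import Cfsg.Agent.H914.SpinD
import Cfsg.Agent.H955.Sp

/-!
# Descent of the fixed line, and the bound on the order of `H` (helper914)
-/

set_option autoImplicit false
set_option linter.unusedSectionVars false
set_option maxHeartbeats 400000

namespace Cfsg.Agent.H914.S6.Spin

open Matrix Cfsg Cfsg.Geo Cfsg.Agent.H915.LD
open scoped MatrixGroups

universe u v

theorem d3_map {R : Type u} {S : Type v} [CommRing R] [CommRing S] (f : R →+* S) (x y z : Fin 3 → R) :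
    d3 (fun r => f (x r)) (fun r => f (y r)) (fun r => f (z r)) = f (d3 x y z) := by
  unfold d3
  simp only [map_add, map_sub, map_mul]

theorem C_map {R : Type u} {S : Type v} [CommRing R] [CommRing S] (f : R →+* S)
    (g : Matrix (Fin 3 ⊕ Fin 3) (Fin 3 ⊕ Fin 3) R) : C (g.map f) = (C g).map f := by
  ext δ ε
  rw [Matrix.map_apply, C_apply, C_apply]
  exact d3_map f _ _ _

theorem Sy.map {R : Type u} {S : Type v} [CommRing R] [CommRing S] (f : R →+* S)
    {g : Matrix (Fin 3 ⊕ Fin 3) (Fin 3 ⊕ Fin 3) R} (h : Sy g) : Sy (g.map f) := by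
  unfold Sy at *
  have hJ : (Matrix.J (Fin 3) R).map f = Matrix.J (Fin 3) S := by
    ext i j
    rcases i with i | i <;> rcases j with j | j <;> simp [Matrix.J, Matrix.one_apply, apply_ite f]
  rw [← hJ, ← Matrix.transpose_map, ← Matrix.map_mul, ← Matrix.map_mul, h]

/-- The line of fixed vectors is defined over the small field. -/
theorem exists_fixOne {F : Type u} [Field F] {k : Type v} [Field k] [Algebra F k]
    {P : Subgroup (GL (Fin 3 ⊕ Fin 3) F)} {nk : E → k} (hne : nk ≠ 0)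
    (hfix : ∀ g ∈ P, C ((g : Matrix (Fin 3 ⊕ Fin 3) (Fin 3 ⊕ Fin 3) F).map (algebraMap F k)) *ᵥ nk = nk)
    (huniq : ∀ n' : E → k, (∀ g ∈ P, C ((g : Matrix (Fin 3 ⊕ Fin 3) (Fin 3 ⊕ Fin 3) F).map (algebraMap F k)) *ᵥ n' = n') →
      ∃ c : k, n' = c • nk) : ∃ n : E → F, FixOne P n := by
  obtain ⟨ε, hε⟩ := Function.ne_iff.1 hne
  rw [Pi.zero_apply] at hε
  obtain ⟨φ, hφ⟩ : ∃ φ : Module.Dual F k, φ (nk ε) ≠ 0 := by
    by_contra h
    push_neg at h
    exact hε ((Module.forall_dual_apply_eq_zero_iff F (nk ε)).1 h)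
  have hn0 : (fun i => φ (nk i)) ε ≠ 0 := hφ
  have hfix' : ∀ g ∈ P, C (g : Matrix (Fin 3 ⊕ Fin 3) (Fin 3 ⊕ Fin 3) F) *ᵥ (fun i => φ (nk i)) = fun i => φ (nk i) := by
    intro g hg
    have h1 := hfix g hg
    rw [C_map] at h1
    funext i
    conv_rhs => rw [← h1]
    simp only [Matrix.mulVec, dotProduct, Matrix.map_apply, map_sum]
    refine Finset.sum_congr rfl fun j _ => ?_
    rw [← Algebra.smul_def, map_smul, smul_eq_mul]
  have hlift : ∀ n' : E → F, (∀ g ∈ P, C (g : Matrix (Fin 3 ⊕ Fin 3) (Fin 3 ⊕ Fin 3) F) *ᵥ n' = n') →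
      ∃ c : k, (fun i => algebraMap F k (n' i)) = c • nk := by
    intro n' hn'
    apply huniq
    intro g hg
    rw [C_map]
    funext i
    have h1 := congrFun (hn' g hg) i
    conv_rhs => rw [← h1]
    simp only [Matrix.mulVec, dotProduct, Matrix.map_apply, map_sum, map_mul]
  refine ⟨fun i => φ (nk i), ⟨fun h => hn0 (congrFun h ε), hfix', ?_⟩⟩
  intro n' hn'
  obtain ⟨c, hc⟩ := hlift n' hn'
  obtain ⟨c', hc'⟩ := hlift _ hfix'
  refine ⟨n' ε / φ (nk ε), ?_⟩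
  funext i
  apply (algebraMap F k).injective
  have e1 := congrFun hc i
  have e2 := congrFun hc' i
  have e3 := congrFun hc ε
  have e4 := congrFun hc' ε
  simp only [Pi.smul_apply, smul_eq_mul] at e1 e2 e3 e4
  have h5 : algebraMap F k (φ (nk ε)) ≠ 0 := by
    rwa [Ne, map_eq_zero]
  rw [Pi.smul_apply, smul_eq_mul, map_mul, map_div₀, e1, e2, e3, div_mul_eq_mul_div, eq_div_iff h5, e4]
  ring

section Card

variable {F : Type u} [Field F] {H P : Subgroup (GL (Fin 3 ⊕ Fin 3) F)}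

/-- in characteristic two the scalars of `Sp` are trivial -/
theorem scalars_bot (h2 : (2 : F) = 0) (S : Hyp 3 H P) : (scalars (Fin 3 ⊕ Fin 3) F).subgroupOf P = ⊥ := by
  rw [eq_bot_iff]
  intro g hg
  rw [Subgroup.mem_bot]
  apply Subtype.ext
  have hneg : (-1 : F) = 1 := by linear_combination (-1 : F) * h2
  rcases scalar_cases (by norm_num) (S.P_le g.2) (Subgroup.mem_subgroupOf.1 hg) with h | h
  · exact h
  · rw [h]
    apply Units.ext
    ext i j
    change -(1 : Matrix (Fin 3 ⊕ Fin 3) (Fin 3 ⊕ Fin 3) F) i j = (1 : Matrix (Fin 3 ⊕ Fin 3) (Fin 3 ⊕ Fin 3) F) i j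
    linear_combination (-(1 : Matrix (Fin 3 ⊕ Fin 3) (Fin 3 ⊕ Fin 3) F) i j) * h2

/-- in characteristic two `P` is its own socle -/
noncomputable def socEquiv (h2 : (2 : F) = 0) (S : Hyp 3 H P) : P ≃* Soc P :=
  MulEquiv.ofBijective (toSoc P) ⟨by
    rw [← MonoidHom.ker_eq_bot_iff, show (toSoc P).ker = (scalars (Fin 3 ⊕ Fin 3) F).subgroupOf P from
      QuotientGroup.ker_mk' _]
    exact scalars_bot h2 S, toSoc_surjective P⟩

/-- `H` acts faithfully on `P` in characteristic two -/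
theorem card_H_le (h2 : (2 : F) = 0) [Finite F] (S : Hyp 3 H P) : Nat.card H ≤ Nat.card (MulAut P) := by
  have hfin : Finite P := inferInstance
  let f : H → MulAut P := fun h =>
    { toFun := fun x => ⟨(h : GL (Fin 3 ⊕ Fin 3) F) * x * (h : GL (Fin 3 ⊕ Fin 3) F)⁻¹, S.core.normal h h.2 x x.2⟩
      invFun := fun x => ⟨(h : GL (Fin 3 ⊕ Fin 3) F)⁻¹ * x * (h : GL (Fin 3 ⊕ Fin 3) F), by
        have := S.core.normal _ (inv_mem h.2) x x.2
        rwa [inv_inv] at this⟩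
      left_inv := fun x => Subtype.ext (by dsimp only; group)
      right_inv := fun x => Subtype.ext (by dsimp only; group)
      map_mul' := fun x y => Subtype.ext (by
        change (h : GL (Fin 3 ⊕ Fin 3) F) * (x * y) * (h : GL (Fin 3 ⊕ Fin 3) F)⁻¹ = _ * _
        group) }
  refine Nat.card_le_card_of_injective f ?_
  intro a b hab
  apply Subtype.ext
  have h1 : ∀ x ∈ P, (a : GL (Fin 3 ⊕ Fin 3) F) * x * (a : GL (Fin 3 ⊕ Fin 3) F)⁻¹ =
      (b : GL (Fin 3 ⊕ Fin 3) F) * x * (b : GL (Fin 3 ⊕ Fin 3) F)⁻¹ := by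
    intro x hx
    exact congrArg (fun t : MulAut P => ((t ⟨x, hx⟩ : P) : GL (Fin 3 ⊕ Fin 3) F)) hab
  have h3 := S.core.centralizer_scalar ((b : GL (Fin 3 ⊕ Fin 3) F)⁻¹ * a) (mul_mem (inv_mem b.2) a.2) (by
    intro x hx
    have h4 : (b : GL (Fin 3 ⊕ Fin 3) F)⁻¹ * a * x * ((b : GL (Fin 3 ⊕ Fin 3) F)⁻¹ * a)⁻¹ * x⁻¹ = 1 := by
      calc _ = (b : GL (Fin 3 ⊕ Fin 3) F)⁻¹ * (a * x * (a : GL (Fin 3 ⊕ Fin 3) F)⁻¹) * b * x⁻¹ := by group
        _ = 1 := by rw [h1 x hx]; group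
    rw [h4]
    exact one_mem _)
  have hneg : (-1 : F) = 1 := by linear_combination (-1 : F) * h2
  rcases scalar_cases (by norm_num) (S.H_le (mul_mem (inv_mem b.2) a.2)) h3 with h | h
  · exact (inv_mul_eq_one.1 h).symm
  · rw [inv_mul_eq_iff_eq_mul, mul_neg, mul_one] at h
    rw [h]
    apply Units.ext
    ext i j
    change -((b : GL (Fin 3 ⊕ Fin 3) F) : Matrix (Fin 3 ⊕ Fin 3) (Fin 3 ⊕ Fin 3) F) i j = _
    linear_combination (-((b : GL (Fin 3 ⊕ Fin 3) F) : Matrix (Fin 3 ⊕ Fin 3) (Fin 3 ⊕ Fin 3) F) i j) * h2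

theorem card_H_le' (h2 : (2 : F) = 0) [Finite F] (S : Hyp 3 H P) {T : Type v} [Group T] (e : Soc P ≃* T) :
    Nat.card H ≤ Nat.card (MulAut T) := by
  rw [← Nat.card_congr (MulAut.congr ((socEquiv h2 S).trans e)).toEquiv]
  exact card_H_le h2 S

theorem card_sp6' [Fintype F] : Nat.card (spGL 3 F) = Fintype.card F ^ 9 *
    ((Fintype.card F ^ 2 - 1) * (Fintype.card F ^ 4 - 1) * (Fintype.card F ^ 6 - 1)) := by
  have h1 := H955.card_spGL (m := 3) (F := F)
  rw [h1, Nat.card_eq_fintype_card]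
  simp [Finset.prod_range_succ]

/-- numerical bound -/
theorem num_bound [Fintype F] (h4 : 4 ≤ Fintype.card F) {B : ℕ} (hB : B ≤ 60000000) :
    Fintype.card F ^ 8 * B < Nat.card (spGL 3 F) := by
  rw [card_sp6']
  generalize Fintype.card F = q at h4
  have h1 : 15 ≤ q ^ 2 - 1 := by
    have : 4 ^ 2 ≤ q ^ 2 := Nat.pow_le_pow_left h4 2
    omega
  have h3 : 255 ≤ q ^ 4 - 1 := by
    have : 4 ^ 4 ≤ q ^ 4 := Nat.pow_le_pow_left h4 4
    omega
  have h5 : 4095 ≤ q ^ 6 - 1 := by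
    have : 4 ^ 6 ≤ q ^ 6 := Nat.pow_le_pow_left h4 6
    omega
  have h6 : 15 * 255 * 4095 ≤ (q ^ 2 - 1) * (q ^ 4 - 1) * (q ^ 6 - 1) := Nat.mul_le_mul (Nat.mul_le_mul h1 h3) h5
  have h7 : 0 < q ^ 8 := by positivity
  calc q ^ 8 * B < q ^ 8 * (4 * (15 * 255 * 4095)) := by
        apply Nat.mul_lt_mul_of_pos_left _ h7
        omega
    _ ≤ q ^ 8 * (q * ((q ^ 2 - 1) * (q ^ 4 - 1) * (q ^ 6 - 1))) := by
        apply Nat.mul_le_mul_left
        exact Nat.mul_le_mul h4 h6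
    _ = _ := by ring

end Card

end Cfsg.Agent.H914.S6.Spin
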