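import Cfsg.Agent.H914.SpinE

/-!
# Symplectic bases of eigenvectors; conjugation of fixed lines (helper914)

* `exists_eig` : an endomorphism of order prime to the characteristic has an eigenvalue `≠ 1`
* `form_ne_zero`, `sy_of_basis` : a basis of eigenvectors with distinct eigenvalues in dual pairs is symplectic
* `Fix1`, `Fix1.conj`, `Fix1.exists`
-/

set_option autoImplicit false
set_option linter.unusedSectionVars false
set_option maxHeartbeats 400000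

namespace Cfsg.Agent.H914.S6.Spin

open Matrix Cfsg Cfsg.Geo Cfsg.Agent.H915.LD Module
open scoped MatrixGroups

universe u v

/-- an endomorphism of finite order prime to the characteristic, not the identity, has an eigenvalue `≠ 1` -/
theorem exists_eig {k : Type u} [Field k] [IsAlgClosed k] {V : Type v} [AddCommGroup V] [Module k V]
    [FiniteDimensional k V] (f : Module.End k V) {r : ℕ} (hr : (r : k) ≠ 0) (hf : f ^ r = 1) (hf1 : f ≠ 1) :
    ∃ (b : k) (x : V), b ≠ 1 ∧ b ^ r = 1 ∧ x ≠ 0 ∧ f x = b • x := by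
  have hmap : ∀ x ∈ LinearMap.range (f - 1), f x ∈ LinearMap.range (f - 1) := by
    rintro _ ⟨x, rfl⟩
    exact ⟨f x, by simp only [LinearMap.sub_apply, Module.End.one_apply, map_sub]⟩
  have hne : Nontrivial (LinearMap.range (f - 1)) := by
    rw [Submodule.nontrivial_iff_ne_bot]
    intro h
    rw [LinearMap.range_eq_bot, sub_eq_zero] at h
    exact hf1 h
  obtain ⟨b, hb⟩ := Module.End.exists_eigenvalue (f.restrict hmap)
  obtain ⟨x, hx⟩ := hb.exists_hasEigenvector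
  have hx0 : (x : V) ≠ 0 := fun h => hx.2 (Subtype.ext h)
  have hfx : f x = b • (x : V) := by
    have := congrArg Subtype.val hx.apply_eq_smul
    simpa using this
  have hpow : ∀ n : ℕ, (f ^ n) (x : V) = b ^ n • (x : V) := by
    intro n
    induction n with
    | zero => simp
    | succ n ih => rw [pow_succ, Module.End.mul_apply, hfx, map_smul, ih, smul_smul, pow_succ, mul_comm]
  refine ⟨b, x, ?_, ?_, hx0, hfx⟩
  · rintro rfl
    rw [one_smul] at hfx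
    obtain ⟨y, hy⟩ := x.2
    have hy' : f y = y + x := by
      rw [← hy, LinearMap.sub_apply, Module.End.one_apply]
      abel
    have hpow' : ∀ n : ℕ, (f ^ n) y = y + (n : k) • (x : V) := by
      intro n
      induction n with
      | zero => simp
      | succ n ih =>
        rw [pow_succ', Module.End.mul_apply, ih, map_add, map_smul, hfx, hy', Nat.cast_succ, add_smul, one_smul]
        abel
    have h1 := hpow' r
    rw [hf, Module.End.one_apply, left_eq_add, smul_eq_zero] at h1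
    rcases h1 with h1 | h1
    · exact hr h1
    · exact hx0 h1
  · have h1 := hpow r
    rw [hf, Module.End.one_apply] at h1
    by_contra hne
    have : (b ^ r - 1) • (x : V) = 0 := by rw [sub_smul, one_smul, ← h1, sub_self]
    rcases smul_eq_zero.1 this with h | h
    · exact hne (sub_eq_zero.1 h)
    · exact hx0 h

section Basis

variable {k : Type u} [Field k]

theorem form_mul {A : Matrix (Fin 3 ⊕ Fin 3) (Fin 3 ⊕ Fin 3) k} (hA : Sy A) (x y : Fin 3 ⊕ Fin 3 → k) :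
    sympForm 3 k (A *ᵥ x) (A *ᵥ y) = sympForm 3 k x y := by
  unfold sympForm
  conv_rhs => rw [← hA]
  rw [← Matrix.mulVec_mulVec, ← Matrix.mulVec_mulVec, Matrix.dotProduct_mulVec x, Matrix.vecMul_transpose]

theorem form_eq_zero {A : Matrix (Fin 3 ⊕ Fin 3) (Fin 3 ⊕ Fin 3) k} (hA : Sy A) {x y : Fin 3 ⊕ Fin 3 → k} {a b : k}
    (hx : A *ᵥ x = a • x) (hy : A *ᵥ y = b • y) (hab : a * b ≠ 1) : sympForm 3 k x y = 0 := by
  have h1 := form_mul hA x y
  rw [hx, hy] at h1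
  unfold sympForm at *
  rw [Matrix.mulVec_smul, dotProduct_smul, smul_dotProduct, smul_eq_mul, smul_eq_mul, ← mul_assoc, mul_comm b a] at h1
  by_contra h
  exact hab (mul_right_cancel₀ h (h1.trans (one_mul _).symm))

/-- the dual index -/
def du : Fin 3 ⊕ Fin 3 → Fin 3 ⊕ Fin 3 := Sum.elim Sum.inr Sum.inl

theorem linInd {A : Matrix (Fin 3 ⊕ Fin 3) (Fin 3 ⊕ Fin 3) k} {v : Fin 3 ⊕ Fin 3 → Fin 3 ⊕ Fin 3 → k}
    {l : Fin 3 ⊕ Fin 3 → k} (hv0 : ∀ i, v i ≠ 0) (hv : ∀ i, A *ᵥ v i = l i • v i) (hl : Function.Injective l) :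
    LinearIndependent k v :=
  Module.End.eigenvectors_linearIndependent' (Matrix.toLin' A) l hl v
    fun i => Module.End.hasEigenvector_iff.2 ⟨Module.End.mem_eigenspace_iff.2 (by rw [Matrix.toLin'_apply, hv]), hv0 i⟩

theorem isUnit_basis {v : Fin 3 ⊕ Fin 3 → Fin 3 ⊕ Fin 3 → k} (h : LinearIndependent k v) :
    IsUnit (Matrix.of fun i j => v j i : Matrix (Fin 3 ⊕ Fin 3) (Fin 3 ⊕ Fin 3) k) := by
  rw [← Matrix.linearIndependent_cols_iff_isUnit]
  exact h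

/-- dual eigenvectors are not orthogonal -/
theorem form_ne_zero {A : Matrix (Fin 3 ⊕ Fin 3) (Fin 3 ⊕ Fin 3) k} (hA : Sy A)
    {v : Fin 3 ⊕ Fin 3 → Fin 3 ⊕ Fin 3 → k} {l : Fin 3 ⊕ Fin 3 → k} (hv0 : ∀ i, v i ≠ 0)
    (hv : ∀ i, A *ᵥ v i = l i • v i) (hl : Function.Injective l) (hdu : ∀ i, l i * l (du i) = 1) (i : Fin 3 ⊕ Fin 3) :
    sympForm 3 k (v i) (v (du i)) ≠ 0 := by
  intro h0
  have hall : ∀ j, sympForm 3 k (v i) (v j) = 0 := by
    intro j
    by_cases hj : j = du i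
    · rw [hj, h0]
    · apply form_eq_zero hA (hv i) (hv j)
      intro h
      apply hj
      apply hl
      have hi : l i ≠ 0 := by
        intro h3
        rw [h3, zero_mul] at h
        exact zero_ne_one h
      exact mul_left_cancel₀ hi (h.trans (hdu i).symm)
  have hT := isUnit_basis (linInd hv0 hv hl)
  have h1 : (v i) ᵥ* (Matrix.J (Fin 3) k * (Matrix.of fun i j => v j i : Matrix (Fin 3 ⊕ Fin 3) (Fin 3 ⊕ Fin 3) k)) =
      0 := by
    funext j
    rw [← Matrix.vecMul_vecMul, Pi.zero_apply, ← hall j]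
    unfold sympForm
    rw [Matrix.dotProduct_mulVec]
    rfl
  have hJ : IsUnit (Matrix.J (Fin 3) k) := ⟨⟨Matrix.J (Fin 3) k, -Matrix.J (Fin 3) k,
    by rw [Matrix.mul_neg, Matrix.J_squared, neg_neg], by rw [Matrix.neg_mul, Matrix.J_squared, neg_neg]⟩, rfl⟩
  have h3 := Matrix.vecMul_injective_of_isUnit (hJ.mul hT)
  exact hv0 i (h3 (h1.trans (Matrix.zero_vecMul _).symm))

/-- a basis of eigenvectors with distinct eigenvalues, dual in pairs and normalised, is symplectic -/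
theorem sy_of_basis {A : Matrix (Fin 3 ⊕ Fin 3) (Fin 3 ⊕ Fin 3) k} (hA : Sy A)
    {v : Fin 3 ⊕ Fin 3 → Fin 3 ⊕ Fin 3 → k} {l : Fin 3 ⊕ Fin 3 → k}
    (hv : ∀ i, A *ᵥ v i = l i • v i) (hl : Function.Injective l) (hdu : ∀ i, l i * l (du i) = 1)
    (h1 : ∀ i : Fin 3, sympForm 3 k (v (Sum.inr i)) (v (Sum.inl i)) = 1)
    (h2 : ∀ i : Fin 3, sympForm 3 k (v (Sum.inl i)) (v (Sum.inr i)) = -1) :
    Sy (Matrix.of fun i j => v j i : Matrix (Fin 3 ⊕ Fin 3) (Fin 3 ⊕ Fin 3) k) := by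
  have e : ∀ i j, ((Matrix.of fun i j => v j i : Matrix (Fin 3 ⊕ Fin 3) (Fin 3 ⊕ Fin 3) k)ᵀ * Matrix.J (Fin 3) k *
      (Matrix.of fun i j => v j i : Matrix (Fin 3 ⊕ Fin 3) (Fin 3 ⊕ Fin 3) k)) i j = sympForm 3 k (v i) (v j) := by
    intro i j
    rw [Matrix.mul_assoc, Matrix.mul_apply]
    unfold sympForm
    rfl
  have hz : ∀ i j, j ≠ du i → sympForm 3 k (v i) (v j) = 0 := by
    intro i j hj
    apply form_eq_zero hA (hv i) (hv j)
    intro h
    apply hj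
    apply hl
    have hi : l i ≠ 0 := by
      intro h3
      rw [h3, zero_mul] at h
      exact zero_ne_one h
    exact mul_left_cancel₀ hi (h.trans (hdu i).symm)
  unfold Sy
  ext i j
  rw [e]
  by_cases hj : j = du i
  · subst hj
    rcases i with i | i
    · exact (h2 i).trans (by simp [du, Matrix.J])
    · exact (h1 i).trans (by simp [du, Matrix.J])
  · rw [hz i j hj]
    rcases i with i | i <;> rcases j with j | j
    · simp [Matrix.J]
    · have : i ≠ j := by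
        rintro rfl
        exact hj rfl
      simp [Matrix.J, Matrix.one_apply_ne this]
    · have : i ≠ j := by
        rintro rfl
        exact hj rfl
      simp [Matrix.J, Matrix.one_apply_ne this]
    · simp [Matrix.J]

end Basis

section Conj

variable {k : Type u} [Field k] {G : Type v} [Group G]

/-- `n` spans the space of vectors fixed by the representation -/
structure Fix1 (ρ : G →* GL (Fin 3 ⊕ Fin 3) k) (n : E → k) : Prop where
  ne : n ≠ 0
  fix : ∀ g, C (ρ g : Matrix (Fin 3 ⊕ Fin 3) (Fin 3 ⊕ Fin 3) k) *ᵥ n = n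
  uniq : ∀ n' : E → k, (∀ g, C (ρ g : Matrix (Fin 3 ⊕ Fin 3) (Fin 3 ⊕ Fin 3) k) *ᵥ n' = n') → ∃ c : k, n' = c • n

/-- fixed lines of conjugate representations -/
theorem Fix1.conj (h2 : (2 : k) = 0) {ρ ρ' : G →* GL (Fin 3 ⊕ Fin 3) k} (hρ : ∀ g, ρ g ∈ spGL 3 k)
    {T : GL (Fin 3 ⊕ Fin 3) k} (hT : T ∈ spGL 3 k) (hconj : ∀ g, ρ' g = T⁻¹ * ρ g * T) {n : E → k} (h : Fix1 ρ' n) :
    Fix1 ρ (C (T : Matrix (Fin 3 ⊕ Fin 3) (Fin 3 ⊕ Fin 3) k) *ᵥ n) := by
  have hTi : (T⁻¹ : GL (Fin 3 ⊕ Fin 3) k) ∈ spGL 3 k := inv_mem hT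
  have e1 : C (T : Matrix (Fin 3 ⊕ Fin 3) (Fin 3 ⊕ Fin 3) k) *
      C ((T⁻¹ : GL (Fin 3 ⊕ Fin 3) k) : Matrix (Fin 3 ⊕ Fin 3) (Fin 3 ⊕ Fin 3) k) = 1 := by
    rw [← C_mul h2 (sy_of_mem hT) (sy_of_mem hTi), ← Units.val_mul, mul_inv_cancel, Units.val_one, C_one]
  have e2 := mul_eq_one_comm.1 e1
  have e3 : ∀ g, C (ρ' g : Matrix (Fin 3 ⊕ Fin 3) (Fin 3 ⊕ Fin 3) k) =
      C ((T⁻¹ : GL (Fin 3 ⊕ Fin 3) k) : Matrix (Fin 3 ⊕ Fin 3) (Fin 3 ⊕ Fin 3) k) *
      C (ρ g : Matrix (Fin 3 ⊕ Fin 3) (Fin 3 ⊕ Fin 3) k) * C (T : Matrix (Fin 3 ⊕ Fin 3) (Fin 3 ⊕ Fin 3) k) := by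
    intro g
    rw [hconj, Units.val_mul, Units.val_mul, C_mul h2 ((sy_of_mem hTi).mul (sy_of_mem (hρ g))) (sy_of_mem hT),
      C_mul h2 (sy_of_mem hTi) (sy_of_mem (hρ g))]
  refine ⟨?_, ?_, ?_⟩
  · intro h0
    apply h.ne
    calc n = (C ((T⁻¹ : GL (Fin 3 ⊕ Fin 3) k) : Matrix (Fin 3 ⊕ Fin 3) (Fin 3 ⊕ Fin 3) k) *
        C (T : Matrix (Fin 3 ⊕ Fin 3) (Fin 3 ⊕ Fin 3) k)) *ᵥ n := by rw [e2, Matrix.one_mulVec]
      _ = 0 := by rw [← Matrix.mulVec_mulVec, h0, Matrix.mulVec_zero]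
  · intro g
    have h1 := h.fix g
    rw [e3] at h1
    have h3 := congrArg (fun x => C (T : Matrix (Fin 3 ⊕ Fin 3) (Fin 3 ⊕ Fin 3) k) *ᵥ x) h1
    rw [Matrix.mulVec_mulVec, ← Matrix.mul_assoc, ← Matrix.mul_assoc, e1, Matrix.one_mul] at h3
    rw [Matrix.mulVec_mulVec, h3]
  · intro n' hn'
    obtain ⟨c, hc⟩ := h.uniq (C ((T⁻¹ : GL (Fin 3 ⊕ Fin 3) k) : Matrix (Fin 3 ⊕ Fin 3) (Fin 3 ⊕ Fin 3) k) *ᵥ n')
      (fun g => by
        rw [e3, Matrix.mulVec_mulVec, Matrix.mul_assoc, e1, Matrix.mul_one, ← Matrix.mulVec_mulVec, hn' g])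
    refine ⟨c, ?_⟩
    rw [← Matrix.mulVec_smul, ← hc, Matrix.mulVec_mulVec, e1, Matrix.one_mulVec]

/-- descent of the fixed line -/
theorem Fix1.exists {F : Type u} [Field F] [Algebra F k] {P : Subgroup (GL (Fin 3 ⊕ Fin 3) F)} (f : G →* P)
    (hf : Function.Surjective f) {ρ : G →* GL (Fin 3 ⊕ Fin 3) k}
    (hρ : ∀ g, (ρ g : Matrix (Fin 3 ⊕ Fin 3) (Fin 3 ⊕ Fin 3) k) =
      ((f g : GL (Fin 3 ⊕ Fin 3) F) : Matrix (Fin 3 ⊕ Fin 3) (Fin 3 ⊕ Fin 3) F).map (algebraMap F k))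
    {n : E → k} (h : Fix1 ρ n) : ∃ n : E → F, FixOne P n := by
  apply exists_fixOne h.ne
  · intro g hg
    obtain ⟨x, hx⟩ := hf ⟨g, hg⟩
    have h1 := h.fix x
    rw [hρ, hx] at h1
    exact h1
  · intro n' hn'
    apply h.uniq
    intro x
    rw [hρ]
    exact hn' _ (f x).2

end Conj

end Cfsg.Agent.H914.S6.Spin
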