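import Cfsg.Agent.H914.SpinF
import Cfsg.Agent.H464.Sl2Dims

/-!
# `L₂(13)` in `Sp₆(2^a)` fixes a line of the spin module (helper914)
-/

set_option autoImplicit false
set_option linter.unusedSectionVars false
set_option maxHeartbeats 400000

namespace Cfsg.Agent.H914.S6.Spin.L

open Matrix Cfsg Cfsg.Geo Cfsg.Agent.H915.LD Module Cfsg.Agent.H464.Sl2
open scoped MatrixGroups

universe u v

local instance fact13 : Fact (Nat.Prime 13) := ⟨by norm_num⟩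

variable {k : Type u} [Field k]

/-- the permutation `e₁ → f₃ → e₂ → f₁ → e₃ → f₂ → e₁` -/
def pi (i : Fin 3 ⊕ Fin 3) : Fin 3 ⊕ Fin 3 :=
  Sum.elim ![Sum.inr 2, Sum.inr 0, Sum.inr 1] ![Sum.inl 2, Sum.inl 0, Sum.inl 1] i

/-- the permutation matrix -/
def hm (k : Type u) [Field k] : Matrix (Fin 3 ⊕ Fin 3) (Fin 3 ⊕ Fin 3) k := Matrix.of fun i j => if i = pi j then 1 else 0

/-- the all-inl triple -/
abbrev e0 : E := (false, false, false)
/-- the all-inr triple -/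
abbrev e1 : E := (true, true, true)

/-- the fixed vector -/
def n0 (k : Type u) [Field k] : E → k := fun ε => if ε = e0 ∨ ε = e1 then 1 else 0

theorem C_hm (h2 : (2 : k) = 0) (δ ε : E) : C (hm k) δ ε = if δ = (!ε.2.1, !ε.2.2, !ε.1) then 1 else 0 := by
  have hneg : (-1 : k) = 1 := by linear_combination (-1 : k) * h2
  obtain ⟨a, b, c⟩ := δ
  obtain ⟨a', b', c'⟩ := ε
  rw [C_apply]
  simp only [d3, ix_zero, ix_one, ix_two, hm, pi, Matrix.of_apply]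
  rcases a <;> rcases b <;> rcases c <;> rcases a' <;> rcases b' <;> rcases c' <;> simp [hneg]

theorem C_hm_mulVec (h2 : (2 : k) = 0) (n : E → k) (ε : E) :
    (C (hm k) *ᵥ n) ε = n (!ε.2.2, !ε.1, !ε.2.1) := by
  simp only [Matrix.mulVec, dotProduct, C_hm h2]
  have : ∀ x : E, (if ε = (!x.2.1, !x.2.2, !x.1) then (1 : k) else 0) * n x =
      if x = (!ε.2.2, !ε.1, !ε.2.1) then n x else 0 := by
    intro x
    have h : (ε = (!x.2.1, !x.2.2, !x.1)) ↔ (x = (!ε.2.2, !ε.1, !ε.2.1)) := by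
      constructor
      · rintro rfl
        simp
      · rintro rfl
        simp
    by_cases hx : x = (!ε.2.2, !ε.1, !ε.2.1)
    · rw [if_pos (h.2 hx), if_pos hx, one_mul]
    · rw [if_neg (fun h' => hx (h.1 h')), if_neg hx, zero_mul]
  simp only [this, Finset.sum_ite_eq', Finset.mem_univ, if_true]

/-- the data of the representation in the good basis -/
structure Good (ρ : Matrix.SpecialLinearGroup (Fin 2) (ZMod 13) →* GL (Fin 3 ⊕ Fin 3) k) (b : kˣ) : Prop where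
  two : (2 : k) = 0
  ord : orderOf b = 13
  sp : ∀ g, ρ g ∈ spGL 3 k
  cen : ρ (-1) = 1
  u1 : (ρ (u 1) : Matrix (Fin 3 ⊕ Fin 3) (Fin 3 ⊕ Fin 3) k) = dg ![b, b ^ 9, b ^ 3]
  t2 : ∀ a : (ZMod 13)ˣ, (a : ZMod 13) = 2 → (ρ (t a) : Matrix (Fin 3 ⊕ Fin 3) (Fin 3 ⊕ Fin 3) k) = hm k

/-- the exponent of a triple -/
def ex (ε : E) : ℤ := (bif ε.1 then -1 else 1) + (bif ε.2.1 then -9 else 9) + (bif ε.2.2 then -3 else 3)

theorem wt_eq (b : kˣ) (ε : E) : wt ![b, b ^ 9, b ^ 3] ε = b ^ ex ε := by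
  obtain ⟨x, y, z⟩ := ε
  unfold wt ex
  rcases x <;> rcases y <;> rcases z <;>
    simp only [Matrix.cons_val_zero, Matrix.cons_val_one, Matrix.cons_val, cond_true, cond_false] <;> group

theorem ex_cases : ∀ ε δ : E, (13 : ℤ) ∣ ex ε - ex δ → ε = δ ∨ ((ε = e0 ∨ ε = e1) ∧ (δ = e0 ∨ δ = e1)) := by
  unfold ex
  decide

theorem ex_zero : ∀ ε : E, (13 : ℤ) ∣ ex ε → ε = e0 ∨ ε = e1 := by
  unfold ex
  decide

theorem ex_e : (13 : ℤ) ∣ ex e0 ∧ (13 : ℤ) ∣ ex e1 := by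
  unfold ex
  decide


theorem eq_of_wt {b : kˣ} (hb : orderOf b = 13) {ε δ : E} (h : wt ![b, b ^ 9, b ^ 3] ε = wt ![b, b ^ 9, b ^ 3] δ) :
    ε = δ ∨ ((ε = e0 ∨ ε = e1) ∧ (δ = e0 ∨ δ = e1)) := by
  apply ex_cases
  rw [wt_eq, wt_eq, ← div_eq_one, div_eq_mul_inv, ← _root_.zpow_sub] at h
  have := orderOf_dvd_iff_zpow_eq_one.2 h
  rwa [hb] at this

theorem wt_one_iff {b : kˣ} (hb : orderOf b = 13) {ε : E} :
    wt ![b, b ^ 9, b ^ 3] ε = 1 ↔ ε = e0 ∨ ε = e1 := by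
  constructor
  · intro h
    apply ex_zero
    rw [wt_eq] at h
    have := orderOf_dvd_iff_zpow_eq_one.2 h
    rwa [hb] at this
  · intro h
    rw [wt_eq, ← orderOf_dvd_iff_zpow_eq_one, hb]
    rcases h with rfl | rfl
    exacts [ex_e.1, ex_e.2]

/-- the invariant form -/
def bt (m n : E → k) : k := ∑ ε, m ε * n (bar ε)

theorem bt_eq (h2 : (2 : k) = 0) (m n : E → k) : bt m n = m ⬝ᵥ (C (Matrix.J (Fin 3) k) *ᵥ n) := by
  unfold bt
  rw [dotProduct]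
  exact Finset.sum_congr rfl fun ε _ => by rw [C_J_mulVec h2]

theorem bt_inv (h2 : (2 : k) = 0) {g : Matrix (Fin 3 ⊕ Fin 3) (Fin 3 ⊕ Fin 3) k} (hg : Sy g) (m n : E → k) :
    bt (C g *ᵥ m) (C g *ᵥ n) = bt m n := by
  rw [bt_eq h2, bt_eq h2]
  conv_rhs => rw [← C_form h2 hg]
  rw [← Matrix.mulVec_mulVec, ← Matrix.mulVec_mulVec, Matrix.dotProduct_mulVec m, Matrix.vecMul_transpose]

theorem bt_n0 (h2 : (2 : k) = 0) : bt (n0 k) (n0 k) = 0 := by
  unfold bt n0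
  simp only [Fintype.sum_prod_type, Fintype.sum_bool, bar]
  simp
  linear_combination h2

namespace Good

variable {ρ : Matrix.SpecialLinearGroup (Fin 2) (ZMod 13) →* GL (Fin 3 ⊕ Fin 3) k} {b : kˣ} (D : Good ρ b)
include D

/-- the action on the spin module -/
theorem mul (g h : Matrix.SpecialLinearGroup (Fin 2) (ZMod 13)) (m : E → k) :
    C (ρ (g * h) : Matrix (Fin 3 ⊕ Fin 3) (Fin 3 ⊕ Fin 3) k) *ᵥ m =
      C (ρ g : Matrix (Fin 3 ⊕ Fin 3) (Fin 3 ⊕ Fin 3) k) *ᵥ (C (ρ h : Matrix (Fin 3 ⊕ Fin 3) (Fin 3 ⊕ Fin 3) k) *ᵥ m) := by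
  rw [map_mul, Units.val_mul, C_mul D.two (sy_of_mem (D.sp g)) (sy_of_mem (D.sp h)), Matrix.mulVec_mulVec]

theorem one (m : E → k) : C (ρ 1 : Matrix (Fin 3 ⊕ Fin 3) (Fin 3 ⊕ Fin 3) k) *ᵥ m = m := by
  rw [map_one, Units.val_one, C_one, Matrix.one_mulVec]

theorem u_pow (n : ℕ) (m : E → k) (ε : E) : (C (ρ (u 1 ^ n) : Matrix (Fin 3 ⊕ Fin 3) (Fin 3 ⊕ Fin 3) k) *ᵥ m) ε =
    (wt ![b, b ^ 9, b ^ 3] ε : k) ^ n * m ε := by
  induction n generalizing m with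
  | zero => rw [pow_zero, D.one, pow_zero, one_mul]
  | succ n ih => rw [pow_succ (u 1) n, D.mul, ih, D.u1, C_dg_mulVec, pow_succ _ n, mul_assoc]

theorem u_eq_pow (x : ZMod 13) : u x = u (1 : ZMod 13) ^ x.val := by
  have h : ∀ n : ℕ, u (n : ZMod 13) = u 1 ^ n := by
    intro n
    induction n with
    | zero => rw [Nat.cast_zero, u_zero, pow_zero]
    | succ n ih => rw [Nat.cast_succ, u_add, ih, pow_succ]
  rw [← h, ZMod.natCast_zmod_val]

theorem u_n0 (x : ZMod 13) : C (ρ (u x) : Matrix (Fin 3 ⊕ Fin 3) (Fin 3 ⊕ Fin 3) k) *ᵥ n0 k = n0 k := by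
  rw [D.u_eq_pow x]
  funext ε
  rw [D.u_pow]
  by_cases h : ε = e0 ∨ ε = e1
  · rw [(wt_one_iff D.ord).2 h, Units.val_one, one_pow, one_mul]
  · have : n0 k ε = 0 := by
      unfold n0
      rw [if_neg h]
    rw [this, mul_zero]

theorem t_n0 (a : (ZMod 13)ˣ) : C (ρ (t a) : Matrix (Fin 3 ⊕ Fin 3) (Fin 3 ⊕ Fin 3) k) *ᵥ n0 k = n0 k := by
  obtain ⟨c, hc⟩ : ∃ c : (ZMod 13)ˣ, (c : ZMod 13) = 2 := ⟨⟨2, 7, by decide, by decide⟩, rfl⟩
  have h1 : C (ρ (t c) : Matrix (Fin 3 ⊕ Fin 3) (Fin 3 ⊕ Fin 3) k) *ᵥ n0 k = n0 k := by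
    rw [D.t2 c hc]
    funext ε
    rw [C_hm_mulVec D.two]
    obtain ⟨x, y, z⟩ := ε
    unfold n0
    rcases x <;> rcases y <;> rcases z <;> simp
  have h2 : ∀ n : ℕ, C (ρ (t (c ^ n)) : Matrix (Fin 3 ⊕ Fin 3) (Fin 3 ⊕ Fin 3) k) *ᵥ n0 k = n0 k := by
    intro n
    induction n with
    | zero => rw [pow_zero, t_one, D.one]
    | succ n ih => rw [pow_succ, t_mul, D.mul, h1, ih]
  have h3 : ∀ x : ZMod 13, x ≠ 0 → ∃ n : ℕ, n < 12 ∧ x = 2 ^ n := by decide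
  obtain ⟨n, -, hn⟩ := h3 a a.ne_zero
  have : a = c ^ n := Units.ext (by rw [hn, Units.val_pow_eq_pow_val, hc])
  rw [this]
  exact h2 n

theorem uniq (n' : E → k) (hn : ∀ g, C (ρ g : Matrix (Fin 3 ⊕ Fin 3) (Fin 3 ⊕ Fin 3) k) *ᵥ n' = n') :
    ∃ c : k, n' = c • n0 k := by
  obtain ⟨c, hc⟩ : ∃ c : (ZMod 13)ˣ, (c : ZMod 13) = 2 := ⟨⟨2, 7, by decide, by decide⟩, rfl⟩
  have h1 := hn (t c)
  rw [D.t2 c hc] at h1
  have h3 := congrFun h1 e0
  rw [C_hm_mulVec D.two] at h3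
  refine ⟨n' e0, ?_⟩
  funext ε
  rw [Pi.smul_apply, smul_eq_mul]
  unfold n0
  by_cases h : ε = e0 ∨ ε = e1
  · rw [if_pos h, mul_one]
    rcases h with rfl | rfl
    · rfl
    · exact h3
  · rw [if_neg h, mul_zero]
    have h4 := congrFun (hn (u 1)) ε
    rw [D.u1, C_dg_mulVec] at h4
    by_contra h5
    apply h
    rw [← wt_one_iff D.ord]
    apply Units.ext
    rw [Units.val_one]
    exact mul_right_cancel₀ h5 (h4.trans (one_mul _).symm)


theorem bt_uwu (x y : ZMod 13) (c : (ZMod 13)ˣ) :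
    bt (n0 k) (C (ρ (u x * w c * u y) : Matrix (Fin 3 ⊕ Fin 3) (Fin 3 ⊕ Fin 3) k) *ᵥ n0 k) =
      bt (n0 k) (C (ρ (w 1) : Matrix (Fin 3 ⊕ Fin 3) (Fin 3 ⊕ Fin 3) k) *ᵥ n0 k) := by
  have h1 := bt_inv D.two (sy_of_mem (D.sp (u x))) (n0 k)
    (C (ρ (w 1) : Matrix (Fin 3 ⊕ Fin 3) (Fin 3 ⊕ Fin 3) k) *ᵥ n0 k)
  rw [D.u_n0] at h1
  rw [D.mul, D.u_n0, D.mul, ← w_one_mul_t, D.mul, D.t_n0]
  exact h1

theorem bt_ut (x : ZMod 13) (a : (ZMod 13)ˣ) :
    bt (n0 k) (C (ρ (u x * t a) : Matrix (Fin 3 ⊕ Fin 3) (Fin 3 ⊕ Fin 3) k) *ᵥ n0 k) = 0 := by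
  rw [D.mul, D.t_n0, D.u_n0, bt_n0 D.two]

omit D in
theorem lower {z : ZMod 13} (hz : z ≠ 0) :
    (w 1)⁻¹ * u z * w 1 = u (-z⁻¹) * w (-(Units.mk0 z hz)) * u (-z⁻¹) := by
  apply Subtype.ext
  rw [Matrix.SpecialLinearGroup.coe_mul, Matrix.SpecialLinearGroup.coe_mul, Matrix.SpecialLinearGroup.coe_inv,
    Matrix.SpecialLinearGroup.coe_mul, Matrix.SpecialLinearGroup.coe_mul, Matrix.adjugate_fin_two]
  ext i j
  fin_cases i <;> fin_cases j <;> simp [Matrix.mul_apply, hz]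

/-- scalar products of two translates -/
theorem bt_gh (g h : Matrix.SpecialLinearGroup (Fin 2) (ZMod 13)) :
    bt (C (ρ g : Matrix (Fin 3 ⊕ Fin 3) (Fin 3 ⊕ Fin 3) k) *ᵥ n0 k)
      (C (ρ h : Matrix (Fin 3 ⊕ Fin 3) (Fin 3 ⊕ Fin 3) k) *ᵥ n0 k) =
    bt (n0 k) (C (ρ (g⁻¹ * h) : Matrix (Fin 3 ⊕ Fin 3) (Fin 3 ⊕ Fin 3) k) *ᵥ n0 k) := by
  rw [← bt_inv D.two (sy_of_mem (D.sp g)) (n0 k), ← D.mul, mul_inv_cancel_left]

/-- the scalar product of `n0` and its image under `w` is zero -/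
theorem gamma_zero : bt (n0 k) (C (ρ (w 1) : Matrix (Fin 3 ⊕ Fin 3) (Fin 3 ⊕ Fin 3) k) *ᵥ n0 k) = 0 := by
  by_contra hγ
  let g : Option (ZMod 13) → Matrix.SpecialLinearGroup (Fin 2) (ZMod 13) := fun o => o.elim 1 fun x => u x * w 1
  let X : Option (ZMod 13) → E → k := fun o => C (ρ (g o) : Matrix (Fin 3 ⊕ Fin 3) (Fin 3 ⊕ Fin 3) k) *ᵥ n0 k
  have hX : ∀ i j, bt (X i) (X j) = if i = j then 0 else
      bt (n0 k) (C (ρ (w 1) : Matrix (Fin 3 ⊕ Fin 3) (Fin 3 ⊕ Fin 3) k) *ᵥ n0 k) := by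
    intro i j
    rw [D.bt_gh]
    split_ifs with hij
    · subst hij
      rw [inv_mul_cancel, D.one, bt_n0 D.two]
    · rcases i with _ | x <;> rcases j with _ | y
      · exact absurd rfl hij
      · have : (g none)⁻¹ * g (some y) = u y * w 1 * u 0 := by
          change (1 : Matrix.SpecialLinearGroup (Fin 2) (ZMod 13))⁻¹ * (u y * w 1) = _
          rw [u_zero, mul_one, inv_one, one_mul]
        rw [this]
        exact D.bt_uwu y 0 1
      · have : (g (some x))⁻¹ * g none = u 0 * w (-1) * u (-x) := by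
          apply Subtype.ext
          change ((u x * w 1)⁻¹ * 1 : Matrix.SpecialLinearGroup (Fin 2) (ZMod 13)).1 = _
          rw [mul_one, Matrix.SpecialLinearGroup.coe_inv, Matrix.adjugate_fin_two]
          ext i j
          fin_cases i <;> fin_cases j <;> simp
        rw [this]
        exact D.bt_uwu 0 (-x) (-1)
      · have hxy : y - x ≠ 0 := by
          intro h
          exact hij (by rw [sub_eq_zero.1 h])
        have : (g (some x))⁻¹ * g (some y) = u (-(y - x)⁻¹) * w (-(Units.mk0 _ hxy)) * u (-(y - x)⁻¹) := by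
          rw [← lower hxy]
          change (u x * w 1)⁻¹ * (u y * w 1) = _
          have h : u y = u x * u (y - x) := by rw [← u_add, add_sub_cancel]
          rw [h]
          group
        rw [this]
        exact D.bt_uwu _ _ _
  have hli : LinearIndependent k X := by
    rw [Fintype.linearIndependent_iff]
    intro a ha
    have h1 : ∀ j, a j = ∑ i, a i := by
      intro j
      have h3 : bt (X j) (∑ i, a i • X i) = 0 := by
        rw [ha]
        unfold bt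
        simp
      have h4 : bt (X j) (∑ i, a i • X i) = ∑ i, a i * bt (X j) (X i) := by
        unfold bt
        simp only [Finset.sum_apply, Pi.smul_apply, smul_eq_mul, Finset.mul_sum]
        rw [Finset.sum_comm]
        refine Finset.sum_congr rfl fun i _ => Finset.sum_congr rfl fun e _ => ?_
        ring
      rw [h4] at h3
      have h5 : ∑ i, a i * bt (X j) (X i) = (∑ i, a i - a j) *
          bt (n0 k) (C (ρ (w 1) : Matrix (Fin 3 ⊕ Fin 3) (Fin 3 ⊕ Fin 3) k) *ᵥ n0 k) := by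
        rw [← Finset.add_sum_erase Finset.univ a (Finset.mem_univ j),
          ← Finset.add_sum_erase Finset.univ (fun i => a i * bt (X j) (X i)) (Finset.mem_univ j), hX, if_pos rfl, mul_zero,
          zero_add, add_sub_cancel_left, Finset.sum_mul]
        refine Finset.sum_congr rfl fun i hi => ?_
        rw [hX, if_neg (Finset.ne_of_mem_erase hi).symm]
      rw [h5] at h3
      rcases mul_eq_zero.1 h3 with h | h
      · exact (sub_eq_zero.1 h).symm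
      · exact absurd h hγ
    have h6 : ∑ i, a i = 0 := by
      have h7 : ∑ i, a i = (Fintype.card (Option (ZMod 13)) : ℕ) • ∑ i, a i := by
        conv_lhs => rw [Finset.sum_congr rfl fun i _ => h1 i]
        rw [Finset.sum_const, Finset.card_univ]
      have h8 : Fintype.card (Option (ZMod 13)) = 14 := by
        rw [Fintype.card_option, ZMod.card]
      rw [h8, nsmul_eq_mul] at h7
      have h9 := D.two
      push_cast at h7
      linear_combination h7 + 7 * (∑ i, a i) * h9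
    intro i
    rw [h1 i, h6]
  have h10 := hli.fintype_card_le_finrank
  rw [Module.finrank_fintype_fun_eq_card, Fintype.card_option, ZMod.card] at h10
  exact absurd h10 (by decide)


theorem bt_all (g h : Matrix.SpecialLinearGroup (Fin 2) (ZMod 13)) :
    bt (C (ρ g : Matrix (Fin 3 ⊕ Fin 3) (Fin 3 ⊕ Fin 3) k) *ᵥ n0 k)
      (C (ρ h : Matrix (Fin 3 ⊕ Fin 3) (Fin 3 ⊕ Fin 3) k) *ᵥ n0 k) = 0 := by
  rw [D.bt_gh]
  rcases bruhat (g⁻¹ * h) with ⟨x, a, hx⟩ | ⟨x, c, y, hx⟩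
  · rw [hx]
    exact D.bt_ut x a
  · rw [hx, D.bt_uwu, D.gamma_zero]

theorem sum_zero (n : ℕ) : ∑ ε : E, (wt ![b, b ^ 9, b ^ 3] ε : k) ^ n *
    ((C (ρ (w 1) : Matrix (Fin 3 ⊕ Fin 3) (Fin 3 ⊕ Fin 3) k) *ᵥ n0 k) ε) ^ 2 = 0 := by
  obtain ⟨c, hc⟩ : ∃ c : (ZMod 13)ˣ, (c : ZMod 13) = 2 := ⟨⟨2, 7, by decide, by decide⟩, rfl⟩
  have h1 := D.bt_all (w 1) (t c * (t c * (t c * (u 1 ^ n * w 1))))
  rw [D.mul, D.mul, D.mul, D.mul (u 1 ^ n), D.t2 c hc] at h1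
  rw [← h1]
  unfold bt
  refine Finset.sum_congr rfl fun ε _ => ?_
  rw [C_hm_mulVec D.two, C_hm_mulVec D.two, C_hm_mulVec D.two, D.u_pow]
  obtain ⟨x, y, z⟩ := ε
  simp only [bar, Bool.not_not]
  ring

theorem w_zero {ε : E} (hε : ¬ (ε = e0 ∨ ε = e1)) :
    (C (ρ (w 1) : Matrix (Fin 3 ⊕ Fin 3) (Fin 3 ⊕ Fin 3) k) *ᵥ n0 k) ε = 0 := by
  set v := C (ρ (w 1) : Matrix (Fin 3 ⊕ Fin 3) (Fin 3 ⊕ Fin 3) k) *ᵥ n0 k with hv
  have h1 : ∑ n ∈ Finset.range 13, ((wt ![b, b ^ 9, b ^ 3] ε : k)⁻¹) ^ n *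
      ∑ δ : E, (wt ![b, b ^ 9, b ^ 3] δ : k) ^ n * (v δ) ^ 2 = 0 := by
    apply Finset.sum_eq_zero
    intro n _
    rw [D.sum_zero n, mul_zero]
  have h2 : ∑ n ∈ Finset.range 13, ((wt ![b, b ^ 9, b ^ 3] ε : k)⁻¹) ^ n *
      ∑ δ : E, (wt ![b, b ^ 9, b ^ 3] δ : k) ^ n * (v δ) ^ 2 =
      ∑ δ : E, (∑ n ∈ Finset.range 13, ((wt ![b, b ^ 9, b ^ 3] ε : k)⁻¹ * wt ![b, b ^ 9, b ^ 3] δ) ^ n) * (v δ) ^ 2 := by
    simp only [Finset.mul_sum, Finset.sum_mul]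
    rw [Finset.sum_comm]
    refine Finset.sum_congr rfl fun δ _ => Finset.sum_congr rfl fun n _ => ?_
    rw [mul_pow]
    ring
  have h13 : ∀ δ : E, (wt ![b, b ^ 9, b ^ 3] δ : kˣ) ^ 13 = 1 := by
    intro δ
    have hb : b ^ 13 = 1 := by
      rw [← D.ord]
      exact pow_orderOf_eq_one b
    rw [wt_eq, ← zpow_natCast, ← _root_.zpow_mul, mul_comm, _root_.zpow_mul, zpow_natCast, hb, _root_.one_zpow]
  have h3 : ∀ δ : E, δ ≠ ε → ∑ n ∈ Finset.range 13, ((wt ![b, b ^ 9, b ^ 3] ε : k)⁻¹ * wt ![b, b ^ 9, b ^ 3] δ) ^ n = 0 := by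
    intro δ hδ
    have hne : (wt ![b, b ^ 9, b ^ 3] ε : k)⁻¹ * wt ![b, b ^ 9, b ^ 3] δ ≠ 1 := by
      intro h
      rw [inv_mul_eq_one₀ (Units.ne_zero _)] at h
      rcases eq_of_wt D.ord (Units.ext h) with h4 | h4
      · exact hδ h4.symm
      · exact hε h4.1
    rw [geom_sum_eq hne, mul_pow, inv_pow, ← Units.val_pow_eq_pow_val, ← Units.val_pow_eq_pow_val, h13, h13,
      Units.val_one, inv_one, mul_one, sub_self, zero_div]
  rw [h2, ← Finset.add_sum_erase Finset.univ _ (Finset.mem_univ ε), Finset.sum_eq_zero (s := Finset.univ.erase ε)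
    (fun δ hδ => by rw [h3 δ (Finset.ne_of_mem_erase hδ), zero_mul]), add_zero,
    inv_mul_cancel₀ (Units.ne_zero _)] at h1
  simp only [one_pow, Finset.sum_const, Finset.card_range, nsmul_eq_mul, mul_one] at h1
  have h5 : ((13 : ℕ) : k) = 1 := by
    push_cast
    linear_combination 6 * D.two
  rw [h5, one_mul] at h1
  exact pow_eq_zero_iff (two_ne_zero) |>.1 h1

theorem w_fix : C (ρ (w 1) : Matrix (Fin 3 ⊕ Fin 3) (Fin 3 ⊕ Fin 3) k) *ᵥ n0 k = n0 k := by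
  set v := C (ρ (w 1) : Matrix (Fin 3 ⊕ Fin 3) (Fin 3 ⊕ Fin 3) k) *ᵥ n0 k with hv
  have h0 : v e0 = v e1 := by
    have h1 := D.sum_zero 0
    rw [← hv] at h1
    have h3 : ∀ ε : E, ¬ (ε = e0 ∨ ε = e1) → v ε = 0 := fun ε h => D.w_zero h
    simp only [pow_zero, one_mul, Fintype.sum_prod_type, Fintype.sum_bool] at h1
    rw [h3 (true, true, false) (by simp), h3 (true, false, true) (by simp), h3 (true, false, false) (by simp),
      h3 (false, true, true) (by simp), h3 (false, true, false) (by simp), h3 (false, false, true) (by simp)] at h1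
    have h4 : (v e0 - v e1) ^ 2 = 0 := by
      linear_combination h1 - v e0 * v e1 * D.two
    exact sub_eq_zero.1 (pow_eq_zero_iff (two_ne_zero) |>.1 h4)
  have h1 : v = v e0 • n0 k := by
    funext ε
    rw [Pi.smul_apply, smul_eq_mul]
    unfold n0
    by_cases h : ε = e0 ∨ ε = e1
    · rw [if_pos h, mul_one]
      rcases h with rfl | rfl
      · rfl
      · exact h0.symm
    · rw [if_neg h, mul_zero]
      exact D.w_zero h
  have h3 : (w (1 : (ZMod 13)ˣ)) * w 1 = -1 := by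
    apply Subtype.ext
    rw [Matrix.SpecialLinearGroup.coe_mul, Matrix.SpecialLinearGroup.coe_neg, Matrix.SpecialLinearGroup.coe_one]
    ext i j
    fin_cases i <;> fin_cases j <;> simp [Matrix.mul_apply]
  have h4 := D.mul (w 1) (w 1) (n0 k)
  rw [h3, D.cen, Units.val_one, C_one, Matrix.one_mulVec, ← hv, h1, Matrix.mulVec_smul, ← hv, h1, smul_smul] at h4
  have h5 := congrFun h4 e0
  rw [Pi.smul_apply, smul_eq_mul] at h5
  have h6 : n0 k e0 = 1 := by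
    unfold n0
    rw [if_pos (Or.inl rfl)]
  rw [h6, mul_one, Pi.smul_apply, smul_eq_mul, h6, mul_one] at h5
  have h7 : (v e0 - 1) ^ 2 = 0 := by
    linear_combination -h5 + (1 - v e0) * D.two
  have h8 := sub_eq_zero.1 (pow_eq_zero_iff (two_ne_zero) |>.1 h7)
  rw [h1, h8, one_smul]

theorem fix (g : Matrix.SpecialLinearGroup (Fin 2) (ZMod 13)) :
    C (ρ g : Matrix (Fin 3 ⊕ Fin 3) (Fin 3 ⊕ Fin 3) k) *ᵥ n0 k = n0 k := by
  rcases bruhat g with ⟨x, a, rfl⟩ | ⟨x, c, y, rfl⟩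
  · rw [D.mul, D.t_n0, D.u_n0]
  · rw [D.mul, D.u_n0, D.mul, ← w_one_mul_t, D.mul, D.t_n0, D.w_fix, D.u_n0]

theorem fix1 : Fix1 ρ (n0 k) where
  ne := by
    intro h
    have := congrFun h e0
    unfold n0 at this
    simp at this
  fix := D.fix
  uniq := D.uniq

end Good

end Cfsg.Agent.H914.S6.Spin.L
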