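import Cfsg.Agent.H914.SpinL

/-!
# The good basis for `SL₂(13)` in `Sp₆(k)`, characteristic two (helper914)
-/

set_option autoImplicit false
set_option linter.unusedSectionVars false
set_option maxHeartbeats 400000

namespace Cfsg.Agent.H914.S6.Spin.L

open Matrix Cfsg Cfsg.Geo Cfsg.Agent.H915.LD Module Cfsg.Agent.H464.Sl2
open scoped MatrixGroups

universe u v

local instance fact13' : Fact (Nat.Prime 13) := ⟨by norm_num⟩

variable {k : Type u} [Field k]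

theorem sympForm_smul (a c : k) (x y : Fin 3 ⊕ Fin 3 → k) : sympForm 3 k (a • x) (c • y) = a * c * sympForm 3 k x y := by
  unfold sympForm
  rw [Matrix.mulVec_smul, dotProduct_smul, smul_dotProduct, smul_eq_mul, smul_eq_mul]
  ring

theorem sympForm_symm (x y : Fin 3 ⊕ Fin 3 → k) : sympForm 3 k x y = -sympForm 3 k y x := by
  unfold sympForm
  rw [Matrix.dotProduct_mulVec x, ← Matrix.mulVec_transpose, Matrix.J_transpose, Matrix.neg_mulVec, neg_dotProduct,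
    dotProduct_comm]

/-- the exponent of the torus element for the column -/
def sj : Fin 3 ⊕ Fin 3 → ℕ := Sum.elim ![0, 2, 4] ![3, 5, 1]

/-- the exponent of the eigenvalue for the column -/
def mj : Fin 3 ⊕ Fin 3 → ℕ := Sum.elim ![1, 9, 3] ![12, 4, 10]

theorem mj_spec : ∀ j, (mj j : ZMod 13) * (2 ^ sj j) ^ 2 = 1 := by decide

theorem mj_inj : ∀ i j, (13 : ℤ) ∣ (mj i : ℤ) - mj j → i = j := by decide

theorem mj_du : ∀ i, mj i + mj (du i) = 13 := by decide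

theorem sj_pi : ∀ j, (sj (pi j) : ZMod 6) = sj j + 1 := by decide

variable [IsAlgClosed k] (h2 : (2 : k) = 0)
  (ρ : Matrix.SpecialLinearGroup (Fin 2) (ZMod 13) →* GL (Fin 3 ⊕ Fin 3) k)
  (sp : ∀ g, ρ g ∈ spGL 3 k) (cen : ρ (-1) = 1) (hu : ρ (u 1) ≠ 1)
include h2 ρ sp cen hu

theorem exists_good : ∃ (T : GL (Fin 3 ⊕ Fin 3) k) (_ : T ∈ spGL 3 k)
    (ρ' : Matrix.SpecialLinearGroup (Fin 2) (ZMod 13) →* GL (Fin 3 ⊕ Fin 3) k) (b : kˣ),
    (∀ g, ρ' g = T⁻¹ * ρ g * T) ∧ Good ρ' b := by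
  have h13 : ((13 : ℕ) : k) ≠ 0 := by
    have : ((13 : ℕ) : k) = 1 := by
      push_cast
      linear_combination 6 * h2
    rw [this]
    exact one_ne_zero
  have u_eq_pow : ∀ n : ℕ, u (n : ZMod 13) = u 1 ^ n := by
    intro n
    induction n with
    | zero => rw [Nat.cast_zero, u_zero, pow_zero]
    | succ n ih => rw [Nat.cast_succ, u_add, ih, pow_succ]
  have hu13 : (ρ (u 1)) ^ 13 = 1 := by
    rw [← map_pow, ← u_eq_pow]
    have : ((13 : ℕ) : ZMod 13) = 0 := by decide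
    rw [this, u_zero, map_one]
  obtain ⟨β, x, hβ1, hβ13, hx0, hx⟩ := exists_eig (Matrix.toLin' (ρ (u 1) : Matrix (Fin 3 ⊕ Fin 3) (Fin 3 ⊕ Fin 3) k))
    h13 (by
      rw [← Matrix.toLin'_pow, ← Units.val_pow_eq_pow_val, hu13, Units.val_one, Matrix.toLin'_one]
      rfl) (by
      intro h
      apply hu
      apply Units.ext
      apply Matrix.toLin'.injective
      rw [h, Units.val_one, Matrix.toLin'_one]
      rfl)
  rw [Matrix.toLin'_apply] at hx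
  have hβ0 : β ≠ 0 := by
    rintro rfl
    rw [zero_pow (by norm_num)] at hβ13
    exact zero_ne_one hβ13
  -- the order
  have hord : orderOf (Units.mk0 β hβ0) = 13 := by
    apply orderOf_eq_prime
    · apply Units.ext
      rw [Units.val_pow_eq_pow_val, Units.val_mk0, hβ13, Units.val_one]
    · intro h
      apply hβ1
      have := congrArg Units.val h
      rwa [Units.val_mk0, Units.val_one] at this
  obtain ⟨c, hc⟩ : ∃ c : (ZMod 13)ˣ, (c : ZMod 13) = 2 := ⟨⟨2, 7, by decide, by decide⟩, rfl⟩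
  have hc6 : t (c ^ 6) = -1 := by
    apply Subtype.ext
    rw [Matrix.SpecialLinearGroup.coe_neg, Matrix.SpecialLinearGroup.coe_one]
    have h1 : ((c ^ 6 : (ZMod 13)ˣ) : ZMod 13) = -1 := by
      rw [Units.val_pow_eq_pow_val, hc]
      decide
    have h3 : (((c ^ 6)⁻¹ : (ZMod 13)ˣ) : ZMod 13) = -1 := by
      have : ((c ^ 6)⁻¹ : (ZMod 13)ˣ) = -1 := by
        rw [inv_eq_iff_eq_inv, inv_neg, inv_one]
        apply Units.ext
        rw [h1, Units.val_neg, Units.val_one]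
      rw [this, Units.val_neg, Units.val_one]
    rw [t_coe, h1, h3]
    ext i j
    fin_cases i <;> fin_cases j <;> simp
  -- the vectors
  let W : (Fin 3 ⊕ Fin 3 → k) → ℕ → Fin 3 ⊕ Fin 3 → k := fun y i =>
    (ρ (t (c ^ i)) : Matrix (Fin 3 ⊕ Fin 3) (Fin 3 ⊕ Fin 3) k) *ᵥ y
  have hW6 : ∀ y i, W y (i + 6) = W y i := by
    intro y i
    change (ρ (t (c ^ (i + 6))) : Matrix (Fin 3 ⊕ Fin 3) (Fin 3 ⊕ Fin 3) k) *ᵥ y = _
    rw [pow_add, t_mul, hc6, map_mul, cen, mul_one]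
  have hWadd : ∀ y i j, (ρ (t (c ^ i)) : Matrix (Fin 3 ⊕ Fin 3) (Fin 3 ⊕ Fin 3) k) *ᵥ W y j = W y (i + j) := by
    intro y i j
    change _ = (ρ (t (c ^ (i + j))) : Matrix (Fin 3 ⊕ Fin 3) (Fin 3 ⊕ Fin 3) k) *ᵥ y
    rw [pow_add, t_mul, map_mul, Units.val_mul, ← Matrix.mulVec_mulVec]
  have hWu : ∀ y : Fin 3 ⊕ Fin 3 → k, (ρ (u 1) : Matrix (Fin 3 ⊕ Fin 3) (Fin 3 ⊕ Fin 3) k) *ᵥ y = β • y →
      ∀ j, (ρ (u 1) : Matrix (Fin 3 ⊕ Fin 3) (Fin 3 ⊕ Fin 3) k) *ᵥ W y (sj j) = β ^ (mj j) • W y (sj j) := by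
    intro y hy j
    have e1 : u (1 : ZMod 13) * t (c ^ sj j) = t (c ^ sj j) * u 1 ^ mj j := by
      rw [← u_eq_pow, t_mul_u, Units.val_pow_eq_pow_val, hc, mul_comm _ ((mj j : ℕ) : ZMod 13), mj_spec]
    have e2 : ∀ n : ℕ, (ρ (u 1 ^ n) : Matrix (Fin 3 ⊕ Fin 3) (Fin 3 ⊕ Fin 3) k) *ᵥ y = β ^ n • y := by
      intro n
      induction n with
      | zero => rw [pow_zero, map_one, Units.val_one, Matrix.one_mulVec, pow_zero, one_smul]
      | succ n ih =>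
        rw [pow_succ, map_mul, Units.val_mul, ← Matrix.mulVec_mulVec, hy, Matrix.mulVec_smul, ih, smul_smul, pow_succ,
          mul_comm β]
    change _ *ᵥ ((ρ (t (c ^ sj j)) : Matrix (Fin 3 ⊕ Fin 3) (Fin 3 ⊕ Fin 3) k) *ᵥ y) = _
    rw [Matrix.mulVec_mulVec, ← Units.val_mul, ← map_mul, e1, map_mul, Units.val_mul, ← Matrix.mulVec_mulVec, e2,
      Matrix.mulVec_smul]
  have hW0 : ∀ y : Fin 3 ⊕ Fin 3 → k, y ≠ 0 → ∀ i, W y i ≠ 0 := by
    intro y hy i h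
    apply hy
    have : (((ρ (t (c ^ i)))⁻¹ : GL (Fin 3 ⊕ Fin 3) k) : Matrix (Fin 3 ⊕ Fin 3) (Fin 3 ⊕ Fin 3) k) *ᵥ W y i = y := by
      change _ *ᵥ ((ρ (t (c ^ i)) : Matrix (Fin 3 ⊕ Fin 3) (Fin 3 ⊕ Fin 3) k) *ᵥ y) = y
      rw [Matrix.mulVec_mulVec, ← Units.val_mul, inv_mul_cancel, Units.val_one, Matrix.one_mulVec]
    rw [← this, h, Matrix.mulVec_zero]
  let l : Fin 3 ⊕ Fin 3 → k := fun j => β ^ mj j
  have hl : Function.Injective l := by
    intro i j hij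
    apply mj_inj
    have h1 : (Units.mk0 β hβ0) ^ ((mj i : ℤ) - mj j) = 1 := by
      rw [_root_.zpow_sub, zpow_natCast, zpow_natCast, mul_inv_eq_one]
      apply Units.ext
      rw [Units.val_pow_eq_pow_val, Units.val_pow_eq_pow_val, Units.val_mk0]
      exact hij
    have h3 := orderOf_dvd_iff_zpow_eq_one.2 h1
    rwa [hord] at h3
  have hdu : ∀ i, l i * l (du i) = 1 := by
    intro i
    change β ^ mj i * β ^ mj (du i) = 1
    rw [← pow_add, mj_du, hβ13]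
  -- normalisation
  have hc0 := form_ne_zero (sy_of_mem (sp (u 1))) (v := fun j => W x (sj j)) (l := l) (fun j => hW0 x hx0 _) (hWu x hx)
    hl hdu (Sum.inr 0)
  change sympForm 3 k (W x 3) (W x 0) ≠ 0 at hc0
  obtain ⟨γ, hγ⟩ := IsAlgClosed.exists_pow_nat_eq ((sympForm 3 k (W x 3) (W x 0))⁻¹) (n := 2) (by norm_num)
  have hγ0 : γ ≠ 0 := by
    rintro rfl
    rw [zero_pow (by norm_num)] at hγ
    exact inv_ne_zero hc0 hγ.symm
  have hWs : ∀ i, W (γ • x) i = γ • W x i := fun i => Matrix.mulVec_smul _ _ _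
  have hf0 : sympForm 3 k (W (γ • x) 3) (W (γ • x) 0) = 1 := by
    rw [hWs, hWs, sympForm_smul, ← pow_two, hγ, inv_mul_cancel₀ hc0]
  have hfadd : ∀ i, sympForm 3 k (W (γ • x) (i + 3)) (W (γ • x) i) = 1 := by
    intro i
    rw [← hf0, ← form_mul (sy_of_mem (sp (t (c ^ i)))) (W (γ • x) 3) (W (γ • x) 0), hWadd, hWadd]
    rfl
  have hyx : (ρ (u 1) : Matrix (Fin 3 ⊕ Fin 3) (Fin 3 ⊕ Fin 3) k) *ᵥ (γ • x) = β • (γ • x) := by
    rw [Matrix.mulVec_smul, hx, smul_comm]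
  have hy0 : γ • x ≠ 0 := smul_ne_zero hγ0 hx0
  have hf : ∀ i : Fin 3, sympForm 3 k (W (γ • x) (sj (Sum.inr i))) (W (γ • x) (sj (Sum.inl i))) = 1 := by
    intro i
    fin_cases i
    · exact hfadd 0
    · exact hfadd 2
    · have := hfadd 4
      rwa [show 4 + 3 = 1 + 6 from rfl, hW6] at this
  have hsy := sy_of_basis (sy_of_mem (sp (u 1))) (v := fun j => W (γ • x) (sj j)) (l := l) (hWu _ hyx) hl hdu hf
    (fun i => by rw [sympForm_symm, hf])
  have hunit := isUnit_basis (linInd (A := (ρ (u 1) : Matrix (Fin 3 ⊕ Fin 3) (Fin 3 ⊕ Fin 3) k))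
    (v := fun j => W (γ • x) (sj j)) (l := l) (fun j => hW0 _ hy0 _) (hWu _ hyx) hl)
  obtain ⟨T, hT⟩ := hunit
  rw [← hT] at hsy
  refine ⟨T, mem_of_sy hsy, (MulAut.conj T⁻¹).toMonoidHom.comp ρ, Units.mk0 β hβ0, ?_, ?_⟩
  · intro g
    simp [MulAut.conj_apply]
  have hconj : ∀ g, ((MulAut.conj T⁻¹).toMonoidHom.comp ρ) g = T⁻¹ * ρ g * T := by
    intro g
    simp [MulAut.conj_apply]
  have hTj : ∀ i j, (T : Matrix (Fin 3 ⊕ Fin 3) (Fin 3 ⊕ Fin 3) k) i j = W (γ • x) (sj j) i := by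
    intro i j
    rw [hT]
    rfl
  have hmul : ∀ (g : Matrix.SpecialLinearGroup (Fin 2) (ZMod 13)) (D : Matrix (Fin 3 ⊕ Fin 3) (Fin 3 ⊕ Fin 3) k),
      (ρ g : Matrix (Fin 3 ⊕ Fin 3) (Fin 3 ⊕ Fin 3) k) * T = T * D →
      ((MulAut.conj T⁻¹).toMonoidHom.comp ρ g : Matrix (Fin 3 ⊕ Fin 3) (Fin 3 ⊕ Fin 3) k) = D := by
    intro g D h
    rw [hconj, Units.val_mul, Units.val_mul, Matrix.mul_assoc, h, ← Matrix.mul_assoc, ← Units.val_mul, inv_mul_cancel,
      Units.val_one, Matrix.one_mul]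
  refine ⟨h2, hord, ?_, ?_, ?_, ?_⟩
  · intro g
    rw [hconj]
    exact mul_mem (mul_mem (inv_mem (mem_of_sy hsy)) (sp g)) (mem_of_sy hsy)
  · rw [hconj, cen, mul_one, inv_mul_cancel]
  · apply hmul
    ext i j
    have e1 : ((ρ (u 1) : Matrix (Fin 3 ⊕ Fin 3) (Fin 3 ⊕ Fin 3) k) * T) i j =
        ((ρ (u 1) : Matrix (Fin 3 ⊕ Fin 3) (Fin 3 ⊕ Fin 3) k) *ᵥ W (γ • x) (sj j)) i := by
      rw [Matrix.mul_apply, Matrix.mulVec, dotProduct]
      exact Finset.sum_congr rfl fun a _ => by rw [hTj]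
    rw [e1, hWu _ hyx j]
    unfold dg
    rw [Matrix.mul_diagonal, hTj, Pi.smul_apply, smul_eq_mul, mul_comm]
    congr 1
    rcases j with j | j
    · fin_cases j
      · simp [mj]
      · simp [mj]
      · simp [mj]
    · have h3 : ∀ a b : ℕ, a + b = 13 → β ^ a = (β ^ b)⁻¹ := by
        intro a b hab
        apply eq_inv_of_mul_eq_one_left
        rw [← pow_add, hab, hβ13]
      fin_cases j
      · simpa [mj] using h3 12 1 rfl
      · simpa [mj] using h3 4 9 rfl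
      · simpa [mj] using h3 10 3 rfl
  · intro a ha
    have hac : a = c := Units.ext (ha.trans hc.symm)
    rw [hac]
    apply hmul
    ext i j
    have e1 : ((ρ (t c) : Matrix (Fin 3 ⊕ Fin 3) (Fin 3 ⊕ Fin 3) k) * T) i j =
        ((ρ (t (c ^ 1)) : Matrix (Fin 3 ⊕ Fin 3) (Fin 3 ⊕ Fin 3) k) *ᵥ W (γ • x) (sj j)) i := by
      rw [pow_one, Matrix.mul_apply, Matrix.mulVec, dotProduct]
      exact Finset.sum_congr rfl fun a _ => by rw [hTj]
    have e2 : ((T : Matrix (Fin 3 ⊕ Fin 3) (Fin 3 ⊕ Fin 3) k) * hm k) i j = W (γ • x) (sj (pi j)) i := by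
      rw [Matrix.mul_apply, ← hTj]
      simp [hm]
    rw [e1, e2, hWadd]
    rcases j with j | j
    · fin_cases j
      · rfl
      · rfl
      · rfl
    · fin_cases j
      · rfl
      · change W (γ • x) (0 + 6) i = W (γ • x) 0 i
        rw [hW6]
      · rfl

/-- **`SL₂(13)` in `Sp₆(k)`, characteristic two, has exactly one fixed line in the spin module.** -/
theorem exists_fix1 : ∃ n : E → k, Fix1 ρ n := by
  obtain ⟨T, hT, ρ', b, hconj, D⟩ := exists_good h2 ρ sp cen hu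
  exact ⟨_, Fix1.conj h2 sp hT hconj D.fix1⟩

end Cfsg.Agent.H914.S6.Spin.L
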