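import Mathlib

/-!
# Subspaces of self-adjoint operators on a three-dimensional orthogonal space (helper914)

A subspace of self-adjoint operators which is invariant under the reflections and contains a non-scalar operator
contains the operators `w ↦ B(t,w) t`, `t` singular.
-/

set_option autoImplicit false
set_option linter.unusedSectionVars false

namespace Cfsg.Agent.H914.SymOps

variable {F W : Type*} [Field F] [AddCommGroup W] [Module F W] (B : LinearMap.BilinForm F W)

/-- The reflection in `x`. -/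
noncomputable def refl (x : W) : W →ₗ[F] W := LinearMap.id - (2 / B x x) • (B x).smulRight x

/-- The operator `w ↦ B(y,w) x + B(x,w) y`. -/
noncomputable def vee (x y : W) : W →ₗ[F] W := (B y).smulRight x + (B x).smulRight y

variable {B}

theorem refl_apply (x w : W) : refl B x w = w - (2 / B x x * B x w) • x := by
  simp [refl, smul_smul]

theorem vee_apply (x y w : W) : vee B x y w = B y w • x + B x w • y := by
  simp [vee]

theorem vee_comm (x y : W) : vee B x y = vee B y x := by
  ext w; rw [vee_apply, vee_apply, add_comm]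

theorem vee_add_right (x y z : W) : vee B x (y + z) = vee B x y + vee B x z := by
  ext w; simp only [vee_apply, LinearMap.add_apply, map_add]; module

theorem vee_smul_right (x y : W) (c : F) : vee B x (c • y) = c • vee B x y := by
  ext w; simp only [vee_apply, LinearMap.smul_apply, map_smul, smul_eq_mul]; module

theorem vee_add_left (x y z : W) : vee B (x + y) z = vee B x z + vee B y z := by
  rw [vee_comm, vee_add_right, vee_comm z, vee_comm z]

theorem vee_smul_left (x y : W) (c : F) : vee B (c • x) y = c • vee B x y := by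
  rw [vee_comm, vee_smul_right, vee_comm y]

theorem refl_adj (hs : ∀ x y, B x y = B y x) (u x w : W) : B (refl B u x) w = B x (refl B u w) := by
  rw [refl_apply, refl_apply]
  simp only [map_sub, map_smul, LinearMap.sub_apply, LinearMap.smul_apply, smul_eq_mul]
  rw [hs x u]
  ring

theorem refl_vee (hs : ∀ x y, B x y = B y x) (u x y : W) :
    refl B u ∘ₗ vee B x y ∘ₗ refl B u = vee B (refl B u x) (refl B u y) := by
  ext w
  simp only [LinearMap.comp_apply]
  rw [vee_apply, vee_apply, map_add, map_smul, map_smul, refl_adj hs, refl_adj hs]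

theorem refl_orth {u x : W} (h : B u x = 0) : refl B u x = x := by
  rw [refl_apply, h]; simp

theorem refl_self {u : W} (h : B u u ≠ 0) : refl B u u = -u := by
  rw [refl_apply, div_mul_cancel₀ _ h]; module

theorem refl_isom (hs : ∀ x y, B x y = B y x) {u : W} (hu : B u u ≠ 0) (x y : W) :
    B (refl B u x) (refl B u y) = B x y := by
  rw [refl_apply, refl_apply]
  simp only [map_sub, map_smul, LinearMap.sub_apply, LinearMap.smul_apply, smul_eq_mul]
  rw [hs x u]
  field_simp
  ring

theorem refl_refl {u : W} (hu : B u u ≠ 0) (x : W) : refl B u (refl B u x) = x := by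
  rw [refl_apply, refl_apply]
  simp only [map_sub, map_smul, smul_eq_mul]
  have : 2 / B u u * (B u x - 2 / B u u * B u x * B u u) = - (2 / B u u * B u x) := by
    field_simp; ring
  rw [this]
  module

/-- The hypotheses. -/
structure Good (B : LinearMap.BilinForm F W) (S : Submodule F (W →ₗ[F] W)) : Prop where
  two : (2 : F) ≠ 0
  symm : ∀ x y, B x y = B y x
  adj : ∀ T ∈ S, ∀ x y, B (T x) y = B x (T y)
  conj : ∀ u, B u u ≠ 0 → ∀ T ∈ S, refl B u ∘ₗ T ∘ₗ refl B u ∈ S
  big : ∃ t : F, t ≠ 0 ∧ t * t ≠ 1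

variable {S : Submodule F (W →ₗ[F] W)}

namespace Good

theorem vee_mem (h : Good B S) {T : W →ₗ[F] W} (hT : T ∈ S) {x y : W} (hx : B x x ≠ 0) {α : F} (hTx : T x = α • x + y)
    (hxy : B x y = 0) : vee B x y ∈ S := by
  have h1 := S.sub_mem (h.conj x hx T hT) hT
  have h2 : refl B x ∘ₗ T ∘ₗ refl B x - T = (-(2 / B x x)) • vee B x y := by
    ext w
    simp only [LinearMap.sub_apply, LinearMap.comp_apply, LinearMap.smul_apply]
    have e1 : B x (T w) = α * B x w + B y w := by
      rw [← h.adj T hT, hTx, map_add, map_smul, LinearMap.add_apply, LinearMap.smul_apply, smul_eq_mul]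
    rw [vee_apply, refl_apply, refl_apply]
    simp only [map_sub, map_smul, hTx, map_add, smul_eq_mul, e1, hxy, add_zero]
    match_scalars <;> field_simp <;> ring
  rw [h2] at h1
  have h3 : (-(2 / B x x)) ≠ 0 := neg_ne_zero.mpr (div_ne_zero h.two hx)
  exact (S.smul_mem_iff h3).mp h1

theorem vee_conj (h : Good B S) {u x y : W} (hu : B u u ≠ 0) (hxy : vee B x y ∈ S) :
    vee B (refl B u x) (refl B u y) ∈ S := by
  rw [← refl_vee h.symm]
  exact h.conj u hu _ hxy

/-- An element `c ≠ 0` with `a₁ + c² a₂ ≠ 0`. -/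
theorem exists_c (h : Good B S) {a₁ a₂ : F} (h1 : a₁ ≠ 0) (h2 : a₂ ≠ 0) : ∃ c : F, c ≠ 0 ∧ a₁ + c * c * a₂ ≠ 0 := by
  by_cases h3 : a₁ + a₂ = 0
  · obtain ⟨t, ht0, ht⟩ := h.big
    refine ⟨t, ht0, ?_⟩
    have : a₁ + t * t * a₂ = (t * t - 1) * a₂ := by linear_combination h3
    rw [this]
    exact mul_ne_zero (sub_ne_zero.mpr ht) h2
  · exact ⟨1, one_ne_zero, by simpa using h3⟩

/-- Lemma B, first half. -/
theorem vee_step (h : Good B S) {x z₁ z₂ : W} (h1 : B z₁ z₁ ≠ 0) (h2 : B z₂ z₂ ≠ 0) (hx1 : B x z₁ = 0)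
    (hx2 : B x z₂ = 0) (h12 : B z₁ z₂ = 0) (hm : vee B x z₁ ∈ S) : vee B x z₂ ∈ S := by
  obtain ⟨c, hc0, hc⟩ := h.exists_c h1 h2
  have hn : B (z₁ + c • z₂) (z₁ + c • z₂) = B z₁ z₁ + c * c * B z₂ z₂ := by
    simp only [map_add, map_smul, LinearMap.add_apply, LinearMap.smul_apply, smul_eq_mul, h12, h.symm z₂ z₁]
    ring
  have hu : B (z₁ + c • z₂) (z₁ + c • z₂) ≠ 0 := by rw [hn]; exact hc
  have h3 := h.vee_conj hu hm
  have e1 : refl B (z₁ + c • z₂) x = x := by
    apply refl_orth
    rw [h.symm, map_add, map_smul, hx1, hx2]; simp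
  have e2 : refl B (z₁ + c • z₂) z₁ = z₁ - (2 / B (z₁ + c • z₂) (z₁ + c • z₂) * B z₁ z₁) • (z₁ + c • z₂) := by
    rw [refl_apply]
    congr 3
    simp only [map_add, map_smul, LinearMap.add_apply, LinearMap.smul_apply, smul_eq_mul, h12, h.symm z₂ z₁]
    ring
  rw [e1, e2] at h3
  set δ := 2 / B (z₁ + c • z₂) (z₁ + c • z₂) * B z₁ z₁ with hδ
  have hδ0 : δ ≠ 0 := mul_ne_zero (div_ne_zero h.two hu) h1
  have e3 : z₁ - δ • (z₁ + c • z₂) = (1 - δ) • z₁ + (-(δ * c)) • z₂ := by module
  rw [e3, vee_add_right, vee_smul_right, vee_smul_right] at h3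
  have h4 := (S.add_mem_iff_right (S.smul_mem (1 - δ) hm)).mp h3
  exact (S.smul_mem_iff (neg_ne_zero.mpr (mul_ne_zero hδ0 hc0))).mp h4

theorem vee_two (h : Good B S) {x z₁ z₂ : W} (h1 : B z₁ z₁ ≠ 0) (h2 : B z₂ z₂ ≠ 0) (hx1 : B x z₁ = 0)
    (hx2 : B x z₂ = 0) (h12 : B z₁ z₂ = 0) {α β : F} (hαβ : α ≠ 0 ∨ β ≠ 0) (hm : vee B x (α • z₁ + β • z₂) ∈ S) :
    vee B x z₁ ∈ S ∧ vee B x z₂ ∈ S := by
  have h21 : B z₂ z₁ = 0 := by rw [h.symm, h12]
  have h3 := h.vee_conj h1 hm
  have e1 : refl B z₁ x = x := refl_orth (by rw [h.symm, hx1])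
  rw [e1, map_add, map_smul, map_smul, refl_self h1, refl_orth h12] at h3
  have h4 := S.sub_mem hm h3
  have h5 := S.add_mem hm h3
  rw [vee_add_right, vee_add_right, vee_smul_right, vee_smul_right, vee_smul_right] at h4 h5
  have hneg : vee B x (-z₁) = -vee B x z₁ := by
    rw [← neg_one_smul F, vee_smul_right, neg_one_smul]
  rw [hneg] at h4 h5
  have e4 : α • vee B x z₁ + β • vee B x z₂ - (α • -vee B x z₁ + β • vee B x z₂) = (2 * α) • vee B x z₁ := by module
  have e5 : α • vee B x z₁ + β • vee B x z₂ + (α • -vee B x z₁ + β • vee B x z₂) = (2 * β) • vee B x z₂ := by module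
  rw [e4] at h4
  rw [e5] at h5
  rcases hαβ with hα | hβ
  · have h6 := (S.smul_mem_iff (mul_ne_zero h.two hα)).mp h4
    exact ⟨h6, h.vee_step h1 h2 hx1 hx2 h12 h6⟩
  · have h6 := (S.smul_mem_iff (mul_ne_zero h.two hβ)).mp h5
    exact ⟨h.vee_step h2 h1 hx2 hx1 h21 h6, h6⟩

end Good

/-- An orthogonal triple with non-zero norms. -/
structure Tri (B : LinearMap.BilinForm F W) (x y z : W) : Prop where
  xx : B x x ≠ 0
  yy : B y y ≠ 0
  zz : B z z ≠ 0
  xy : B x y = 0
  xz : B x z = 0
  yz : B y z = 0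

theorem Tri.rot {x y z : W} (hs : ∀ x y, B x y = B y x) (h : Tri B x y z) : Tri B y z x :=
  ⟨h.yy, h.zz, h.xx, h.yz, by rw [hs, h.xy], by rw [hs, h.xz]⟩

theorem Tri.swap {x y z : W} (hs : ∀ x y, B x y = B y x) (h : Tri B x y z) : Tri B y x z :=
  ⟨h.yy, h.xx, h.zz, by rw [hs, h.xy], h.yz, h.xz⟩

/-- Expansion in an orthogonal triple of a three-dimensional space. -/
theorem Tri.expand [Module.Finite F W] (hd : Module.finrank F W = 3) {x y z : W} (hs : ∀ x y, B x y = B y x)
    (h : Tri B x y z) (w : W) : ∃ α β γ : F, w = α • x + β • y + γ • z := by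
  have hli : LinearIndependent F ![x, y, z] := by
    rw [Fintype.linearIndependent_iff]
    intro g hg
    rw [Fin.sum_univ_three] at hg
    simp only [Matrix.cons_val_zero, Matrix.cons_val_one, Matrix.cons_val] at hg
    have yx : B y x = 0 := by rw [hs, h.xy]
    have zx : B z x = 0 := by rw [hs, h.xz]
    have zy : B z y = 0 := by rw [hs, h.yz]
    have e1 := congrArg (fun w => B x w) hg
    have e2 := congrArg (fun w => B y w) hg
    have e3 := congrArg (fun w => B z w) hg
    simp only [map_add, map_smul, smul_eq_mul, map_zero, h.xy, h.xz, h.yz, yx, zx, zy, mul_zero, add_zero,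
      zero_add] at e1 e2 e3
    have f1 := (mul_eq_zero.mp e1).resolve_right h.xx
    have f2 := (mul_eq_zero.mp e2).resolve_right h.yy
    have f3 := (mul_eq_zero.mp e3).resolve_right h.zz
    intro i
    fin_cases i
    · exact f1
    · exact f2
    · exact f3
  let b := basisOfLinearIndependentOfCardEqFinrank hli (by rw [hd]; rfl)
  have hb : ⇑b = ![x, y, z] := coe_basisOfLinearIndependentOfCardEqFinrank hli (by rw [hd]; rfl)
  refine ⟨b.repr w 0, b.repr w 1, b.repr w 2, ?_⟩
  have := b.sum_repr w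
  rw [Fin.sum_univ_three, hb] at this
  exact this.symm

namespace Good

/-- If every non-singular vector is an eigenvector, the operator is a scalar. -/
theorem exists_first [Module.Finite F W] (h : Good B S) (hd : Module.finrank F W = 3) {x₁ x₂ x₃ : W}
    (ht : Tri B x₁ x₂ x₃) {T : W →ₗ[F] W} (hT : T ∈ S) (hns : ¬ ∃ c : F, ∀ w, T w = c • w) :
    ∃ x y z : W, Tri B x y z ∧ vee B x y ∈ S ∧ vee B x z ∈ S := by
  -- if `x` belongs to a triple, then either we are done or `x` is an eigenvector
  have key : ∀ x y z : W, Tri B x y z → (∃ x y z : W, Tri B x y z ∧ vee B x y ∈ S ∧ vee B x z ∈ S) ∨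
      ∃ c : F, T x = c • x := by
    intro x y z hxyz
    obtain ⟨α, β, γ, hw⟩ := hxyz.expand hd h.symm (T x)
    by_cases hβγ : β ≠ 0 ∨ γ ≠ 0
    · left
      have h0 : B x (β • y + γ • z) = 0 := by
        rw [map_add, map_smul, map_smul, hxyz.xy, hxyz.xz]; simp
      have h1 := h.vee_mem hT hxyz.xx (by rw [hw, add_assoc]) h0
      obtain ⟨h2, h3⟩ := h.vee_two hxyz.yy hxyz.zz hxyz.xy hxyz.xz hxyz.yz hβγ h1
      exact ⟨x, y, z, hxyz, h2, h3⟩
    · push Not at hβγ
      right
      refine ⟨α, ?_⟩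
      rw [hw, hβγ.1, hβγ.2, zero_smul, zero_smul, add_zero, add_zero]
  by_contra hno
  have key' : ∀ x y z : W, Tri B x y z → ∃ c : F, T x = c • x := fun x y z hxyz => (key x y z hxyz).resolve_left hno
  -- equality of the eigenvalues
  have heq : ∀ x y z : W, Tri B x y z → ∀ a b : F, T x = a • x → T y = b • y → a = b := by
    intro x y z hxyz a b ha hb
    obtain ⟨c, hc0, hc⟩ := h.exists_c hxyz.xx hxyz.yy
    have yx : B y x = 0 := by rw [h.symm, hxyz.xy]
    have zx : B z x = 0 := by rw [h.symm, hxyz.xz]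
    have zy : B z y = 0 := by rw [h.symm, hxyz.yz]
    have htri : Tri B (x + c • y) ((-(c * B y y)) • x + B x x • y) z := by
      refine ⟨?_, ?_, hxyz.zz, ?_, ?_, ?_⟩
      · simp only [map_add, map_smul, LinearMap.add_apply, LinearMap.smul_apply, smul_eq_mul, hxyz.xy, yx]
        convert hc using 1
        ring
      · simp only [map_add, map_smul, LinearMap.add_apply, LinearMap.smul_apply, smul_eq_mul, hxyz.xy, yx]
        have : -(c * B y y) * (-(c * B y y) * B x x + B x x * 0) + B x x * (-(c * B y y) * 0 + B x x * B y y) =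
            B x x * B y y * (B x x + c * c * B y y) := by ring
        rw [mul_zero, add_zero, mul_zero, zero_add] at this ⊢
        rw [this]
        exact mul_ne_zero (mul_ne_zero hxyz.xx hxyz.yy) hc
      · simp only [map_add, map_smul, LinearMap.add_apply, LinearMap.smul_apply, smul_eq_mul, hxyz.xy, yx]
        ring
      · simp only [map_add, map_smul, LinearMap.add_apply, LinearMap.smul_apply, smul_eq_mul, hxyz.xz, hxyz.yz]
        ring
      · simp only [map_add, map_smul, LinearMap.add_apply, LinearMap.smul_apply, smul_eq_mul, hxyz.xz, hxyz.yz]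
        ring
    obtain ⟨d, hd'⟩ := key' _ _ _ htri
    rw [map_add, map_smul, ha, hb] at hd'
    have e1 := congrArg (fun w => B x w) hd'
    have e2 := congrArg (fun w => B y w) hd'
    simp only [map_add, map_smul, smul_eq_mul, hxyz.xy, yx, mul_zero, add_zero, zero_add] at e1 e2
    have f1 : a = d := mul_right_cancel₀ hxyz.xx e1
    have f2 : b = d := by
      have : c * (b * B y y) = c * (d * B y y) := by rw [e2]; ring
      exact mul_right_cancel₀ hxyz.yy (mul_left_cancel₀ hc0 this)
    rw [f1, f2]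
  obtain ⟨a, ha⟩ := key' _ _ _ ht
  obtain ⟨b, hb⟩ := key' _ _ _ (ht.rot h.symm)
  obtain ⟨c, hc⟩ := key' _ _ _ ((ht.rot h.symm).rot h.symm)
  have hab := heq _ _ _ ht a b ha hb
  have hbc := heq _ _ _ (ht.rot h.symm) b c hb hc
  subst hab hbc
  apply hns
  refine ⟨a, fun w => ?_⟩
  obtain ⟨α, β, γ, rfl⟩ := ht.expand hd h.symm w
  simp only [map_add, map_smul, ha, hb, hc]
  module

/-- **Lemma A**. -/
theorem main [Finite F] [Module.Finite F W] (h : Good B S) (hd : Module.finrank F W = 3) {x₁ x₂ x₃ : W}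
    (ht : Tri B x₁ x₂ x₃) {T : W →ₗ[F] W} (hT : T ∈ S) (hns : ¬ ∃ c : F, ∀ w, T w = c • w) :
    ∃ e e' z : W, B e e = 0 ∧ B e' e' = 0 ∧ B e e' = 1 ∧ B e z = 0 ∧ B e' z = 0 ∧ B z z ≠ 0 ∧
      (∀ w, ∃ α β γ : F, w = α • e + β • e' + γ • z) ∧
      ∀ t, B t t = 0 → (t = e ∨ B e t ≠ 0) → vee B t t ∈ S := by
  have := Fintype.ofFinite F
  obtain ⟨x, y, z, hxyz, hxy, hxz⟩ := h.exists_first hd ht hT hns
  -- all three
  have hyx : vee B y x ∈ S := by rw [vee_comm]; exact hxy
  have hyx' : vee B y z ∈ S := h.vee_step hxyz.xx hxyz.zz (by rw [h.symm, hxyz.xy]) hxyz.yz hxyz.xz hyx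
  -- solve `α² B y y + β² B z z = - B x x / (B y y * B z z)`
  obtain ⟨α, β, hαβ⟩ : ∃ α β : F, α * α * B y y + β * β * B z z = -(B x x / (B y y * B z z)) := by
    have hodd : Fintype.card F % 2 = 1 := FiniteField.odd_card_of_char_ne_two (by
      intro h2
      apply h.two
      have := CharP.cast_eq_zero F (ringChar F)
      rw [h2] at this
      exact_mod_cast this)
    obtain ⟨α, β, hαβ⟩ := FiniteField.exists_root_sum_quadratic
      (f := Polynomial.C (B y y) * Polynomial.X ^ 2 + Polynomial.C 0 * Polynomial.X + Polynomial.C (B x x / (B y y * B z z)))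
      (g := Polynomial.C (B z z) * Polynomial.X ^ 2 + Polynomial.C 0 * Polynomial.X + Polynomial.C 0)
      (Polynomial.degree_quadratic hxyz.yy) (Polynomial.degree_quadratic hxyz.zz) hodd
    refine ⟨α, β, ?_⟩
    simp only [Polynomial.eval_add, Polynomial.eval_mul, Polynomial.eval_C, Polynomial.eval_pow, Polynomial.eval_X] at hαβ
    linear_combination hαβ
  have hyy := hxyz.yy
  have hzz := hxyz.zz
  have hxx := hxyz.xx
  have zy : B z y = 0 := by rw [h.symm, hxyz.yz]
  have yx : B y x = 0 := by rw [h.symm, hxyz.xy]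
  have zx : B z x = 0 := by rw [h.symm, hxyz.xz]
  set p := α • y + β • z with hp
  set p' := (-(β * B z z)) • y + (α * B y y) • z with hp'
  have hBp : B p p = -(B x x / (B y y * B z z)) := by
    rw [hp, ← hαβ]
    simp only [map_add, map_smul, LinearMap.add_apply, LinearMap.smul_apply, smul_eq_mul, hxyz.yz, zy]
    ring
  have hBp' : B p' p' = - B x x := by
    have e1 : B p' p' = B y y * B z z * (α * α * B y y + β * β * B z z) := by
      rw [hp']
      simp only [map_add, map_smul, LinearMap.add_apply, LinearMap.smul_apply, smul_eq_mul, hxyz.yz, zy]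
      ring
    rw [e1, hαβ]
    field_simp
  have hBpp' : B p p' = 0 := by
    rw [hp, hp']
    simp only [map_add, map_smul, LinearMap.add_apply, LinearMap.smul_apply, smul_eq_mul, hxyz.yz, zy]
    ring
  have hBxp : B x p = 0 := by rw [hp, map_add, map_smul, map_smul, hxyz.xy, hxyz.xz]; simp
  have hBxp' : B x p' = 0 := by rw [hp', map_add, map_smul, map_smul, hxyz.xy, hxyz.xz]; simp
  have hBpx : B p x = 0 := by rw [h.symm, hBxp]
  have hBp'x : B p' x = 0 := by rw [h.symm, hBxp']
  have hBp'p : B p' p = 0 := by rw [h.symm, hBpp']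
  have hp0 : B p p ≠ 0 := by
    rw [hBp]
    exact neg_ne_zero.mpr (div_ne_zero hxx (mul_ne_zero hyy hzz))
  have hp'0 : B p' p' ≠ 0 := by rw [hBp']; exact neg_ne_zero.mpr hxx
  have htri : Tri B p x p' := ⟨hp0, hxx, hp'0, hBpx, hBpp', hBxp'⟩
  have hm1 : vee B p x ∈ S := by
    rw [vee_comm, hp, vee_add_right, vee_smul_right, vee_smul_right]
    exact S.add_mem (S.smul_mem _ hxy) (S.smul_mem _ hxz)
  have hm2 : vee B p p' ∈ S := h.vee_step hxx hp'0 hBpx hBpp' hBxp' hm1
  -- the singular vector
  set e := x + p' with he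
  have hee : B e e = 0 := by
    rw [he]
    simp only [map_add, LinearMap.add_apply, hBxp', hBp'x, hBp']
    ring
  have hpe : B p e = 0 := by rw [he, map_add, hBpx, hBpp', add_zero]
  have hep : B e p = 0 := by rw [h.symm, hpe]
  have hm3 : vee B p e ∈ S := by
    rw [he, vee_add_right]
    exact S.add_mem hm1 hm2
  have hpe2 : B (p + e) (p + e) = B p p := by
    simp only [map_add, LinearMap.add_apply, hpe, hep, hee]
    ring
  have hm4 : vee B e e ∈ S := by
    have h1 := h.vee_conj (u := p + e) (by rw [hpe2]; exact hp0) hm3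
    have e1 : refl B (p + e) p = -p - (2 : F) • e := by
      rw [refl_apply, hpe2]
      have : B (p + e) p = B p p := by rw [LinearMap.map_add B p e, LinearMap.add_apply, hep, add_zero]
      rw [this, div_mul_cancel₀ _ hp0]
      module
    have e2 : refl B (p + e) e = e := refl_orth (by rw [LinearMap.map_add B p e, LinearMap.add_apply, hpe, hee, add_zero])
    rw [e1, e2] at h1
    have e3 : vee B (-p - (2 : F) • e) e = -vee B p e - (2 : F) • vee B e e := by
      have : -p - (2 : F) • e = (-1 : F) • p + (-2 : F) • e := by module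
      rw [this, vee_add_left, vee_smul_left, vee_smul_left]
      module
    rw [e3] at h1
    have h2 := (S.sub_mem_iff_right (S.neg_mem hm3)).mp h1
    exact (S.smul_mem_iff h.two).mp h2
  -- the second singular vector
  have h2x : 2 * B x x ≠ 0 := mul_ne_zero h.two hxx
  refine ⟨e, (2 * B x x)⁻¹ • (x - p'), p, hee, ?_, ?_, hep, ?_, hp0, ?_, ?_⟩
  · simp only [map_sub, map_smul, LinearMap.sub_apply, LinearMap.smul_apply, smul_eq_mul, hBxp', hBp'x, hBp']
    ring
  · rw [he]
    simp only [map_sub, map_add, map_smul, LinearMap.add_apply, smul_eq_mul, hBxp', hBp'x, hBp']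
    have h20 := h.two
    field_simp
    ring
  · simp only [map_sub, map_smul, LinearMap.sub_apply, LinearMap.smul_apply, smul_eq_mul, hBxp, hBp'p]
    ring
  · intro w
    obtain ⟨a, b, c, rfl⟩ := htri.expand hd h.symm w
    refine ⟨(b + c) / 2, (2 * B x x) * ((b - c) / 2), a, ?_⟩
    rw [he, smul_smul, mul_assoc, mul_comm ((b - c) / 2), ← mul_assoc, mul_inv_cancel₀ h2x, one_mul]
    have h20 := h.two
    match_scalars <;> field_simp <;> ring
  · rintro t htt (rfl | het)
    · exact hm4
    · have hte : B t e ≠ 0 := by rw [h.symm]; exact het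
      have hn : B (e - t) (e - t) = -(2 * B e t) := by
        simp only [map_sub, LinearMap.sub_apply, htt, hee, h.symm t e]
        ring
      have hn0 : B (e - t) (e - t) ≠ 0 := by rw [hn]; exact neg_ne_zero.mpr (mul_ne_zero h.two het)
      have h1 := h.vee_conj hn0 hm4
      have e1 : refl B (e - t) e = t := by
        rw [refl_apply, hn]
        have e2 : B (e - t) e = - B e t := by
          rw [map_sub, LinearMap.sub_apply, hee, h.symm t e]
          ring
        rw [e2]
        have e3 : 2 / -(2 * B e t) * -B e t = 1 := by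
          have h20 := h.two
          field_simp
        rw [e3]
        module
      rw [e1] at h1
      exact h1

end Good

end Cfsg.Agent.H914.SymOps
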