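import Cfsg.Agent.H914.TensTransv2

/-!
# Overgroups of `SL₂ ⊗ O₃` in the symplectic group: the root elements (helper914)
-/

set_option autoImplicit false
set_option linter.unusedSectionVars false

open Cfsg Cfsg.Geo Matrix
open scoped Matrix MatrixGroups Kronecker

namespace Cfsg.Agent.H914.TensModel

open Cfsg.Agent.H912 Cfsg.Agent.H910 Cfsg.Agent.ClassicalGeometry.SympBasic Cfsg.Agent.H876 Cfsg.Agent.S5652
open Cfsg.Agent.H914.SymOps Cfsg.Agent.H914.RootPair

variable {F : Type*} [Field F] {m n : ℕ}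
variable {e : Fin m ⊕ Fin m ≃ Fin 2 × Fin n} {P : GL (Fin m ⊕ Fin m) F}
    {B : LinearMap.BilinForm F (Fin n → F)} {M : Subgroup (GL (Fin m ⊕ Fin m) F)}

/-- A skew operator with square zero on a three-dimensional orthogonal space is zero. -/
theorem skew_nil_zero {W : Type*} [AddCommGroup W] [Module F W] [Module.Finite F W] (hd : Module.finrank F W ≤ 3)
    {B : LinearMap.BilinForm F W} (h2 : (2 : F) ≠ 0) (hs : ∀ x y, B x y = B y x) (hnd : ∀ x, (∀ y, B x y = 0) → x = 0)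
    {α : W →ₗ[F] W} (hα : ∀ x, α (α x) = 0) (hsk : ∀ x y, B (α x) y = -B x (α y)) (x : W) : α x = 0 := by
  have hle : LinearMap.range α ≤ LinearMap.ker α := by
    rintro _ ⟨y, rfl⟩
    exact hα y
  have h1 : Module.finrank F (LinearMap.range α) ≤ 1 := by
    have e1 := Submodule.finrank_mono hle
    have e2 := LinearMap.finrank_range_add_finrank_ker α
    omega
  obtain ⟨⟨z, hz⟩, hz'⟩ := finrank_le_one_iff.mp h1
  have key : ∀ y, ∃ c : F, α y = c • z := by
    intro y
    obtain ⟨c, hc⟩ := hz' ⟨α y, y, rfl⟩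
    exact ⟨c, (congrArg Subtype.val hc).symm⟩
  have hself : ∀ y, B (α y) y = 0 := by
    intro y
    have e1 := hsk y y
    rw [hs y (α y)] at e1
    have : (2 : F) * B (α y) y = 0 := by linear_combination e1
    exact (mul_eq_zero.mp this).resolve_left h2
  by_contra hx
  obtain ⟨c, hc⟩ := key x
  have hz0 : z ≠ 0 := by
    rintro rfl
    rw [smul_zero] at hc
    exact hx hc
  obtain ⟨y, hy⟩ : ∃ y, B z y ≠ 0 := by
    by_contra hno
    push Not at hno
    exact hz0 (hnd z hno)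
  have hk : ∀ y', B z y' ≠ 0 → α y' = 0 := by
    intro y' hy'
    obtain ⟨d, hd'⟩ := key y'
    have e1 := hself y'
    rw [hd', map_smul, LinearMap.smul_apply, smul_eq_mul] at e1
    rw [hd', (mul_eq_zero.mp e1).resolve_right hy', zero_smul]
  by_cases hzx : B z x = 0
  · have e1 := hk (y + x) (by rw [map_add, hzx, add_zero]; exact hy)
    rw [map_add, hk y hy, zero_add] at e1
    exact hx e1
  · exact hx (hk x hzx)

/-- The root elements. -/
def rootS (e : Fin m ⊕ Fin m ≃ Fin 2 × Fin n) (P : GL (Fin m ⊕ Fin m) F) (M : Subgroup (GL (Fin m ⊕ Fin m) F)) :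
    Set (Matrix (Fin m ⊕ Fin m) (Fin m ⊕ Fin m) F) :=
  {N | ∃ g ∈ M, ∃ c : F, c ≠ 0 ∧ N = c • ((g : Matrix _ _ F) * up e P 1 * ((g⁻¹ : GL (Fin m ⊕ Fin m) F) : Matrix _ _ F))}

theorem conj_mul_conj (g : GL (Fin m ⊕ Fin m) F) (x y : Matrix (Fin m ⊕ Fin m) (Fin m ⊕ Fin m) F) :
    ((g : Matrix _ _ F) * x * ((g⁻¹ : GL (Fin m ⊕ Fin m) F) : Matrix _ _ F)) *
      ((g : Matrix _ _ F) * y * ((g⁻¹ : GL (Fin m ⊕ Fin m) F) : Matrix _ _ F)) =
      (g : Matrix _ _ F) * (x * y) * ((g⁻¹ : GL (Fin m ⊕ Fin m) F) : Matrix _ _ F) := by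
  exact ((conjA g).map_mul x y).symm

theorem conj_eq_iff {g : GL (Fin m ⊕ Fin m) F} {x y : Matrix (Fin m ⊕ Fin m) (Fin m ⊕ Fin m) F} :
    (g : Matrix _ _ F) * x * ((g⁻¹ : GL (Fin m ⊕ Fin m) F) : Matrix _ _ F) =
      (g : Matrix _ _ F) * y * ((g⁻¹ : GL (Fin m ⊕ Fin m) F) : Matrix _ _ F) ↔ x = y :=
  (conjA g).injective.eq_iff

theorem conj_surj (g : GL (Fin m ⊕ Fin m) F) (x : Matrix (Fin m ⊕ Fin m) (Fin m ⊕ Fin m) F) :
    ∃ y, x = (g : Matrix _ _ F) * y * ((g⁻¹ : GL (Fin m ⊕ Fin m) F) : Matrix _ _ F) :=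
  ⟨(conjA g).symm x, ((conjA g).apply_symm_apply x).symm⟩

/-- The blocks of an element commuting with `up 1`. -/
theorem blocks_of_comm {x : Matrix (Fin m ⊕ Fin m) (Fin m ⊕ Fin m) F} (hx : x * up e P 1 = up e P 1 * x) :
    ∃ α β : Matrix (Fin n) (Fin n) F, x = blk e P !![α, β; 0, α] := by
  obtain ⟨X, rfl⟩ := (blk e P).surjective x
  rw [up, ← map_mul, ← map_mul] at hx
  have h1 := (blk e P).injective hx
  have e00 := congrFun (congrFun h1 0) 0
  have e01 := congrFun (congrFun h1 0) 1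
  simp [Matrix.mul_apply, Fin.sum_univ_two] at e00 e01
  refine ⟨X 0 0, X 0 1, ?_⟩
  congr 1
  ext i j : 1
  fin_cases i <;> fin_cases j
  · rfl
  · rfl
  · exact e00.symm
  · exact e01.symm

theorem blk_eq_iff {X Y : Matrix (Fin 2) (Fin 2) (Matrix (Fin n) (Fin n) F)} : blk e P X = blk e P Y ↔ X = Y :=
  (blk e P).injective.eq_iff

theorem one_add_up (c : F) : (1 : Matrix (Fin m ⊕ Fin m) (Fin m ⊕ Fin m) F) + c • up e P 1 = tens e P !![1, c; 0, 1] 1 := by
  rw [← blk_tens, up, ← map_smul, ← map_one (blk e P), ← map_add]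
  congr 1
  ext i j : 1
  fin_cases i <;> fin_cases j <;> simp

theorem up_one_ne [NeZero n] : up e P (1 : Matrix (Fin n) (Fin n) F) ≠ 0 := by
  intro h
  rw [up, ← map_zero (blk e P)] at h
  have := congrFun (congrFun ((blk e P).injective h) 0) 1
  simp at this

namespace Setup

theorem root_mem (h : Setup e P B M) {N : Matrix (Fin m ⊕ Fin m) (Fin m ⊕ Fin m) F} (hN : N ∈ rootS e P M)
    (u : GL (Fin m ⊕ Fin m) F) (hu : (u : Matrix _ _ F) = 1 + N) : u ∈ M := by
  obtain ⟨g, hg, c, hc, rfl⟩ := hN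
  let a : GL (Fin 2) F := ⟨!![1, c; 0, 1], !![1, -c; 0, 1], by
    ext i j; fin_cases i <;> fin_cases j <;> simp, by
    ext i j; fin_cases i <;> fin_cases j <;> simp⟩
  have ha : tU e P a 1 ∈ M := h.tens a 1 (by simp [a]) h.one_isom _ rfl
  have : u = g * tU e P a 1 * g⁻¹ := by
    apply Units.ext
    rw [hu, Units.val_mul, Units.val_mul]
    show _ = (g : Matrix _ _ F) * H912.tens e P !![1, c; 0, 1] 1 * _
    rw [← one_add_up, mul_add, mul_one, add_mul, Units.mul_inv, mul_smul_comm, smul_mul_assoc]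
  rw [this]
  exact M.mul_mem (M.mul_mem hg ha) (M.inv_mem hg)

theorem root_conj {g : GL (Fin m ⊕ Fin m) F} (hg : g ∈ M) {N : Matrix (Fin m ⊕ Fin m) (Fin m ⊕ Fin m) F}
    (hN : N ∈ rootS e P M) :
    (g : Matrix _ _ F) * N * ((g⁻¹ : GL (Fin m ⊕ Fin m) F) : Matrix _ _ F) ∈ rootS e P M := by
  obtain ⟨g', hg', c, hc, rfl⟩ := hN
  refine ⟨g * g', M.mul_mem hg hg', c, hc, ?_⟩
  rw [mul_smul_comm, smul_mul_assoc, Units.val_mul, _root_.mul_inv_rev, Units.val_mul]
  simp only [mul_assoc]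

theorem root_smul {N : Matrix (Fin m ⊕ Fin m) (Fin m ⊕ Fin m) F} (hN : N ∈ rootS e P M) {c : F} (hc : c ≠ 0) :
    c • N ∈ rootS e P M := by
  obtain ⟨g, hg, d, hd, rfl⟩ := hN
  exact ⟨g, hg, c * d, mul_ne_zero hc hd, by rw [smul_smul]⟩

theorem root_sq {N : Matrix (Fin m ⊕ Fin m) (Fin m ⊕ Fin m) F} (hN : N ∈ rootS e P M) : N * N = 0 := by
  obtain ⟨g, hg, d, hd, rfl⟩ := hN
  rw [smul_mul_smul_comm, conj_mul_conj, up_mul, mul_zero, zero_mul, smul_zero]

/-- The element `up 1` is a root element. -/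
theorem up_mem : up e P 1 ∈ rootS e P M :=
  ⟨1, M.one_mem, 1, one_ne_zero, by rw [one_smul, inv_one, Units.val_one, one_mul, mul_one]⟩

/-- Root elements commuting with `up 1`. -/
theorem comm_up (h : Setup e P B M) (hn : n ≤ 3) (hsc : ∀ T ∈ h.Smod, ∃ c : F, ∀ w, T w = c • w)
    {N : Matrix (Fin m ⊕ Fin m) (Fin m ⊕ Fin m) F} (hN : N ∈ rootS e P M) (hc : N * up e P 1 = up e P 1 * N) :
    ∃ c : F, N = c • up e P 1 := by
  obtain ⟨α, β, hX⟩ := blocks_of_comm hc
  have hsq := root_sq hN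
  -- `1 + N` and `1 - N` are isometries
  have hiso : ∀ c : F, c ≠ 0 → ∀ x y, B (x + c • (α *ᵥ x)) (y + c • (α *ᵥ y)) = B x y := by
    intro c hc x y
    have hcN := root_smul hN hc
    have hu := h.root_mem hcN (unip (c • N) (by rw [smul_mul_smul_comm, hsq, smul_zero])) rfl
    have h1 := sp_form (h.le hu) (vec e P ![x, 0]) (vec e P ![0, y])
    have h2 : ∀ y' : Fin 2 → Fin n → F, ((unip (c • N) (by rw [smul_mul_smul_comm, hsq, smul_zero]) : GL (Fin m ⊕ Fin m) F) : Matrix _ _ F) *ᵥ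
        vec e P y' = vec e P ![y' 0 + c • (α *ᵥ y' 0 + β *ᵥ y' 1), y' 1 + c • (α *ᵥ y' 1)] := by
      intro y'
      show (1 + c • N) *ᵥ _ = _
      rw [add_mulVec, one_mulVec, smul_mulVec, hX, blk_mulVec, ← vec_smul, ← vec_add]
      congr 1
      funext i
      fin_cases i
      · simp [Fin.sum_univ_two]
      · simp [Fin.sum_univ_two]
    rw [h2, h2, h.form, h.form] at h1
    simpa using h1
  have hsk : ∀ x y, B (α *ᵥ x) y = -B x (α *ᵥ y) := by
    intro x y
    have e1 := hiso 1 one_ne_zero x y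
    have e2 := hiso (-1) (neg_ne_zero.mpr one_ne_zero) x y
    simp only [map_add, map_smul, LinearMap.add_apply, LinearMap.smul_apply, smul_eq_mul] at e1 e2
    have : (2 : F) * (B (α *ᵥ x) y + B x (α *ᵥ y)) = 0 := by linear_combination e1 - e2
    exact eq_neg_of_add_eq_zero_left ((mul_eq_zero.mp this).resolve_left h.two)
  have hαα : α * α = 0 := by
    rw [hX, ← map_mul, ← map_zero (blk e P)] at hsq
    have := congrFun (congrFun ((blk e P).injective hsq) 0) 0
    simpa [Matrix.mul_apply, Fin.sum_univ_two] using this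
  have hα0 : α = 0 := by
    have h1 := skew_nil_zero (W := Fin n → F) (by rw [Module.finrank_fin_fun]; exact hn) h.two h.symm h.nd
      (α := Matrix.toLin' α) (by
        intro x
        rw [Matrix.toLin'_apply, Matrix.toLin'_apply, mulVec_mulVec, hαα, zero_mulVec]) (by
        intro x y
        rw [Matrix.toLin'_apply, Matrix.toLin'_apply]
        exact hsk x y)
    apply Matrix.toLin'.injective
    rw [map_zero]
    exact LinearMap.ext h1
  rw [hα0] at hX
  have hXu : N = up e P β := hX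
  have hu := h.root_mem hN (unip N hsq) rfl
  have hβ : Matrix.toLin' β ∈ h.Smod := ⟨unip N hsq, hu, by
    rw [LinearMap.toMatrix'_toLin', ← hXu]
    rfl⟩
  obtain ⟨c, hc⟩ := hsc _ hβ
  refine ⟨c, ?_⟩
  rw [hXu, ← up_smul]
  congr 1
  apply Matrix.toLin'.injective
  apply LinearMap.ext
  intro w
  rw [hc, Matrix.toLin'_apply, smul_mulVec, one_mulVec]

theorem aeval_up {x : Matrix (Fin m ⊕ Fin m) (Fin m ⊕ Fin m) F} {α : Matrix (Fin n) (Fin n) F}
    (hx : ∀ γ, x * up e P γ = up e P (α * γ)) (p : Polynomial F) (γ : Matrix (Fin n) (Fin n) F) :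
    Polynomial.aeval x p * up e P γ = up e P (Polynomial.aeval α p * γ) := by
  induction p using Polynomial.induction_on' generalizing γ with
  | add p q hp hq => rw [map_add, map_add, add_mul, add_mul, hp, hq, up_add]
  | monomial k c =>
    rw [Polynomial.aeval_monomial, Polynomial.aeval_monomial, Algebra.algebraMap_eq_smul_one,
      Algebra.algebraMap_eq_smul_one, smul_mul_assoc, smul_mul_assoc, smul_mul_assoc, smul_mul_assoc, one_mul, one_mul,
      up_smul]
    congr 1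
    induction k generalizing γ with
    | zero => rw [pow_zero, pow_zero, one_mul, one_mul]
    | succ k ih => rw [pow_succ, pow_succ, mul_assoc, hx, ih, mul_assoc]

/-- The root elements satisfy the axioms. -/
theorem rootSet (h : Setup e P B M) (hn : n ≤ 3) (hsc : ∀ T ∈ h.Smod, ∃ c : F, ∀ w, T w = c • w) :
    RootSet F M (rootS e P M) where
  sq := fun N hN => root_sq hN
  smul := fun N hN c hc => root_smul hN hc
  conj := fun g hg N hN => root_conj hg hN
  mem := fun N hN g hg => h.root_mem hN g hg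
  comm := by
    intro N hN N' hN' hNN
    obtain ⟨g, hg, c, hc, rfl⟩ := hN
    have h1 := root_conj (M.inv_mem hg) hN'
    rw [inv_inv] at h1
    obtain ⟨x, rfl⟩ := conj_surj g N'
    have e1 : ((g⁻¹ : GL (Fin m ⊕ Fin m) F) : Matrix _ _ F) * ((g : Matrix _ _ F) * x * ((g⁻¹ : GL (Fin m ⊕ Fin m) F) : Matrix _ _ F)) * (g : Matrix _ _ F) = x := by
      rw [← mul_assoc, ← mul_assoc, Units.inv_mul, one_mul, mul_assoc, Units.inv_mul, mul_one]
    rw [e1] at h1
    rw [smul_mul_assoc, mul_smul_comm, conj_mul_conj, conj_mul_conj] at hNN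
    have e2 := conj_eq_iff.mp (smul_right_injective _ hc hNN)
    obtain ⟨μ, hμ⟩ := h.comm_up hn hsc h1 e2.symm
    refine ⟨μ * c⁻¹, ?_⟩
    rw [hμ, mul_smul_comm, smul_mul_assoc, smul_smul, mul_assoc μ, inv_mul_cancel₀ hc, mul_one]
  ker := by
    intro N hN f hf hfN hf0
    obtain ⟨g, hg, c, hc, rfl⟩ := hN
    obtain ⟨x, rfl⟩ := conj_surj g f
    rw [conj_mul_conj, conj_eq_iff] at hf
    rw [smul_mul_assoc, mul_smul_comm, conj_mul_conj, conj_mul_conj] at hfN
    have hfN := conj_eq_iff.mp (smul_right_injective _ hc hfN)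
    have hone : (1 : Matrix (Fin m ⊕ Fin m) (Fin m ⊕ Fin m) F) = (g : Matrix _ _ F) * 1 * ((g⁻¹ : GL (Fin m ⊕ Fin m) F) : Matrix _ _ F) := by
      rw [mul_one, Units.mul_inv]
    obtain ⟨α, β, rfl⟩ := blocks_of_comm hfN
    have e1 : (1 - blk e P !![α, β; 0, α]) * up e P 1 = 0 := by
      rw [hone, mul_smul_comm, ← sub_mul, ← mul_sub, conj_mul_conj] at hf0
      have h3 := (smul_eq_zero.mp hf0).resolve_left hc
      have h4 : (g : Matrix _ _ F) * ((1 - blk e P !![α, β; 0, α]) * up e P 1) * ((g⁻¹ : GL (Fin m ⊕ Fin m) F) : Matrix _ _ F) =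
          (g : Matrix _ _ F) * 0 * ((g⁻¹ : GL (Fin m ⊕ Fin m) F) : Matrix _ _ F) := by rw [h3, mul_zero, zero_mul]
      exact conj_eq_iff.mp h4
    have hα : α = 1 := by
      rw [up, ← map_one (blk e P), ← map_sub, ← map_mul, ← map_zero (blk e P)] at e1
      have := congrFun (congrFun ((blk e P).injective e1) 0) 1
      simp [Matrix.mul_apply, Fin.sum_univ_two] at this
      exact (sub_eq_zero.mp this).symm
    subst hα
    have hβ : β = 0 := by
      rw [← map_mul] at hf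
      have := congrFun (congrFun ((blk e P).injective hf) 0) 1
      simpa [Matrix.mul_apply, Fin.sum_univ_two] using this
    subst hβ
    have h5 : blk e P !![(1 : Matrix (Fin n) (Fin n) F), 0; 0, 1] = 1 := by
      rw [← map_one (blk e P)]
      congr 1
      ext i j : 1
      fin_cases i <;> fin_cases j <;> rfl
    rw [h5, ← hone]
  deg := by
    intro N hN Z hZ
    obtain ⟨g, hg, c, hc, rfl⟩ := hN
    obtain ⟨x, rfl⟩ := conj_surj g Z
    rw [smul_mul_assoc, mul_smul_comm, conj_mul_conj, conj_mul_conj] at hZ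
    have hZ := conj_eq_iff.mp (smul_right_injective _ hc hZ)
    obtain ⟨α, β, rfl⟩ := blocks_of_comm hZ
    refine ⟨α.charpoly, (Matrix.charpoly_monic α).ne_zero, ?_, ?_⟩
    · rw [Matrix.charpoly_natDegree_eq_dim, Fintype.card_fin]
      exact hn
    · have e1 : Polynomial.aeval ((g : Matrix _ _ F) * blk e P !![α, β; 0, α] * ((g⁻¹ : GL (Fin m ⊕ Fin m) F) : Matrix _ _ F)) α.charpoly =
          (g : Matrix _ _ F) * Polynomial.aeval (blk e P !![α, β; 0, α]) α.charpoly * ((g⁻¹ : GL (Fin m ⊕ Fin m) F) : Matrix _ _ F) :=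
        Polynomial.aeval_algHom_apply (conjA g) _ _
      rw [e1, mul_smul_comm, conj_mul_conj]
      have e2 : Polynomial.aeval (blk e P !![α, β; 0, α]) α.charpoly * up e P 1 = 0 := by
        rw [aeval_up (α := α), Matrix.aeval_self_charpoly, zero_mul, ← zero_smul F (1 : Matrix (Fin n) (Fin n) F), up_smul, zero_smul]
        intro γ
        rw [up, up, ← map_mul]
        congr 1
        ext i j : 1
        fin_cases i <;> fin_cases j <;> simp [Matrix.mul_apply, Fin.sum_univ_two]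
      rw [e2, mul_zero, zero_mul, smul_zero]

/-- Conjugates of `up 1` by elements of `SL₂ ⊗ 1`. -/
theorem tens_mem_root (h : Setup e P B M) {a b x : Matrix (Fin 2) (Fin 2) F} (ha : a.det = 1) (hab : a * b = 1) (hba : b * a = 1)
    (hx : a * !![0, 1; 0, 0] * b = x) : H912.tens e P x 1 ∈ rootS e P M := by
  let A : GL (Fin 2) F := ⟨a, b, hab, hba⟩
  have hA : tU e P A 1 ∈ M := h.tens a 1 ha h.one_isom _ rfl
  refine ⟨tU e P A 1, hA, 1, one_ne_zero, ?_⟩
  rw [one_smul, up_eq_tens, tU_conj, inv_one, Units.val_one, one_mul, mul_one]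
  congr 1
  exact hx.symm

/-- The root elements lie in `M₂ ⊗ 1`. -/
theorem root_le (h : Setup e P B M) (hn : n ≤ 3) (hsc : ∀ T ∈ h.Smod, ∃ c : F, ∀ w, T w = c • w)
    (hk2 : ringChar F ≠ 2) (hk3 : Nat.card F ≠ 3) {N : Matrix (Fin m ⊕ Fin m) (Fin m ⊕ Fin m) F}
    (hN : N ∈ rootS e P M) : N ∈ tensAlg e P := by
  have hR := h.rootSet hn hsc
  have m1 : H912.tens e P !![0, 1; 0, 0] 1 ∈ rootS e P M := by rw [← up_eq_tens]; exact up_mem
  have m2 : H912.tens e P !![0, 0; -1, 0] 1 ∈ rootS e P M :=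
    h.tens_mem_root (a := !![0, 1; -1, 0]) (b := !![0, -1; 1, 0]) (by simp [det_fin_two_of])
      (by ext i j; fin_cases i <;> fin_cases j <;> simp) (by ext i j; fin_cases i <;> fin_cases j <;> simp)
      (by ext i j; fin_cases i <;> fin_cases j <;> simp)
  have m3 : H912.tens e P !![-1, 1; -1, 1] 1 ∈ rootS e P M :=
    h.tens_mem_root (a := !![1, 0; 1, 1]) (b := !![1, 0; -1, 1]) (by simp [det_fin_two_of])
      (by ext i j; fin_cases i <;> fin_cases j <;> simp) (by ext i j; fin_cases i <;> fin_cases j <;> simp)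
      (by ext i j; fin_cases i <;> fin_cases j <;> simp)
  have hprop : ∀ x : Matrix (Fin 2) (Fin 2) F, (∃ c : F, N = c • H912.tens e P x 1) → N ∈ tensAlg e P := by
    rintro x ⟨c, rfl⟩
    exact (tensAlg e P).smul_mem ⟨x, rfl⟩ c
  by_cases c1 : ∃ c : F, N = c • H912.tens e P !![0, 1; 0, 0] 1
  · exact hprop _ c1
  by_cases c2 : ∃ c : F, N = c • H912.tens e P !![0, 0; -1, 0] 1
  · exact hprop _ c2
  by_cases c3 : ∃ c : F, N = c • H912.tens e P !![-1, 1; -1, 1] 1
  · exact hprop _ c3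
  obtain ⟨a1, -, h1⟩ := hR.anticomm_scalar hk2 hk3 h.big m1 hN c1
  obtain ⟨a2, -, h2⟩ := hR.anticomm_scalar hk2 hk3 h.big m2 hN c2
  obtain ⟨a3, -, h3⟩ := hR.anticomm_scalar hk2 hk3 h.big m3 hN c3
  obtain ⟨X, rfl⟩ := (blk e P).surjective N
  rw [← blk_tens, ← map_mul, ← map_mul, ← map_add, ← map_one (blk e P), ← map_smul, blk_eq_iff] at h1 h2 h3
  have e100 := congrFun (congrFun h1 0) 0
  have e101 := congrFun (congrFun h1 0) 1
  have e200 := congrFun (congrFun h2 0) 0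
  have e300 := congrFun (congrFun h3 0) 0
  simp [Matrix.mul_apply, Fin.sum_univ_two] at e100 e101 e200 e300
  -- the blocks
  have f10 : X 1 0 = a1 • 1 := e100
  have f01 : X 0 1 = (-a2) • 1 := by
    rw [neg_smul, ← e200, neg_neg]
  have h20 := h.two
  have f00 : X 0 0 = ((a1 + a2 - a3) / 2) • 1 := by
    have e4 : (2 : F) • X 0 0 = (a1 + a2 - a3) • (1 : Matrix (Fin n) (Fin n) F) := by
      have : (2 : F) • X 0 0 = X 1 0 - X 0 1 - a3 • 1 := by
        rw [← e300]
        module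
      rw [this, f10, f01]
      module
    have e5 := congrArg (fun t => (2 : F)⁻¹ • t) e4
    simp only [smul_smul, inv_mul_cancel₀ h20, one_smul] at e5
    rw [e5, div_eq_inv_mul]
  have f11 : X 1 1 = (-((a1 + a2 - a3) / 2)) • 1 := by
    rw [neg_smul, ← f00]
    exact eq_neg_of_add_eq_zero_left e101
  refine ⟨!![(a1 + a2 - a3) / 2, -a2; a1, -((a1 + a2 - a3) / 2)], ?_⟩
  rw [← blk_tens]
  congr 1
  ext i j : 1
  fin_cases i <;> fin_cases j
  · exact f00
  · exact f01
  · exact f10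
  · exact f11

/-- **The overgroups with scalar `Smod`** normalise `M₂ ⊗ 1`. -/
theorem le_of_scalar (h : Setup e P B M) (hn0 : 0 < n) (hn : n ≤ 3) (hsc : ∀ T ∈ h.Smod, ∃ c : F, ∀ w, T w = c • w)
    (hk2 : ringChar F ≠ 2) (hk3 : Nat.card F ≠ 3) : M ≤ tensorProductSubgroup 2 n e P := by
  refine le_tensorProductSubgroup (A := tensAlg e P) (by norm_num) hn0 (fun x => mem_tensAlg) ?_
  intro g hg x hx
  obtain ⟨a, rfl⟩ := mem_tensAlg.mp hx
  have m1 : H912.tens e P !![0, 1; 0, 0] 1 ∈ rootS e P M := by rw [← up_eq_tens]; exact up_mem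
  have m2 : H912.tens e P !![0, 0; -1, 0] 1 ∈ rootS e P M :=
    h.tens_mem_root (a := !![0, 1; -1, 0]) (b := !![0, -1; 1, 0]) (by simp [det_fin_two_of])
      (by ext i j; fin_cases i <;> fin_cases j <;> simp) (by ext i j; fin_cases i <;> fin_cases j <;> simp)
      (by ext i j; fin_cases i <;> fin_cases j <;> simp)
  have n1 := h.root_le hn hsc hk2 hk3 (root_conj hg m1)
  have n2 := h.root_le hn hsc hk2 hk3 (root_conj hg m2)
  have n12 := (tensAlg e P).mul_mem n1 n2
  have n21 := (tensAlg e P).mul_mem n2 n1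
  rw [conj_mul_conj, tens_mul, one_mul] at n12 n21
  have key : H912.tens e P a 1 = (-(a 0 0)) • H912.tens e P (!![0, 1; 0, 0] * !![0, 0; -1, 0]) 1 + a 0 1 • H912.tens e P !![0, 1; 0, 0] 1 +
      (-(a 1 0)) • H912.tens e P !![0, 0; -1, 0] 1 + (-(a 1 1)) • H912.tens e P (!![0, 0; -1, 0] * !![0, 1; 0, 0]) 1 := by
    rw [← blk_tens, ← blk_tens, ← blk_tens, ← blk_tens, ← blk_tens, ← map_smul (blk e P), ← map_smul (blk e P),
      ← map_smul (blk e P), ← map_smul (blk e P), ← map_add (blk e P), ← map_add (blk e P), ← map_add (blk e P)]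
    congr 1
    ext i j : 1
    fin_cases i <;> fin_cases j <;> simp
  rw [key]
  have hsm : ∀ (c : F) (y : Matrix (Fin m ⊕ Fin m) (Fin m ⊕ Fin m) F), (g : Matrix _ _ F) * (c • y) * ((g⁻¹ : GL (Fin m ⊕ Fin m) F) : Matrix _ _ F) =
      c • ((g : Matrix _ _ F) * y * ((g⁻¹ : GL (Fin m ⊕ Fin m) F) : Matrix _ _ F)) := fun c y => by
    rw [mul_smul_comm, smul_mul_assoc]
  rw [mul_add, mul_add, mul_add, add_mul, add_mul, add_mul, hsm, hsm, hsm, hsm]
  exact add_mem (add_mem (add_mem ((tensAlg e P).smul_mem n12 _) ((tensAlg e P).smul_mem n1 _))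
    ((tensAlg e P).smul_mem n2 _)) ((tensAlg e P).smul_mem n21 _)

end Setup

end Cfsg.Agent.H914.TensModel
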