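import Cfsg.Agent.H875.UnitSp
import Cfsg.Agent.H880.TI

/-!
# Overgroups of `GU₃(q).2` in `Sp₆(q)`, `q` odd (helper914)

`V` is a six-dimensional symplectic space with an endomorphism `κ`, `κ² = d` not a square, `f (κ x) y = - f x (κ y)`;
`M` is a group of isometries containing all isometries commuting with `κ` up to sign.
-/

set_option autoImplicit false
set_option linter.unusedSectionVars false
set_option linter.unusedSimpArgs false

namespace Cfsg.Agent.H914.UniThree

open Module Cfsg.Agent.H879 Cfsg.Agent.H879.UnitSymp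

variable {F V : Type*} [Field F] [AddCommGroup V] [Module F V]

/-- The hypotheses. -/
structure H6 (f : V →ₗ[F] V →ₗ[F] F) (κ : V →ₗ[F] V) (d : F) (M : Subgroup (V ≃ₗ[F] V)) : Prop where
  alt : ∀ x, f x x = 0
  ndeg : ∀ x, x ≠ 0 → ∃ y, f x y ≠ 0
  two : (2 : F) ≠ 0
  sq : ∀ x, κ (κ x) = d • x
  nsq : ∀ c : F, c * c ≠ d
  norm : ∀ e : F, ∃ α β : F, α * α - d * (β * β) = e
  adj : ∀ x y, f (κ x) y = - f x (κ y)
  dim : finrank F V = 6
  pres : ∀ g ∈ M, ∀ x y, f (g x) (g y) = f x y
  mem : ∀ g : V ≃ₗ[F] V, (∀ x y, f (g x) (g y) = f x y) → ∀ ε : F, ε * ε = 1 → (∀ x, g (κ x) = ε • κ (g x)) → g ∈ M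

variable {f : V →ₗ[F] V →ₗ[F] F} {κ : V →ₗ[F] V} {d : F} {M : Subgroup (V ≃ₗ[F] V)}

/-- A frame (with sign `ε`). -/
structure Fr (f : V →ₗ[F] V →ₗ[F] F) (κ : V →ₗ[F] V) (ε : F) (v w v' : V) : Prop where
  vv : f (κ v) v = 0
  ww : f (κ w) w = ε
  pp : f (κ v') v' = 0
  vp : f v v' = 0
  kvp : f (κ v) v' = ε
  vw : f v w = 0
  kvw : f (κ v) w = 0
  wp : f w v' = 0
  kwp : f (κ w) v' = 0

namespace H6

variable (h : H6 f κ d M)
include h

theorem skew (x y : V) : f x y = - f y x := by
  have := h.alt (x + y)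
  simp only [map_add, LinearMap.add_apply, h.alt, zero_add, add_zero] at this
  exact eq_neg_of_add_eq_zero_right this

theorem kk (x y : V) : f (κ x) (κ y) = - (d * f x y) := by
  rw [h.adj, h.sq, map_smul, smul_eq_mul]

theorem symm (x y : V) : f (κ x) y = f (κ y) x := by
  rw [h.adj, h.skew x, neg_neg]

theorem d_ne : d ≠ 0 := by
  rintro rfl
  exact h.nsq 0 (mul_zero 0)

theorem finite : FiniteDimensional F V :=
  Module.finite_of_finrank_pos (by have := h.dim; omega)

theorem pres_inv {g : V ≃ₗ[F] V} (hg : g ∈ M) (x y : V) : f (g⁻¹ x) y = f x (g y) := by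
  have h1 := h.pres g hg (g⁻¹ x) y
  rw [apply_inv_apply] at h1
  exact h1.symm

theorem q_add (x y : V) : f (κ (x + y)) (x + y) = f (κ x) x + f (κ y) y + 2 * f (κ x) y := by
  simp only [map_add, LinearMap.add_apply]
  rw [h.symm y x]
  ring

theorem q_smul (c : F) (x : V) : f (κ (c • x)) (c • x) = c * c * f (κ x) x := by
  simp only [map_smul, LinearMap.smul_apply, smul_eq_mul]
  ring

theorem q_comb (α β : F) (x : V) :
    f (κ (α • x + β • κ x)) (α • x + β • κ x) = (α * α - d * (β * β)) * f (κ x) x := by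
  simp only [map_add, map_smul, LinearMap.add_apply, LinearMap.smul_apply, smul_eq_mul, h.sq,
    h.alt, h.skew x (κ x)]
  ring

theorem quad_ne {p p' : F} (hp : p ≠ 0 ∨ p' ≠ 0) : p' * p' - d * (p * p) ≠ 0 := by
  intro h0
  by_cases hp0 : p = 0
  · subst hp0
    rcases hp with hp | hp
    · exact hp rfl
    · have : p' * p' = 0 := by linear_combination h0
      exact hp (mul_self_eq_zero.1 this)
  · apply h.nsq (p' / p)
    field_simp
    linear_combination h0

/-- The basis attached to a frame. -/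
theorem exists_basis {ε : F} (hε : ε * ε = 1) {v w v' : V} (hF : Fr f κ ε v w v') :
    ∃ b : Basis (Fin 6) F V, ⇑b = ![v, ε • κ v, w, ε • κ w, v', ε • κ v'] := by
  have := h.finite
  have e1 : f v (κ v) = 0 := by rw [h.skew, hF.vv, neg_zero]
  have e2 : f w (κ w) = -ε := by rw [h.skew, hF.ww]
  have e3 : f v' (κ v') = 0 := by rw [h.skew, hF.pp, neg_zero]
  have e4 : f v' v = 0 := by rw [h.skew, hF.vp, neg_zero]
  have e5 : f v' (κ v) = -ε := by rw [h.skew, hF.kvp]
  have e6 : f w v = 0 := by rw [h.skew, hF.vw, neg_zero]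
  have e7 : f w (κ v) = 0 := by rw [h.skew, hF.kvw, neg_zero]
  have e8 : f v' w = 0 := by rw [h.skew, hF.wp, neg_zero]
  have e9 : f v' (κ w) = 0 := by rw [h.skew, hF.kwp, neg_zero]
  have g1 : f (κ v') v = ε := by rw [h.symm, hF.kvp]
  have g2 : f (κ w) v = 0 := by rw [h.symm, hF.kvw]
  have g3 : f (κ v') w = 0 := by rw [h.symm, hF.kwp]
  have hε0 : ε ≠ 0 := by
    rintro rfl
    rw [mul_zero] at hε
    exact zero_ne_one hε
  have hli : LinearIndependent F ![v, ε • κ v, w, ε • κ w, v', ε • κ v'] := by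
    rw [Fintype.linearIndependent_iff]
    intro c hc
    rw [Fin.sum_univ_six] at hc
    simp only [Matrix.cons_val_zero, Matrix.cons_val_one, Matrix.cons_val] at hc
    have t0 := congrArg (fun x => f x (κ v')) hc
    have t1 := congrArg (fun x => f x v') hc
    have t2 := congrArg (fun x => f x (κ w)) hc
    have t3 := congrArg (fun x => f x w) hc
    have t4 := congrArg (fun x => f x (κ v)) hc
    have t5 := congrArg (fun x => f x v) hc
    have k1 : f v (κ v') = -ε := by rw [h.skew, g1]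
    have k2 : f w (κ v') = 0 := by rw [h.skew, g3, neg_zero]
    have k3 : f v (κ w) = 0 := by rw [h.skew, g2, neg_zero]
    simp only [map_add, map_smul, LinearMap.add_apply, LinearMap.smul_apply, smul_eq_mul, map_zero,
      LinearMap.zero_apply, h.kk, h.alt, e1, e2, e3, e4, e5, e6, e7, e8, e9, g1, g2, g3, k1, k2, k3, hF.vv, hF.ww, hF.pp,
      hF.vp, hF.kvp, hF.vw, hF.kvw, hF.wp, hF.kwp, mul_zero, neg_zero, add_zero, zero_add] at t0 t1 t2 t3 t4 t5
    intro i
    fin_cases i
    · exact (mul_eq_zero.1 t0).resolve_right (neg_ne_zero.2 hε0)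
    · rw [hε, mul_one] at t1; exact t1
    · exact (mul_eq_zero.1 t2).resolve_right (neg_ne_zero.2 hε0)
    · rw [hε, mul_one] at t3; exact t3
    · exact (mul_eq_zero.1 t4).resolve_right (neg_ne_zero.2 hε0)
    · rw [hε, mul_one] at t5; exact t5
  exact ⟨basisOfLinearIndependentOfCardEqFinrank hli (by rw [h.dim]; rfl),
    coe_basisOfLinearIndependentOfCardEqFinrank hli (by rw [h.dim]; rfl)⟩

/-- The Gram matrix of a frame. -/
theorem gram {ε : F} (hε : ε * ε = 1) {v w v' : V} (hF : Fr f κ ε v w v') (i j : Fin 6) :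
    f (![v, ε • κ v, w, ε • κ w, v', ε • κ v'] i) (![v, ε • κ v, w, ε • κ w, v', ε • κ v'] j) =
      (![![0, 0, 0, 0, 0, -1], ![0, 0, 0, 0, 1, 0], ![0, 0, 0, -1, 0, 0], ![0, 0, 1, 0, 0, 0], ![0, -1, 0, 0, 0, 0],
        ![1, 0, 0, 0, 0, 0]] : Fin 6 → Fin 6 → F) i j := by
  have e1 : f v (κ v) = 0 := by rw [h.skew, hF.vv, neg_zero]
  have e2 : f w (κ w) = -ε := by rw [h.skew, hF.ww]
  have e3 : f v' (κ v') = 0 := by rw [h.skew, hF.pp, neg_zero]
  have e4 : f v' v = 0 := by rw [h.skew, hF.vp, neg_zero]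
  have e5 : f v' (κ v) = -ε := by rw [h.skew, hF.kvp]
  have e6 : f w v = 0 := by rw [h.skew, hF.vw, neg_zero]
  have e7 : f w (κ v) = 0 := by rw [h.skew, hF.kvw, neg_zero]
  have e8 : f v' w = 0 := by rw [h.skew, hF.wp, neg_zero]
  have e9 : f v' (κ w) = 0 := by rw [h.skew, hF.kwp, neg_zero]
  have g1 : f (κ v') v = ε := by rw [h.symm, hF.kvp]
  have g2 : f (κ w) v = 0 := by rw [h.symm, hF.kvw]
  have g3 : f (κ v') w = 0 := by rw [h.symm, hF.kwp]
  have k1 : f v (κ v') = -ε := by rw [h.skew, g1]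
  have k2 : f w (κ v') = 0 := by rw [h.skew, g3, neg_zero]
  have k3 : f v (κ w) = 0 := by rw [h.skew, g2, neg_zero]
  fin_cases i <;> fin_cases j <;>
    simp [h.kk, h.alt, e1, e2, e3, e4, e5, e6, e7, e8, e9, g1, g2, g3, k1, k2, k3, hF.vv, hF.ww, hF.pp,
      hF.vp, hF.kvp, hF.vw, hF.kvw, hF.wp, hF.kwp, hε]

/-- **Extension lemma**: frames are conjugate under the group. -/
theorem exists_ext {ε : F} (hε : ε * ε = 1) {v w v' v₁ w₁ v₁' : V} (hF : Fr f κ 1 v w v') (hF₁ : Fr f κ ε v₁ w₁ v₁') :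
    ∃ g ∈ M, (∀ x, g (κ x) = ε • κ (g x)) ∧ g v = v₁ ∧ g w = w₁ ∧ g v' = v₁' := by
  obtain ⟨b, hb⟩ := h.exists_basis (one_mul 1) hF
  obtain ⟨b₁, hb₁⟩ := h.exists_basis hε hF₁
  let g : V ≃ₗ[F] V := b.equiv b₁ (Equiv.refl _)
  have hg : ∀ i, g (b i) = b₁ i := fun i => b.equiv_apply i b₁ (Equiv.refl _)
  have g0 := hg 0
  have g1 := hg 1
  have g2 := hg 2
  have g3 := hg 3
  have g4 := hg 4
  have g5 := hg 5
  rw [hb, hb₁] at g0 g1 g2 g3 g4 g5
  simp only [Matrix.cons_val_zero, Matrix.cons_val_one, Matrix.cons_val, one_smul] at g0 g1 g2 g3 g4 g5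
  have hκ : ∀ x, g (κ x) = ε • κ (g x) := by
    have : (g : V →ₗ[F] V) ∘ₗ κ = ε • (κ ∘ₗ (g : V →ₗ[F] V)) := by
      apply b.ext
      intro i
      rw [hb]
      simp only [LinearMap.comp_apply, LinearMap.smul_apply, LinearEquiv.coe_coe]
      fin_cases i
      · simpa [g0] using g1
      · simp [g0, g1, h.sq, smul_smul, ← mul_assoc, hε]
      · simpa [g2] using g3
      · simp [g2, g3, h.sq, smul_smul, ← mul_assoc, hε]
      · simpa [g4] using g5
      · simp [g4, g5, h.sq, smul_smul, ← mul_assoc, hε]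
    intro x
    exact LinearMap.congr_fun this x
  have hiso : ∀ x y, f (g x) (g y) = f x y := by
    have : f.compl₁₂ (g : V →ₗ[F] V) (g : V →ₗ[F] V) = f := by
      apply LinearMap.ext_basis b b
      intro i j
      rw [LinearMap.compl₁₂_apply, LinearEquiv.coe_coe, hg, hg, hb, hb₁, h.gram hε hF₁]
      have := h.gram (one_mul 1) hF i j
      exact this.symm
    intro x y
    exact LinearMap.congr_fun₂ this x y
  exact ⟨g, h.mem g hiso ε hε hκ, hκ, g0, g2, g4⟩

/-- Existence of frames. -/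
theorem exists_frame {v : V} (hv : v ≠ 0) (hq : f (κ v) v = 0) : ∃ w v', Fr f κ 1 v w v' := by
  have := h.finite
  have h2 := h.two
  -- `v'`
  obtain ⟨v', p1, p2, p3⟩ : ∃ v', f (κ v) v' = 1 ∧ f v v' = 0 ∧ f (κ v') v' = 0 := by
    obtain ⟨z, hz⟩ := h.ndeg v hv
    -- the value of the hermitian form is non-zero; divide
    set p := f v z with hp
    set p' := f (κ v) z with hp'
    have hD : p' * p' - d * (p * p) ≠ 0 := h.quad_ne (Or.inl hz)
    set D := p' * p' - d * (p * p) with hDdef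
    let z₁ := (p' / D) • z + (p / D) • κ z
    have k2 : f v (κ z) = - f (κ v) z := by rw [h.adj, neg_neg]
    have k3 : f (κ v) (κ z) = - (d * f v z) := h.kk _ _
    have z1 : f (κ v) z₁ = 1 := by
      show f (κ v) ((p' / D) • z + (p / D) • κ z) = 1
      rw [map_add, map_smul, map_smul, smul_eq_mul, smul_eq_mul, ← hp', k3, ← hp]
      field_simp
      rw [hDdef]
      ring
    have z2 : f v z₁ = 0 := by
      show f v ((p' / D) • z + (p / D) • κ z) = 0
      rw [map_add, map_smul, map_smul, smul_eq_mul, smul_eq_mul, k2, ← hp, ← hp']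
      field_simp
      ring
    refine ⟨z₁ + (-(f (κ z₁) z₁ / 2)) • v, ?_, ?_, ?_⟩
    · rw [map_add, z1, map_smul, hq, smul_zero, add_zero]
    · rw [map_add, z2, map_smul, h.alt, smul_zero, add_zero]
    · rw [h.q_add, h.q_smul, hq, mul_zero, add_zero, map_smul, h.symm z₁ v, z1, smul_eq_mul]
      field_simp
      ring
  -- the orthogonal complement
  obtain ⟨w, hw0, w1, w2, w3, w4⟩ : ∃ w, w ≠ 0 ∧ f v w = 0 ∧ f (κ v) w = 0 ∧ f v' w = 0 ∧ f (κ v') w = 0 := by
    let L : V →ₗ[F] (Fin 4 → F) := LinearMap.pi ![f v, f (κ v), f v', f (κ v')]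
    have h1 := LinearMap.finrank_range_add_finrank_ker L
    have h2 : finrank F (LinearMap.range L) ≤ 4 := by
      have := Submodule.finrank_le (LinearMap.range L)
      simpa using this
    rw [h.dim] at h1
    have h3 : LinearMap.ker L ≠ ⊥ := by
      intro h0
      rw [h0, finrank_bot] at h1
      omega
    obtain ⟨w, hw, hw0⟩ := (Submodule.ne_bot_iff _).1 h3
    rw [LinearMap.mem_ker] at hw
    exact ⟨w, hw0, congrFun hw 0, congrFun hw 1, congrFun hw 2, congrFun hw 3⟩
  have hkadj : ∀ x e, f (κ x) e = 0 → f x (κ e) = 0 := by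
    intro x e hxe
    have := h.adj x e
    rw [hxe] at this
    exact neg_eq_zero.1 this.symm
  have hww : f (κ w) w ≠ 0 := by
    intro h0
    -- `w` is orthogonal to a basis
    have h0' : f w (κ w) = 0 := by rw [h.skew, h0, neg_zero]
    have hli : LinearIndependent F ![v, κ v, v', κ v', w, κ w] := by
      rw [Fintype.linearIndependent_iff]
      intro c hc
      rw [Fin.sum_univ_six] at hc
      simp only [Matrix.cons_val_zero, Matrix.cons_val_one, Matrix.cons_val] at hc
      have e1 : f v (κ v) = 0 := by rw [h.skew, hq, neg_zero]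
      have e3 : f v' (κ v') = 0 := by rw [h.skew, p3, neg_zero]
      have e4 : f v' v = 0 := by rw [h.skew, p2, neg_zero]
      have e5 : f v' (κ v) = -1 := by rw [h.skew, p1]
      have g1 : f (κ v') v = 1 := by rw [h.symm, p1]
      have k1 : f v (κ v') = -1 := by rw [h.skew, g1]
      have m1 : f w v = 0 := by rw [h.skew, w1, neg_zero]
      have m2 : f w (κ v) = 0 := by rw [h.skew, w2, neg_zero]
      have m3 : f w v' = 0 := by rw [h.skew, w3, neg_zero]
      have m4 : f w (κ v') = 0 := by rw [h.skew, w4, neg_zero]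
      have m5 : f (κ w) v = 0 := by rw [h.symm, w2]
      have m6 : f (κ w) v' = 0 := by rw [h.symm, w4]
      have t0 := congrArg (fun x => f x (κ v')) hc
      have t1 := congrArg (fun x => f x v') hc
      have t4 := congrArg (fun x => f x (κ v)) hc
      have t5 := congrArg (fun x => f x v) hc
      simp only [map_add, map_smul, LinearMap.add_apply, LinearMap.smul_apply, smul_eq_mul, map_zero,
        LinearMap.zero_apply, h.kk, h.alt, e1, e3, e4, e5, g1, k1, m1, m2, m3, m4, m5, m6, hq, p1, p2, p3,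
        mul_zero, neg_zero, add_zero, zero_add, mul_one] at t0 t1 t4 t5
      have c0 : c 0 = 0 := by simpa using t0
      have c1 : c 1 = 0 := t1
      have c2 : c 2 = 0 := by simpa using t4
      have c3 : c 3 = 0 := t5
      rw [c0, c1, c2, c3] at hc
      simp only [zero_smul, zero_add] at hc
      -- `c 4 • w + c 5 • κ w = 0`
      have hc' := congrArg (fun x => (c 4) • x - (c 5) • κ x) hc
      simp only [map_add, map_smul, h.sq, smul_zero, map_zero, sub_zero] at hc'
      have h5 : (c 4 * c 4 - d * (c 5 * c 5)) • w = 0 := by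
        rw [← hc']
        module
      have h6 := (smul_eq_zero.1 h5).resolve_right hw0
      have h7 : c 5 = 0 ∧ c 4 = 0 := by
        by_contra hcon
        have : c 5 ≠ 0 ∨ c 4 ≠ 0 := by
          by_contra hcon'
          push Not at hcon'
          exact hcon hcon'
        exact h.quad_ne this h6
      intro i
      fin_cases i
      · exact c0
      · exact c1
      · exact c2
      · exact c3
      · exact h7.2
      · exact h7.1
    let b := basisOfLinearIndependentOfCardEqFinrank hli (by rw [h.dim]; rfl)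
    have hb : ⇑b = ![v, κ v, v', κ v', w, κ w] := coe_basisOfLinearIndependentOfCardEqFinrank hli (by rw [h.dim]; rfl)
    obtain ⟨y, hy⟩ := h.ndeg w hw0
    apply hy
    have : f w = 0 := by
      apply b.ext
      intro i
      rw [hb]
      fin_cases i
      · simpa using (by rw [h.skew, w1, neg_zero] : f w v = 0)
      · simpa using (by rw [h.skew, w2, neg_zero] : f w (κ v) = 0)
      · simpa using (by rw [h.skew, w3, neg_zero] : f w v' = 0)
      · simpa using (by rw [h.skew, w4, neg_zero] : f w (κ v') = 0)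
      · simpa using h.alt w
      · simpa using h0'
    rw [this, LinearMap.zero_apply]
  obtain ⟨α, β, hαβ⟩ := h.norm (1 / f (κ w) w)
  refine ⟨α • w + β • κ w, v', ?_⟩
  have m5 : f v (κ w) = 0 := hkadj _ _ w2
  have m6 : f (κ v) (κ w) = 0 := by rw [h.kk, w1, mul_zero, neg_zero]
  have m7 : f w v' = 0 := by rw [h.skew, w3, neg_zero]
  have m8 : f (κ w) v' = 0 := by rw [h.symm, w4]
  refine ⟨hq, ?_, p3, p2, p1, ?_, ?_, ?_, ?_⟩
  · rw [h.q_comb, hαβ, one_div, inv_mul_cancel₀ hww]
  · rw [map_add, map_smul, map_smul, w1, m5]; simp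
  · rw [map_add, map_smul, map_smul, w2, m6]; simp
  · rw [map_add, map_smul, map_smul, LinearMap.add_apply, LinearMap.smul_apply, LinearMap.smul_apply, m7, m8]; simp
  · simp only [map_add, map_smul, h.sq, LinearMap.add_apply, LinearMap.smul_apply, m8, m7, smul_zero, add_zero]

end H6

end Cfsg.Agent.H914.UniThree
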