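import Cfsg.Agent.H914.UniThreeC

/-!
# Overgroups of `GU₃(q).2` in `Sp₆(q)`, IV: the alternative (helper914)
-/

set_option autoImplicit false
set_option linter.unusedSectionVars false
set_option linter.unusedSimpArgs false

namespace Cfsg.Agent.H914.UniThree

open Module Cfsg.Agent.H879 Cfsg.Agent.H879.UnitSymp

variable {F V : Type*} [Field F] [AddCommGroup V] [Module F V]
variable {f : V →ₗ[F] V →ₗ[F] F} {κ : V →ₗ[F] V} {d : F} {M : Subgroup (V ≃ₗ[F] V)}

namespace H6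

variable (h : H6 f κ d M)
include h

/-- Lemma R for all vectors of the perp. -/
theorem klin' {v w v' : V} (hF : Fr f κ 1 v w v') (hnt : ¬ ∀ (y : V) (e : F), Has M (tr f y e)) {c : V ≃ₗ[F] V}
    (hc : c ∈ M) (hv : c v = v) (hκv : c (κ v) = κ v)
    (hA : ∀ z, f z v = 0 → f z (κ v) = 0 → ∃ s t : F, c z = z + s • v + t • κ v) {z : V} (hz1 : f z v = 0)
    (hz2 : f z (κ v) = 0) : c (κ z) - κ z = κ (c z - z) := by
  have hV := h.vals hF
  obtain ⟨x₁, x₂, hw⟩ := hA w hV.a6 hV.a7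
  obtain ⟨y₁, y₂, hκw⟩ := hA (κ w) hV.b2 (by rw [h.kk, hV.a6, mul_zero, neg_zero])
  obtain ⟨e1, e2⟩ := h.klin hF hnt hc hv hκv hw hκw
  have hexp := h.expand_perp hF hz1 hz2
  rw [hexp]
  simp only [map_add, map_smul, map_sub, hv, hκv, hw, hκw, h.sq, e1, e2]
  module

/-- **Lemma N**: the stabiliser of an isotropic `K`-line is semilinear. -/
theorem semilinear_of_stab {v w v' : V} (hF : Fr f κ 1 v w v') (hnt : ¬ ∀ (y : V) (e : F), Has M (tr f y e))
    {g : V ≃ₗ[F] V} (hg : g ∈ M) {a₁ a₂ b₁ b₂ : F} (hgv : g v = a₁ • v + a₂ • κ v)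
    (hgκv : g (κ v) = b₁ • v + b₂ • κ v) : ∃ ε : F, ε * ε = 1 ∧ ∀ x, g (κ x) = ε • κ (g x) := by
  have hV := h.vals hF
  have h2 := h.two
  have hd := h.d_ne
  have hv0 : v ≠ 0 := by
    rintro rfl
    have := hF.kvp
    simp at this
  have hind : ∀ s t : F, s • v + t • κ v = 0 → s = 0 ∧ t = 0 := by
    intro s t hst
    have t1 := congrArg (fun z => f z (κ v')) hst
    have t2 := congrArg (fun z => f z v') hst
    simp only [map_add, map_smul, LinearMap.add_apply, LinearMap.smul_apply, smul_eq_mul, h.kk, hV.c1, hF.vp, hF.kvp,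
      map_zero, LinearMap.zero_apply, mul_zero, neg_zero, add_zero, zero_add, mul_one, mul_neg, neg_eq_zero] at t1 t2
    exact ⟨t1, t2⟩
  -- `A` and its inverse image
  have hdet : a₁ * b₂ - a₂ * b₁ ≠ 0 := by
    intro h0
    have e1 : g (b₂ • v - a₂ • κ v) = (0 : F) • v := by
      rw [map_sub, map_smul, map_smul, hgv, hgκv]
      have : b₂ • (a₁ • v + a₂ • κ v) - a₂ • (b₁ • v + b₂ • κ v) = (a₁ * b₂ - a₂ * b₁) • v := by module
      rw [this, h0]
    have e2 : g (b₁ • v - a₁ • κ v) = (0 : F) • v := by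
      rw [map_sub, map_smul, map_smul, hgv, hgκv]
      have : b₁ • (a₁ • v + a₂ • κ v) - a₁ • (b₁ • v + b₂ • κ v) = (-(a₁ * b₂ - a₂ * b₁)) • κ v := by module
      rw [this, h0]
      simp
    rw [zero_smul, LinearEquiv.map_eq_zero_iff, sub_eq_add_neg, ← neg_smul] at e1 e2
    obtain ⟨z1, z2⟩ := hind _ _ e1
    obtain ⟨z3, z4⟩ := hind _ _ e2
    rw [neg_eq_zero] at z2 z4
    rw [z4, z2, zero_smul, zero_smul, add_zero, LinearEquiv.map_eq_zero_iff] at hgv
    exact hv0 hgv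
  have hinvv : ∃ s t : F, g⁻¹ v = s • v + t • κ v := by
    refine ⟨b₂ / (a₁ * b₂ - a₂ * b₁), -a₂ / (a₁ * b₂ - a₂ * b₁), ?_⟩
    apply g.injective
    rw [apply_inv_apply, map_add, map_smul, map_smul, hgv, hgκv]
    have e : (b₂ / (a₁ * b₂ - a₂ * b₁)) • (a₁ • v + a₂ • κ v) + (-a₂ / (a₁ * b₂ - a₂ * b₁)) • (b₁ • v + b₂ • κ v) =
        (a₁ * b₂ - a₂ * b₁)⁻¹ • ((a₁ * b₂ - a₂ * b₁) • v) := by
      simp only [div_eq_mul_inv]
      generalize (a₁ * b₂ - a₂ * b₁)⁻¹ = D'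
      module
    rw [e, inv_smul_smul₀ hdet]
  have hinvκv : ∃ s t : F, g⁻¹ (κ v) = s • v + t • κ v := by
    refine ⟨-b₁ / (a₁ * b₂ - a₂ * b₁), a₁ / (a₁ * b₂ - a₂ * b₁), ?_⟩
    apply g.injective
    rw [apply_inv_apply, map_add, map_smul, map_smul, hgv, hgκv]
    have e : (-b₁ / (a₁ * b₂ - a₂ * b₁)) • (a₁ • v + a₂ • κ v) + (a₁ / (a₁ * b₂ - a₂ * b₁)) • (b₁ • v + b₂ • κ v) =
        (a₁ * b₂ - a₂ * b₁)⁻¹ • ((a₁ * b₂ - a₂ * b₁) • κ v) := by
      simp only [div_eq_mul_inv]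
      generalize (a₁ * b₂ - a₂ * b₁)⁻¹ = D'
      module
    rw [e, inv_smul_smul₀ hdet]
  have hA : ∀ y, (∃ s t : F, y = s • v + t • κ v) → ∃ s t : F, g y = s • v + t • κ v := by
    rintro y ⟨s, t, rfl⟩
    refine ⟨s * a₁ + t * b₁, s * a₂ + t * b₂, ?_⟩
    rw [map_add, map_smul, map_smul, hgv, hgκv]
    module
  have hA' : ∀ y, (∃ s t : F, y = s • v + t • κ v) → ∃ s t : F, g⁻¹ y = s • v + t • κ v := by
    rintro y ⟨s, t, rfl⟩
    obtain ⟨p, q, hp⟩ := hinvv
    obtain ⟨p', q', hp'⟩ := hinvκv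
    refine ⟨s * p + t * p', s * q + t * q', ?_⟩
    rw [map_add, map_smul, map_smul, hp, hp']
    module
  -- `g` and `g⁻¹` preserve the perp
  have hperp : ∀ z, f z v = 0 ∧ f z (κ v) = 0 ↔ ∀ y, (∃ s t : F, y = s • v + t • κ v) → f z y = 0 := by
    intro z
    constructor
    · rintro ⟨z1, z2⟩ y ⟨s, t, rfl⟩
      rw [map_add, map_smul, map_smul, z1, z2]
      simp
    · intro hz
      exact ⟨hz v ⟨1, 0, by simp⟩, hz (κ v) ⟨0, 1, by simp⟩⟩
  have hgp : ∀ z, f z v = 0 ∧ f z (κ v) = 0 → f (g z) v = 0 ∧ f (g z) (κ v) = 0 := by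
    intro z hz
    rw [hperp] at hz ⊢
    intro y hy
    rw [← apply_inv_apply g y, h.pres g hg]
    exact hz _ (hA' y hy)
  have hgp' : ∀ z, f z v = 0 ∧ f z (κ v) = 0 → f (g⁻¹ z) v = 0 ∧ f (g⁻¹ z) (κ v) = 0 := by
    intro z hz
    rw [hperp] at hz ⊢
    intro y hy
    rw [h.pres_inv hg]
    exact hz _ (hA y hy)
  have hkp : ∀ z, f z v = 0 ∧ f z (κ v) = 0 → f (κ z) v = 0 ∧ f (κ z) (κ v) = 0 := by
    rintro z ⟨z1, z2⟩
    refine ⟨by rw [h.adj, z2, neg_zero], by rw [h.kk, z1, mul_zero, neg_zero]⟩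
  -- the elements `u₁ : w ↦ w + v` and `u₂ : w ↦ w + κ v`
  obtain ⟨u, hu, huκ, uv, uw, -⟩ := h.exists_u hF
  have uκv : u (κ v) = κ v := by rw [huκ, uv]
  obtain ⟨τ, hτ, hτκ, hτv⟩ := h.exists_torus hv0 hF.vv (a := 0) (b := 1) (Or.inr one_ne_zero)
  rw [zero_smul, zero_add, one_smul] at hτv
  -- conjugate of `u` by the element `w ↦ κ v`-scaling
  have key : ∀ u ∈ M, (∀ x, u (κ x) = κ (u x)) → u v = v →
      (∀ z, f z v = 0 → f z (κ v) = 0 → ∃ s t : F, u z = z + s • v + t • κ v) →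
      ∀ y, f y v = 0 ∧ f y (κ v) = 0 → g⁻¹ (κ (g (u y - y))) = u (g⁻¹ (κ (g y))) - g⁻¹ (κ (g y)) := by
    intro u hu huκ uv uA y hy
    have uκv : u (κ v) = κ v := by rw [huκ, uv]
    have huA : ∀ y, (∃ s t : F, y = s • v + t • κ v) → u y = y := by
      rintro y ⟨s, t, rfl⟩
      rw [map_add, map_smul, map_smul, uv, uκv]
    set c := g * u * g⁻¹ with hc
    have hcM : c ∈ M := M.mul_mem (M.mul_mem hg hu) (M.inv_mem hg)
    have hcx : ∀ x, c x = g (u (g⁻¹ x)) := fun x => rfl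
    have c1 : c v = v := by rw [hcx, huA _ hinvv, apply_inv_apply]
    have c2 : c (κ v) = κ v := by rw [hcx, huA _ hinvκv, apply_inv_apply]
    have c3 : ∀ z, f z v = 0 → f z (κ v) = 0 → ∃ s t : F, c z = z + s • v + t • κ v := by
      intro z z1 z2
      obtain ⟨z3, z4⟩ := hgp' z ⟨z1, z2⟩
      obtain ⟨s, t, hst⟩ := uA _ z3 z4
      obtain ⟨s', t', hst'⟩ := hA (s • v + t • κ v) ⟨s, t, rfl⟩
      refine ⟨s', t', ?_⟩
      rw [hcx, hst, add_assoc, map_add, hst', apply_inv_apply, add_assoc]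
    have hgy := hgp y hy
    have h3 := h.klin' hF hnt hcM c1 c2 c3 hgy.1 hgy.2
    rw [hcx, hcx, inv_apply_apply] at h3
    have h4 := congrArg (fun x => g⁻¹ x) h3
    simp only [map_sub, inv_apply_apply] at h4
    rw [h4]
    simp only [map_sub]
  have uA1 : ∀ z, f z v = 0 → f z (κ v) = 0 → u z = z + (-(f z (κ w))) • v + f z w • κ v := by
    intro z z1 z2
    have hexp := h.expand_perp hF z1 z2
    have e1 : u z = (-(f z (κ v'))) • v + f z v' • κ v + (-(f z (κ w))) • (w + v) + f z w • κ (w + v) := by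
      conv_lhs => rw [hexp]
      simp only [map_add, map_smul, uv, uκv, uw, huκ]
    rw [e1]
    conv_rhs => rw [show z + (-(f z (κ w))) • v + f z w • κ v = ((-(f z (κ v'))) • v + f z v' • κ v +
      (-(f z (κ w))) • w + f z w • κ w) + (-(f z (κ w))) • v + f z w • κ v from by rw [← hexp]]
    rw [map_add]
    module
  -- the second element
  obtain ⟨u', hu', hu'κ, u'v, uA2⟩ : ∃ u' ∈ M, (∀ x, u' (κ x) = κ (u' x)) ∧ u' v = v ∧
      ∀ z, f z v = 0 → f z (κ v) = 0 → u' z = z + κ ((-(f z (κ w))) • v + f z w • κ v) := by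
    have hF₁ : Fr f κ 1 v (w + κ v) (v' + κ w + (d / 2 : F) • v) := by
      refine ⟨hF.vv, ?_, ?_, ?_, ?_, ?_, ?_, ?_, ?_⟩ <;>
      simp only [map_add, map_sub, map_smul, LinearMap.add_apply, LinearMap.sub_apply, LinearMap.smul_apply, smul_eq_mul, h.kk, h.alt, h.sq, hV.a1, hV.a2, hV.a3,
        hV.a4, hV.a5, hV.a6, hV.a7, hV.a8, hV.a9, hV.b1, hV.b2, hV.b3, hV.c1, hV.c2, hV.c3, hF.vv, hF.ww, hF.pp, hF.vp, hF.kvp,
        hF.vw, hF.kvw, hF.wp, hF.kwp, mul_zero, neg_zero, add_zero, zero_add, mul_one, mul_neg, neg_neg, sub_zero, zero_sub]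
      · field_simp
        ring
      · ring
    obtain ⟨u', hu', hκ', u1, u2, -⟩ := h.exists_ext (one_mul 1) hF hF₁
    simp only [one_smul] at hκ'
    refine ⟨u', hu', hκ', u1, ?_⟩
    intro z z1 z2
    have hexp := h.expand_perp hF z1 z2
    have e1 : u' z = (-(f z (κ v'))) • v + f z v' • κ v + (-(f z (κ w))) • (w + κ v) + f z w • κ (w + κ v) := by
      conv_lhs => rw [hexp]
      simp only [map_add, map_smul, u1, hκ', u2]
    rw [e1]
    conv_rhs => rw [show z + κ ((-(f z (κ w))) • v + f z w • κ v) = ((-(f z (κ v'))) • v + f z v' • κ v +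
      (-(f z (κ w))) • w + f z w • κ w) + κ ((-(f z (κ w))) • v + f z w • κ v) from by rw [← hexp]]
    simp only [map_add, map_smul, h.sq]
    module
  have K1 := key u hu huκ uv (fun z z1 z2 => ⟨_, _, uA1 z z1 z2⟩)
  have K2 := key u' hu' hu'κ u'v (fun z z1 z2 => ⟨f z w * d, -(f z (κ w)), by
    rw [uA2 z z1 z2]
    simp only [map_add, map_smul, h.sq]
    module⟩)
  -- `κ' = g⁻¹ κ g`
  set R : V → V := fun z => (-(f z (κ w))) • v + f z w • κ v with hR
  have KR1 : ∀ y, f y v = 0 ∧ f y (κ v) = 0 → g⁻¹ (κ (g (R y))) = R (g⁻¹ (κ (g y))) := by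
    intro y hy
    have h3 := K1 y hy
    have hy' := hgp' _ (hkp _ (hgp y hy))
    rw [uA1 y hy.1 hy.2, uA1 _ hy'.1 hy'.2] at h3
    have e1 : y + (-(f y (κ w))) • v + f y w • κ v - y = R y := by
      show _ = (-(f y (κ w))) • v + f y w • κ v
      abel
    rw [e1] at h3
    rw [h3]
    show _ = (-(f (g⁻¹ (κ (g y))) (κ w))) • v + f (g⁻¹ (κ (g y))) w • κ v
    abel
  have KR2 : ∀ y, f y v = 0 ∧ f y (κ v) = 0 → g⁻¹ (κ (g (κ (R y)))) = κ (R (g⁻¹ (κ (g y)))) := by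
    intro y hy
    have h3 := K2 y hy
    have hy' := hgp' _ (hkp _ (hgp y hy))
    rw [uA2 y hy.1 hy.2, uA2 _ hy'.1 hy'.2] at h3
    have e1 : y + κ ((-(f y (κ w))) • v + f y w • κ v) - y = κ (R y) := by
      show _ = κ ((-(f y (κ w))) • v + f y w • κ v)
      abel
    rw [e1] at h3
    rw [h3]
    show _ = κ ((-(f (g⁻¹ (κ (g y))) (κ w))) • v + f (g⁻¹ (κ (g y))) w • κ v)
    abel
  have hwperp : f w v = 0 ∧ f w (κ v) = 0 := ⟨hV.a6, hV.a7⟩
  have hRw : R w = v := by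
    rw [hR]
    simp only [hV.a2, h.alt, neg_neg, one_smul, zero_smul, add_zero]
  -- `κ'` commutes with `κ` on `v`
  have hcomm : g⁻¹ (κ (g (κ v))) = κ (g⁻¹ (κ (g v))) := by
    have t1 := KR1 w hwperp
    have t2 := KR2 w hwperp
    rw [hRw] at t1 t2
    rw [t2, t1]
  -- `κ' v ∈ K v`
  obtain ⟨a, b, hab⟩ : ∃ a b : F, g⁻¹ (κ (g v)) = a • v + b • κ v := by
    apply hA'
    refine ⟨a₂ * d, a₁, ?_⟩
    rw [hgv, map_add, map_smul, map_smul, h.sq]
    module
  have hκ'2 : ∀ x, g⁻¹ (κ (g (g⁻¹ (κ (g x))))) = d • x := by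
    intro x
    rw [apply_inv_apply, h.sq, map_smul, inv_apply_apply]
  have hsq := hκ'2 v
  rw [hab] at hsq
  have e1 : g⁻¹ (κ (g (a • v + b • κ v))) = (a * a + b * b * d) • v + (2 * (a * b)) • κ v := by
    simp only [map_add, map_smul] at hcomm hab ⊢
    rw [hcomm, hab]
    simp only [map_add, map_smul, h.sq]
    module
  rw [e1] at hsq
  have e2 : (a * a + b * b * d - d) • v + (2 * (a * b)) • κ v = 0 := by
    have := sub_eq_zero.2 hsq
    rw [← this]
    module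
  obtain ⟨z1, z2⟩ := hind _ _ e2
  have ha0 : a = 0 := by
    by_contra ha
    have hb0 : b = 0 := (mul_eq_zero.1 ((mul_eq_zero.1 z2).resolve_left h2)).resolve_left ha
    rw [hb0] at z1
    exact h.nsq a (by linear_combination z1)
  rw [ha0] at z1 hab
  have hbb : b * b = 1 := by
    have : d * (b * b - 1) = 0 := by linear_combination z1
    exact sub_eq_zero.1 ((mul_eq_zero.1 this).resolve_left hd)
  rw [zero_smul, zero_add] at hab
  -- `ε = b`
  have hgv1 : κ (g v) = b • g (κ v) := by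
    have := congrArg (fun x => g x) hab
    simp only [apply_inv_apply, map_smul] at this
    exact this
  have hgv2 : g (κ v) = b • κ (g v) := by rw [hgv1, smul_smul, hbb, one_smul]
  -- `κ' w ≡ ε κ w`
  obtain ⟨s, t, hst⟩ : ∃ s t : F, g⁻¹ (κ (g w)) = b • κ w + s • v + t • κ v := by
    have t1 := KR1 w hwperp
    rw [hRw, hab] at t1
    have hy' := hgp' _ (hkp _ (hgp w hwperp))
    have hexp := h.expand_perp hF hy'.1 hy'.2
    -- `R y = b • κ v` gives the coefficients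
    have t1' : b • κ v = (-(f (g⁻¹ (κ (g w))) (κ w))) • v + f (g⁻¹ (κ (g w))) w • κ v := t1
    have t2 : (-(f (g⁻¹ (κ (g w))) (κ w))) • v + (f (g⁻¹ (κ (g w))) w - b) • κ v = 0 := by
      have := sub_eq_zero.2 t1'.symm
      rw [← this]
      module
    obtain ⟨q1, q2⟩ := hind _ _ t2
    rw [q1, sub_eq_zero.1 q2] at hexp
    refine ⟨-(f (g⁻¹ (κ (g w))) (κ v')), f (g⁻¹ (κ (g w))) v', hexp.trans ?_⟩
    rw [zero_smul, add_zero]
    abel
  have hgw : κ (g w) = b • g (κ w) + s • g v + t • g (κ v) := by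
    have := congrArg (fun x => g x) hst
    simp only [apply_inv_apply, map_add, map_smul] at this
    exact this
  have hgw2 : g (κ w) = b • κ (g w) - (b * s) • g v - (b * t) • g (κ v) := by
    rw [hgw]
    have : b • (b • g (κ w) + s • g v + t • g (κ v)) - (b * s) • g v - (b * t) • g (κ v) = (b * b) • g (κ w) := by module
    rw [this, hbb, one_smul]
  -- the new frame
  have pr := h.pres g hg
  have q1 : f (κ (g v)) (g v) = 0 := by rw [hgv1, map_smul, LinearMap.smul_apply, pr, hF.vv, smul_zero]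
  have q2 : f (κ (g w)) (g w) = b := by
    rw [hgw, map_add, map_add, map_smul, map_smul, map_smul, LinearMap.add_apply, LinearMap.add_apply,
      LinearMap.smul_apply, LinearMap.smul_apply, LinearMap.smul_apply, pr, pr, pr, hF.ww, hF.vw, hF.kvw]
    simp
  have q3 : f (g v) (g w) = 0 := by rw [pr, hF.vw]
  have q4 : f (κ (g v)) (g w) = 0 := by rw [hgv1, map_smul, LinearMap.smul_apply, pr, hF.kvw, smul_zero]
  have q5 : f (g v) (g v') = 0 := by rw [pr, hF.vp]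
  have q6 : f (κ (g v)) (g v') = b := by
    rw [hgv1, map_smul, LinearMap.smul_apply, pr, hF.kvp, smul_eq_mul, mul_one]
  have q7 : f (g w) (g v') = 0 := by rw [pr, hF.wp]
  set μ := f (κ (g w)) (g v') with hμ
  have q8 : f (g w) (g v) = 0 := by rw [h.skew, q3, neg_zero]
  have q9 : f (κ (g w)) (g v) = 0 := by rw [h.symm, q4]
  set p := g v' + (-(b * μ)) • g w with hp
  set ν := -(b * f (κ p) p / 2) with hν
  have hb0 : b ≠ 0 := by
    rintro rfl
    rw [mul_zero] at hbb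
    exact zero_ne_one hbb
  have hF₁ : Fr f κ b (g v) (g w) (p + ν • g v) := by
    refine ⟨q1, q2, ?_, ?_, ?_, q3, q4, ?_, ?_⟩
    · rw [h.q_add, h.q_smul, q1, mul_zero, add_zero, map_smul, h.symm p (g v), smul_eq_mul]
      have : f (κ (g v)) p = b := by
        rw [hp, map_add, map_smul, q6, q4, smul_zero, add_zero]
      rw [this, hν]
      have e5 : f (κ p) p + 2 * (-(b * f (κ p) p / 2) * b) = f (κ p) p - (b * b) * f (κ p) p := by
        field_simp
        ring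
      rw [e5, hbb]
      ring
    · rw [map_add, map_smul, hp, map_add, map_smul, q5, q3, h.alt]
      simp
    · rw [map_add, map_smul, hp, map_add, map_smul, q6, q4, q1]
      simp
    · rw [map_add, map_smul, hp, map_add, map_smul, q7, h.alt, q8]
      simp
    · rw [map_add, map_smul, hp, map_add, map_smul, ← hμ, q2, q9]
      have : μ + -(b * μ) * b = μ - (b * b) * μ := by ring
      rw [smul_eq_mul, this, hbb]
      simp
  obtain ⟨k, hk, hkκ, k1, k2, -⟩ := h.exists_ext hbb hF hF₁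
  -- `g' = k⁻¹ g`
  set g' := k⁻¹ * g with hg'
  have hg'M : g' ∈ M := M.mul_mem (M.inv_mem hk) hg
  have g'x : ∀ x, g' x = k⁻¹ (g x) := fun x => rfl
  have hkinv : ∀ x y, k x = y → k⁻¹ y = x := by
    rintro x _ rfl
    exact inv_apply_apply k x
  have r1 : g' v = v := by rw [g'x]; exact hkinv _ _ k1
  have r2 : g' (κ v) = κ v := by
    rw [g'x, hgv2]
    apply hkinv
    rw [hkκ, k1]
  have r3 : g' w = w := by rw [g'x]; exact hkinv _ _ k2
  have r4 : g' (κ w) = κ w + (-(b * s)) • v + (-(b * t)) • κ v := by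
    rw [g'x, hgw2]
    apply hkinv
    rw [map_add, map_add, map_smul, map_smul, hkκ, hkκ, k1, k2, hgv2]
    module
  obtain ⟨r5, r6⟩ := h.klin hF hnt hg'M r1 r2 (x₁ := 0) (x₂ := 0) (by rw [r3]; simp) r4
  rw [r5, r6] at r4
  simp only [mul_zero, zero_smul, add_zero] at r4
  obtain ⟨α, β, γ, hS⟩ := h.eq_Sm hF hg'M r1 r2 r3 r4
  have hzero : α + d * γ = 0 ∧ β = 0 := by
    by_contra hcon
    have hne : α + d * γ ≠ 0 ∨ β ≠ 0 := by
      by_contra hcon'
      push Not at hcon'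
      exact hcon hcon'
    exact hnt (h.all_of_first hv0 hF.vv (h.Sm_trans hv0 hF.vv ⟨g', hg'M, hS⟩ hne))
  have hlin : ∀ x, g' (κ x) = κ (g' x) := by
    intro x
    rw [hS, hS]
    unfold Sm
    rw [hzero.2, eq_neg_of_add_eq_zero_left hzero.1]
    have k1 : f (κ x) v = - f x (κ v) := h.adj x v
    simp only [map_add, map_smul, h.sq, h.kk, k1]
    module
  refine ⟨b, hbb, fun x => ?_⟩
  have e6 : ∀ x, g x = k (g' x) := fun x => by rw [g'x, apply_inv_apply]
  rw [e6, e6, hlin, hkκ]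

end H6

end Cfsg.Agent.H914.UniThree
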